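import Cfsg.Agent.H36.TwoTori.Table
import Cfsg.Agent.CharBasic.Orth
import Cfsg.Agent.CharInduce.Gallagher

/-!
# Inner products of the signed characters of a table
-/

set_option autoImplicit false
set_option linter.unusedSectionVars false

namespace Cfsg.Agent.H36.TwoTori

open Finset
open scoped ComplexConjugate

universe v

variable {H A B : Type v} [Group H] [Fintype H] [CommGroup A] [Fintype A] [CommGroup B] [Fintype B]
  {Q : ℤ} (D : Table H A B Q)

namespace Table

theorem sigma_sq : (D.σ : ℂ) * D.σ = 1 := by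
  rcases D.σ_pm with h | h <;> rw [h] <;> norm_num

theorem sigma_ne : (D.σ : ℂ) ≠ 0 := fun h => by
  have := D.sigma_sq; rw [h, zero_mul] at this; exact zero_ne_one this

theorem smul_smul_self (f : H → ℂ) : (D.σ : ℂ) • ((D.σ : ℂ) • f) = f := by
  rw [smul_smul, D.sigma_sq, one_smul]

theorem classInner_smul_smul (f g : H → ℂ) :
    Cfsg.classInner ((D.σ : ℂ) • f) ((D.σ : ℂ) • g) = Cfsg.classInner f g := by
  rw [CharBasic.classInner_smul_left, CharBasic.classInner_smul_right, map_intCast, ← mul_assoc,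
    D.sigma_sq, one_mul]

theorem lin_at_one (α : A →* ℂˣ) : D.lin α 1 = 1 := by
  have h := D.lin_centre α 1
  rw [show ((1 : A), (1 : A)) = (1 : A × A) from rfl, map_one] at h
  simpa using h

theorem st_at_one (α : A →* ℂˣ) : D.st α 1 = (Q : ℂ) := by
  have h := D.st_centre α 1
  rw [show ((1 : A), (1 : A)) = (1 : A × A) from rfl, map_one] at h
  simpa using h

theorem ps_at_one (α β : A →* ℂˣ) : D.ps α β 1 = (Q : ℂ) + 1 := by
  have h := D.ps_centre α β 1
  rw [show ((1 : A), (1 : A)) = (1 : A × A) from rfl, map_one] at h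
  simpa using h

theorem cu_at_one (θ : B →* ℂˣ) : D.cu θ 1 = (Q : ℂ) - 1 := by
  have h := D.cu_centre θ 1
  rw [show ((1 : A), (1 : A)) = (1 : A × A) from rfl, map_one] at h
  simpa using h

/-- A group is not the union of two proper subgroups. -/
theorem dichotomy {C M : Type*} [Group C] [CommMonoid M] {f g g' : C →* M}
    (h : ∀ x, f x = g x ∨ f x = g' x) : f = g ∨ f = g' := by
  by_contra hc
  rw [not_or] at hc
  obtain ⟨⟨x, hx⟩, ⟨y, hy⟩⟩ := And.intro (not_forall.1 fun h' => hc.1 (MonoidHom.ext h'))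
    (not_forall.1 fun h' => hc.2 (MonoidHom.ext h'))
  have hx' : x ∈ f.eqLocus g' := (h x).resolve_left hx
  have hy' : y ∈ f.eqLocus g := (h y).resolve_right hy
  rcases h (x * y) with e | e
  · exact hx (((f.eqLocus g).mul_mem_cancel_right hy').1 e)
  · exact hy (((f.eqLocus g').mul_mem_cancel_left hx').1 e)

theorem lin_injective : Function.Injective D.lin := by
  intro α β h
  refine MonoidHom.ext fun a => Units.ext ?_
  by_cases ha : a = 1
  · simp [ha]
  · have h1 := congrFun h (D.T (a, 1))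
    rw [D.lin_T _ _ _ ha, D.lin_T _ _ _ ha] at h1
    simpa using h1

theorem st_injective : Function.Injective D.st := by
  intro α β h
  refine MonoidHom.ext fun a => Units.ext ?_
  by_cases ha : a = 1
  · simp [ha]
  · have h1 := congrFun h (D.T (a, 1))
    rw [D.st_T _ _ _ ha, D.st_T _ _ _ ha] at h1
    simpa using h1

theorem pair_eq {x y z w : ℂ} (h1 : x + y = z + w) (h2 : x * y = z * w) : x = z ∨ x = w := by
  have h : (x - z) * (x - w) = 0 := by linear_combination (x : ℂ) * h1 - h2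
  rcases mul_eq_zero.1 h with h | h
  · exact Or.inl (sub_eq_zero.1 h)
  · exact Or.inr (sub_eq_zero.1 h)

theorem ps_eq {α β α' β' : A →* ℂˣ} (h : D.ps α β = D.ps α' β') :
    (α = α' ∧ β = β') ∨ (α = β' ∧ β = α') := by
  have hne : (Q : ℂ) + 1 ≠ 0 := by
    have h3 := D.three_le
    have : Q + 1 ≠ 0 := by rcases D.σ_pm with hh | hh <;> rw [hh] at h3 <;> omega
    exact_mod_cast this
  have hprod : ∀ a, (α a : ℂ) * β a = (α' a : ℂ) * β' a := fun a => by
    have h1 := congrFun h (D.T (a, a))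
    rw [D.ps_centre, D.ps_centre] at h1
    exact mul_left_cancel₀ hne h1
  have hsum : ∀ a, (α a : ℂ) + β a = (α' a : ℂ) + β' a := fun a => by
    by_cases ha : a = 1
    · simp [ha]
    · have h1 := congrFun h (D.T (a, 1))
      rw [D.ps_T _ _ _ _ ha, D.ps_T _ _ _ _ ha] at h1
      simpa using h1
  rcases dichotomy (f := α) (g := α') (g' := β') fun a => by
    rcases pair_eq (hsum a) (hprod a) with e | e
    · exact Or.inl (Units.ext e)
    · exact Or.inr (Units.ext e) with e | e
  · refine Or.inl ⟨e, MonoidHom.ext fun a => Units.ext ?_⟩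
    have h1 := hsum a
    rw [e] at h1
    exact add_left_cancel h1
  · refine Or.inr ⟨e, MonoidHom.ext fun a => Units.ext ?_⟩
    have h1 := hsum a
    rw [e, add_comm ((α' a : ℂ))] at h1
    exact add_left_cancel h1

theorem frob_incl (a : A) : (D.incl a) ^ Q = D.incl a := by
  have h : a ^ (Q - 1) = 1 := by
    have h1 : a ^ (Nat.card A : ℤ) = 1 := by rw [zpow_natCast, pow_card_eq_one']
    rw [D.cardA] at h1
    rcases D.σ_pm with hh | hh <;> rw [hh] at h1
    · simpa using h1
    · rw [neg_one_mul, zpow_neg, inv_eq_one] at h1; exact h1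
  have h2 : a ^ (Q - 1 + 1) = a := by rw [zpow_add, h, one_mul, zpow_one]
  rw [sub_add_cancel] at h2
  rw [← map_zpow, h2]

theorem cu_eq {θ θ' : B →* ℂˣ} (h : D.cu θ = D.cu θ') :
    θ = θ' ∨ ∀ y, θ y = θ' (y ^ Q) := by
  have hne : (Q : ℂ) - 1 ≠ 0 := by
    have h3 := D.three_le
    have : Q - 1 ≠ 0 := by rcases D.σ_pm with hh | hh <;> rw [hh] at h3 <;> omega
    exact_mod_cast this
  have hc : ∀ a, (θ (D.incl a) : ℂ) = θ' (D.incl a) := fun a => by
    have h1 := congrFun h (D.T (a, a))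
    rw [D.cu_centre, D.cu_centre] at h1
    exact mul_left_cancel₀ hne h1
  let ψ : B →* ℂˣ := θ'.comp ⟨⟨fun y => y ^ Q, one_zpow Q⟩, fun y z => mul_zpow y z Q⟩
  rcases dichotomy (f := θ) (g := θ') (g' := ψ) fun y => by
    have hp : (θ y : ℂ) * θ (y ^ Q) = (θ' y : ℂ) * θ' (y ^ Q) := by
      rw [← Units.val_mul, ← Units.val_mul, ← map_mul, ← map_mul, ← zpow_one_add, add_comm,
        ← D.incl_norm]
      exact hc _
    by_cases hy : y ∈ D.incl.range
    · obtain ⟨a, rfl⟩ := hy
      exact Or.inl (Units.ext (hc a))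
    · have h1 := congrFun h (D.S y)
      rw [D.cu_S _ _ hy, D.cu_S _ _ hy, neg_inj] at h1
      rcases pair_eq h1 hp with e | e
      · exact Or.inl (Units.ext e)
      · exact Or.inr (Units.ext e) with e | e
  · exact Or.inl e
  · exact Or.inr fun y => DFunLike.congr_fun e y

theorem isIrr_ne {f g : H → ℂ} (hf : Cfsg.IsIrrCharacter H f) (hg : Cfsg.IsIrrCharacter H g)
    (h : f 1 ≠ g 1) : Cfsg.classInner f g = 0 :=
  CharBasic.classInner_irr_of_ne hf hg fun e => h (congrFun e 1)

theorem deg_ne : (1 : ℂ) ≠ (D.σ : ℂ) * Q ∧ (1 : ℂ) ≠ (D.σ : ℂ) * ((Q : ℂ) + 1) ∧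
    (1 : ℂ) ≠ (D.σ : ℂ) * ((Q : ℂ) - 1) := by
  have h3 := D.three_le
  have : (1 : ℤ) ≠ D.σ * Q ∧ (1 : ℤ) ≠ D.σ * (Q + 1) ∧ (1 : ℤ) ≠ D.σ * (Q - 1) := by
    rcases D.σ_pm with hh | hh <;> rw [hh] at h3 ⊢ <;> refine ⟨?_, ?_, ?_⟩ <;> omega
  exact ⟨by exact_mod_cast this.1, by exact_mod_cast this.2.1, by exact_mod_cast this.2.2⟩

variable (α β α' β' : A →* ℂˣ) (θ θ' : B →* ℂˣ)

open scoped Classical in
theorem inner_lin : Cfsg.classInner (D.lin α) (D.lin α') = if α = α' then 1 else 0 := by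
  split_ifs with h
  · rw [h, CharBasic.classInner_irr_self (D.irr_lin α')]
  · exact CharBasic.classInner_irr_of_ne (D.irr_lin α) (D.irr_lin α') fun e => h (D.lin_injective e)

open scoped Classical in
theorem inner_st : Cfsg.classInner (D.st α) (D.st α') = if α = α' then 1 else 0 := by
  rw [← D.classInner_smul_smul]
  split_ifs with h
  · rw [h, CharBasic.classInner_irr_self (D.irr_st α')]
  · refine CharBasic.classInner_irr_of_ne (D.irr_st α) (D.irr_st α') fun e => h (D.st_injective ?_)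
    rw [← D.smul_smul_self (D.st α), e, D.smul_smul_self]

theorem inner_lin_st : Cfsg.classInner (D.lin α) (D.st α') = 0 := by
  have h := isIrr_ne (D.irr_lin α) (D.irr_st α') (by
    simpa [lin_at_one, st_at_one] using D.deg_ne.1)
  rw [CharBasic.classInner_smul_right, map_intCast, mul_eq_zero] at h
  exact h.resolve_left D.sigma_ne

theorem inner_st_lin : Cfsg.classInner (D.st α) (D.lin α') = 0 := by
  rw [← CharBasic.classInner_conj_symm (D.lin α') (D.st α), D.inner_lin_st, map_zero]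

theorem inner_lin_ps (h : α' ≠ β') : Cfsg.classInner (D.lin α) (D.ps α' β') = 0 := by
  have h := isIrr_ne (D.irr_lin α) (D.irr_ps α' β' h) (by
    simpa [lin_at_one, ps_at_one] using D.deg_ne.2.1)
  rw [CharBasic.classInner_smul_right, map_intCast, mul_eq_zero] at h
  exact h.resolve_left D.sigma_ne

theorem inner_lin_cu (h : ∃ y, θ' (y ^ Q) ≠ θ' y) : Cfsg.classInner (D.lin α) (D.cu θ') = 0 := by
  have h := isIrr_ne (D.irr_lin α) (D.irr_cu θ' h) (by
    simpa [lin_at_one, cu_at_one] using D.deg_ne.2.2)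
  rw [CharBasic.classInner_smul_right, map_intCast, mul_eq_zero] at h
  exact h.resolve_left D.sigma_ne

theorem inner_st_ps (h : α' ≠ β') : Cfsg.classInner (D.st α) (D.ps α' β') = 0 := by
  rw [← D.classInner_smul_smul]
  exact isIrr_ne (D.irr_st α) (D.irr_ps α' β' h) (by simp [st_at_one, ps_at_one, D.sigma_ne])

theorem inner_st_cu (h : ∃ y, θ' (y ^ Q) ≠ θ' y) : Cfsg.classInner (D.st α) (D.cu θ') = 0 := by
  rw [← D.classInner_smul_smul]
  exact isIrr_ne (D.irr_st α) (D.irr_cu θ' h) (by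
    simp only [Pi.smul_apply, smul_eq_mul, st_at_one, cu_at_one, ne_eq]
    intro e
    exact one_ne_zero (α := ℂ) (by linear_combination mul_left_cancel₀ D.sigma_ne e))

theorem inner_ps_cu (h : α ≠ β) (h' : ∃ y, θ' (y ^ Q) ≠ θ' y) :
    Cfsg.classInner (D.ps α β) (D.cu θ') = 0 := by
  rw [← D.classInner_smul_smul]
  exact isIrr_ne (D.irr_ps α β h) (D.irr_cu θ' h') (by
    simp only [Pi.smul_apply, smul_eq_mul, ps_at_one, cu_at_one, ne_eq]
    intro e
    exact two_ne_zero (α := ℂ) (by linear_combination mul_left_cancel₀ D.sigma_ne e))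

open scoped Classical in
theorem inner_ps (h : α ≠ β) (h' : α' ≠ β') : Cfsg.classInner (D.ps α β) (D.ps α' β') =
    if D.ps α β = D.ps α' β' then 1 else 0 := by
  rw [← D.classInner_smul_smul]
  split_ifs with e
  · rw [e, CharBasic.classInner_irr_self (D.irr_ps α' β' h')]
  · refine CharBasic.classInner_irr_of_ne (D.irr_ps α β h) (D.irr_ps α' β' h') fun e' => e ?_
    rw [← D.smul_smul_self (D.ps α β), e', D.smul_smul_self]

open scoped Classical in
theorem inner_cu (h : ∃ y, θ (y ^ Q) ≠ θ y) (h' : ∃ y, θ' (y ^ Q) ≠ θ' y) :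
    Cfsg.classInner (D.cu θ) (D.cu θ') = if D.cu θ = D.cu θ' then 1 else 0 := by
  rw [← D.classInner_smul_smul]
  split_ifs with e
  · rw [e, CharBasic.classInner_irr_self (D.irr_cu θ' h')]
  · refine CharBasic.classInner_irr_of_ne (D.irr_cu θ h) (D.irr_cu θ' h') fun e' => e ?_
    rw [← D.smul_smul_self (D.cu θ), e', D.smul_smul_self]

end Table

end Cfsg.Agent.H36.TwoTori
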