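import Mathlib

/-!
# Integer vectors on `ZMod N` and on its square: transforms, Parseval, the three rotations

`Spec p` is the condition on a point of `(ZMod N) ^ 2` (`N` a power of two) that some multiple of it is
`(N / 2, N / 2)`.
-/

set_option autoImplicit false

namespace Cfsg.Agent.H84.WR

open Finset
open scoped ComplexConjugate

variable {N : ℕ} [NeZero N]

/-- The standard character. -/
noncomputable def ee (x : ZMod N) : ℂ := ZMod.stdAddChar x

theorem ee_add (x y : ZMod N) : ee (x + y) = ee x * ee y := AddChar.map_add_eq_mul _ _ _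

theorem ee_zero : ee (0 : ZMod N) = 1 := AddChar.map_zero_eq_one _

theorem conj_ee (x : ZMod N) : conj (ee x) = ee (-x) := (AddChar.map_neg_eq_conj _ x).symm

theorem sum_ee (b : ZMod N) : ∑ x : ZMod N, ee (x * b) = if b = 0 then (N : ℂ) else 0 := by
  simp only [ee]
  rw [AddChar.sum_mulShift b (ZMod.isPrimitive_stdAddChar N), ZMod.card]
  split_ifs <;> simp

/-- The transform on the cyclic group. -/
noncomputable def hat₁ (v : ZMod N → ℤ) (z : ZMod N) : ℂ := ∑ w, (v w : ℂ) * ee (w * z)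

/-- The transform on the square. -/
noncomputable def hat₂ (v : ZMod N × ZMod N → ℤ) (p : ZMod N × ZMod N) : ℂ :=
  ∑ k : ZMod N × ZMod N, (v k : ℂ) * ee (k.1 * p.1 + k.2 * p.2)

theorem parseval₁ (v w : ZMod N → ℤ) :
    ∑ z, hat₁ v z * conj (hat₁ w z) = (N : ℂ) * ∑ i, (v i : ℂ) * (w i : ℂ) := by
  simp only [hat₁, map_sum, map_mul, map_intCast, conj_ee, Finset.sum_mul_sum]
  rw [Finset.sum_comm, Finset.mul_sum]
  refine Finset.sum_congr rfl fun i _ => ?_
  rw [Finset.sum_comm]
  have h : ∀ j, ∑ z, (v i : ℂ) * ee (i * z) * ((w j : ℂ) * ee (-(j * z))) =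
      (v i : ℂ) * (w j : ℂ) * if i = j then (N : ℂ) else 0 := by
    intro j
    rw [← show ∑ z, ee (z * (i - j)) = (if i = j then (N : ℂ) else 0) by
      simp [sum_ee, sub_eq_zero], Finset.mul_sum]
    refine Finset.sum_congr rfl fun z _ => ?_
    rw [show z * (i - j) = i * z + -(j * z) by ring, ee_add]
    ring
  simp only [h, mul_ite, mul_zero, Finset.sum_ite_eq, Finset.mem_univ, if_true]
  ring

theorem parseval₂ (v w : ZMod N × ZMod N → ℤ) :
    ∑ p, hat₂ v p * conj (hat₂ w p) = (N : ℂ) ^ 2 * ∑ k, (v k : ℂ) * (w k : ℂ) := by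
  simp only [hat₂, map_sum, map_mul, map_intCast, conj_ee, Finset.sum_mul_sum]
  rw [Finset.sum_comm, Finset.mul_sum]
  refine Finset.sum_congr rfl fun i _ => ?_
  rw [Finset.sum_comm]
  have h : ∀ j, ∑ p : ZMod N × ZMod N, (v i : ℂ) * ee (i.1 * p.1 + i.2 * p.2) *
      ((w j : ℂ) * ee (-(j.1 * p.1 + j.2 * p.2))) =
      (v i : ℂ) * (w j : ℂ) * if i = j then (N : ℂ) ^ 2 else 0 := by
    intro j
    have hsum : ∑ p : ZMod N × ZMod N, ee (p.1 * (i.1 - j.1)) * ee (p.2 * (i.2 - j.2)) =
        if i = j then (N : ℂ) ^ 2 else 0 := by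
      rw [Fintype.sum_prod_type]
      simp only [← Finset.mul_sum, ← Finset.sum_mul, sum_ee, sub_eq_zero, Prod.ext_iff]
      split_ifs <;> simp_all [sq]
    rw [← hsum, Finset.mul_sum]
    refine Finset.sum_congr rfl fun p _ => ?_
    rw [← ee_add, show p.1 * (i.1 - j.1) + p.2 * (i.2 - j.2) =
      (i.1 * p.1 + i.2 * p.2) + -(j.1 * p.1 + j.2 * p.2) by ring, ee_add (i.1 * p.1 + i.2 * p.2)]
    generalize ee (i.1 * p.1 + i.2 * p.2) = A
    generalize ee (-(j.1 * p.1 + j.2 * p.2)) = B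
    ring
  simp only [h, mul_ite, mul_zero, Finset.sum_ite_eq, Finset.mem_univ, if_true]
  ring

theorem hat₁_zero (v : ZMod N → ℤ) : hat₁ v 0 = ((∑ i, v i : ℤ) : ℂ) := by
  simp [hat₁, ee_zero]

theorem hat₂_zero (v : ZMod N × ZMod N → ℤ) : hat₂ v 0 = ((∑ k, v k : ℤ) : ℂ) := by
  simp [hat₂, ee_zero]

/-- The squares of the non-trivial transforms. -/
theorem sum_sq₁ (v : ZMod N → ℤ) :
    ∑ z, (if z = 0 then 0 else hat₁ v z * conj (hat₁ v z)) =
      (((N : ℤ) * ∑ i, v i ^ 2 - (∑ i, v i) ^ 2 : ℤ) : ℂ) := by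
  have h : ∀ z : ZMod N, (if z = 0 then 0 else hat₁ v z * conj (hat₁ v z)) =
      hat₁ v z * conj (hat₁ v z) - if z = 0 then hat₁ v 0 * conj (hat₁ v 0) else 0 := by
    intro z; split_ifs with h <;> simp [h]
  simp only [h, Finset.sum_sub_distrib, parseval₁, Finset.sum_ite_eq', Finset.mem_univ, if_true,
    hat₁_zero, map_intCast]
  push_cast
  simp only [sq]

theorem sum_sq₂ (v : ZMod N × ZMod N → ℤ) :
    ∑ p, (if p = 0 then 0 else hat₂ v p * conj (hat₂ v p)) =
      (((N : ℤ) ^ 2 * ∑ k, v k ^ 2 - (∑ k, v k) ^ 2 : ℤ) : ℂ) := by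
  have h : ∀ p : ZMod N × ZMod N, (if p = 0 then 0 else hat₂ v p * conj (hat₂ v p)) =
      hat₂ v p * conj (hat₂ v p) - if p = 0 then hat₂ v 0 * conj (hat₂ v 0) else 0 := by
    intro p; split_ifs with h <;> simp [h]
  simp only [h, Finset.sum_sub_distrib, parseval₂, Finset.sum_ite_eq', Finset.mem_univ, if_true,
    hat₂_zero, map_intCast]
  push_cast
  simp only [sq]

/-- A vector whose non-trivial transforms vanish is constant. -/
theorem const_of_hat₁ {v : ZMod N → ℤ} (h : ∀ z, z ≠ 0 → hat₁ v z = 0) :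
    ∀ w, v w = v 0 := by
  have h0 : (((N : ℤ) * ∑ i, v i ^ 2 - (∑ i, v i) ^ 2 : ℤ) : ℂ) = 0 := by
    rw [← sum_sq₁]
    exact Finset.sum_eq_zero fun z _ => by
      split_ifs with hz
      · rfl
      · simp [h z hz]
  have h1 : (N : ℤ) * ∑ i, v i ^ 2 - (∑ i, v i) ^ 2 = 0 := by exact_mod_cast h0
  set S := ∑ i, v i with hS
  have h2 : ∑ i, ((N : ℤ) * v i - S) ^ 2 = 0 := by
    have : ∀ i, ((N : ℤ) * v i - S) ^ 2 = (N : ℤ) ^ 2 * v i ^ 2 - 2 * N * S * v i + S ^ 2 :=
      fun i => by ring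
    simp only [this, Finset.sum_add_distrib, Finset.sum_sub_distrib, ← Finset.mul_sum,
      Finset.sum_const, Finset.card_univ, ZMod.card, nsmul_eq_mul]
    linear_combination (N : ℤ) * h1 + (2 * (N : ℤ) * S) * hS
  intro w
  have h3 := (Finset.sum_eq_zero_iff_of_nonneg fun i _ => sq_nonneg _).1 h2
  have hw := h3 w (Finset.mem_univ _)
  have h0' := h3 0 (Finset.mem_univ _)
  rw [pow_eq_zero_iff (by norm_num)] at hw h0'
  exact mul_left_cancel₀ (show (N : ℤ) ≠ 0 by exact_mod_cast NeZero.ne N) (by linarith)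

/-- The rotation of the square exchanging the diagonal with the first axis. -/
def rot (p : ZMod N × ZMod N) : ZMod N × ZMod N := (-p.1, p.2 - p.1)

/-- The rotation of the square exchanging the diagonal with the second axis. -/
def rot' (p : ZMod N × ZMod N) : ZMod N × ZMod N := (p.1 - p.2, -p.2)

theorem rot_rot (p : ZMod N × ZMod N) : rot (rot p) = p := by
  simp [rot]

theorem rot'_rot' (p : ZMod N × ZMod N) : rot' (rot' p) = p := by
  simp [rot']

section Two

variable (m : ℕ)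

/-- The half. -/
def half : ZMod (2 ^ m) := ((2 ^ (m - 1) : ℕ) : ZMod (2 ^ m))

/-- Some multiple is `(half, half)`. -/
def Spec (p : ZMod (2 ^ m) × ZMod (2 ^ m)) : Prop := ∃ k : ℕ, k • p = (half m, half m)

variable {m}

theorem half_ne_zero (hm : 1 ≤ m) : half m ≠ 0 := by
  intro h
  rw [half, ZMod.natCast_eq_zero_iff] at h
  have h1 := Nat.le_of_dvd (Nat.two_pow_pos _) h
  have h2 := (Nat.pow_le_pow_iff_right (by norm_num)).1 h1
  omega

theorem half_add (hm : 1 ≤ m) : half m + half m = 0 := by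
  rw [half, ← Nat.cast_add, show 2 ^ (m - 1) + 2 ^ (m - 1) = 2 ^ m by
    rw [← two_mul, ← pow_succ']; congr 1; omega, ZMod.natCast_self]

theorem neg_half (hm : 1 ≤ m) : -half m = half m :=
  neg_eq_of_add_eq_zero_left (half_add hm)

/-- An element killed by two is zero or the half. -/
theorem eq_half (hm : 1 ≤ m) {x : ZMod (2 ^ m)} (h : x + x = 0) : x = 0 ∨ x = half m := by
  have hN : 2 ^ m = 2 * 2 ^ (m - 1) := by rw [← pow_succ']; congr 1; omega
  have h1 : ((2 * x.val : ℕ) : ZMod (2 ^ m)) = 0 := by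
    rw [two_mul, Nat.cast_add, ZMod.natCast_zmod_val, h]
  rw [ZMod.natCast_eq_zero_iff] at h1
  replace h1 := (Nat.mul_dvd_mul_iff_left (a := 2) (by norm_num)).1 ((dvd_of_eq hN.symm).trans h1)
  obtain ⟨j, hj⟩ := h1
  have hlt := ZMod.val_lt x
  have hj2 : j < 2 := by
    by_contra hc
    have : 2 ^ (m - 1) * 2 ≤ 2 ^ (m - 1) * j := Nat.mul_le_mul_left _ (by omega)
    omega
  rcases Nat.lt_or_ge j 1 with hj1 | hj1
  · left
    rw [← ZMod.natCast_zmod_val x, hj, show j = 0 by omega, mul_zero, Nat.cast_zero]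
  · right
    rw [← ZMod.natCast_zmod_val x, hj, show j = 1 by omega, mul_one, half]

theorem spec_ne_zero (hm : 1 ≤ m) {p : ZMod (2 ^ m) × ZMod (2 ^ m)} (h : Spec m p) :
    p.1 ≠ 0 ∧ p.2 ≠ 0 := by
  obtain ⟨k, hk⟩ := h
  constructor <;> intro e
  · exact half_ne_zero hm (by have := congrArg Prod.fst hk; simpa [e] using this.symm)
  · exact half_ne_zero hm (by have := congrArg Prod.snd hk; simpa [e] using this.symm)

/-- Two odd coordinates. -/
theorem spec_of_odd {p : ZMod (2 ^ m) × ZMod (2 ^ m)} (hm : 1 ≤ m) (h1 : Odd p.1.val)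
    (h2 : Odd p.2.val) : Spec m p := by
  refine ⟨2 ^ (m - 1), ?_⟩
  have key : ∀ x : ZMod (2 ^ m), Odd x.val → (2 ^ (m - 1)) • x = half m := by
    intro x ⟨j, hj⟩
    have hN : 2 ^ m = 2 * 2 ^ (m - 1) := by rw [← pow_succ']; congr 1; omega
    have h2 : ((2 * 2 ^ (m - 1) : ℕ) : ZMod (2 ^ m)) = 0 := by rw [← hN, ZMod.natCast_self]
    rw [nsmul_eq_mul, ← ZMod.natCast_zmod_val x, hj, ← Nat.cast_mul,
      show 2 ^ (m - 1) * (2 * j + 1) = 2 * 2 ^ (m - 1) * j + 2 ^ (m - 1) by ring, Nat.cast_add,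
      Nat.cast_mul (2 * 2 ^ (m - 1)) j, h2, zero_mul, zero_add, half]
  exact Prod.ext (key _ h1) (key _ h2)

/-- The three sums agree. -/
theorem sum_spec (hm : 1 ≤ m) (F : ZMod (2 ^ m) × ZMod (2 ^ m) → ℂ)
    [DecidablePred (Spec m)] (h1 : ∀ p, F (rot p) = F p) (h2 : ∀ p, F (rot' p) = F p) :
    ∑ p, (if p = 0 then 0 else F p) = 3 * ∑ p, if Spec m p then F p else 0 := by
  have key : ∀ p : ZMod (2 ^ m) × ZMod (2 ^ m), (if p = 0 then 0 else F p) =
      (if Spec m p then F p else 0) + (if Spec m (rot p) then F (rot p) else 0) +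
        (if Spec m (rot' p) then F (rot' p) else 0) := by
    intro p
    rw [h1, h2]
    by_cases hp : p = 0
    · subst hp
      have hz : ¬ Spec m (0 : ZMod (2 ^ m) × ZMod (2 ^ m)) := fun h => (spec_ne_zero hm h).1 rfl
      simp [rot, rot', ← Prod.zero_eq_mk, hz]
    rw [if_neg hp]
    -- the involution among the multiples
    obtain ⟨s, hs⟩ : ∃ s, addOrderOf p = 2 ^ (s + 1) := by
      obtain ⟨s, -, hs⟩ := (Nat.dvd_prime_pow Nat.prime_two).1 (addOrderOf_dvd_of_nsmul_eq_zero
        (show (2 ^ m) • p = 0 by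
          have h0 : (2 : ZMod (2 ^ m)) ^ m = 0 := by
            have := ZMod.natCast_self (2 ^ m); push_cast at this; exact this
          refine Prod.ext ?_ ?_ <;> simp [nsmul_eq_mul, h0]))
      rcases Nat.eq_zero_or_pos s with rfl | hpos
      · exact absurd (AddMonoid.addOrderOf_eq_one_iff.1 (by simpa using hs)) hp
      · exact ⟨s - 1, by rw [hs]; congr 1; omega⟩
    set z := (2 ^ s) • p with hz
    have hz2 : z + z = 0 := by
      rw [hz, ← add_nsmul, ← two_mul, ← pow_succ', ← hs, addOrderOf_nsmul_eq_zero]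
    have hz0 : z ≠ 0 := by
      rw [hz]; intro h
      have h1 := addOrderOf_dvd_of_nsmul_eq_zero h
      rw [hs, Nat.pow_dvd_pow_iff_le_right (by norm_num)] at h1
      omega
    have hiff : ∀ (f : ZMod (2 ^ m) × ZMod (2 ^ m) → ZMod (2 ^ m) × ZMod (2 ^ m)),
        (∀ (k : ℕ) q, f (k • q) = k • f q) → (∀ q, f (f q) = q) →
        (Spec m (f p) ↔ f z = (half m, half m)) := by
      intro f hf hinv
      constructor
      · rintro ⟨k, hk⟩
        rw [← hf] at hk
        have h2 : (k + k) • p = 0 := by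
          have : f ((k + k) • p) = 0 := by
            rw [hf, add_nsmul, ← hf, hk]
            exact Prod.ext (half_add hm) (half_add hm)
          have h0 : f 0 = 0 := by have := hf 0 0; simpa using this
          rw [← hinv ((k + k) • p), this, h0]
        obtain ⟨j, hj⟩ : 2 ^ s ∣ k := by
          have h := addOrderOf_dvd_of_nsmul_eq_zero h2
          rw [hs, pow_succ', ← two_mul] at h
          exact (Nat.mul_dvd_mul_iff_left (by norm_num)).1 h
        have hjodd : Odd j := by
          by_contra hev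
          obtain ⟨i, hi⟩ := Nat.not_odd_iff_even.1 hev
          have : k • p = 0 := by
            rw [hj, hi, show 2 ^ s * (i + i) = i * addOrderOf p by rw [hs]; ring, mul_nsmul',
              addOrderOf_nsmul_eq_zero, nsmul_zero]
          have h0 : f 0 = 0 := by have := hf 0 0; simpa using this
          rw [this, h0] at hk
          exact half_ne_zero hm (congrArg Prod.fst hk).symm
        obtain ⟨i, rfl⟩ := hjodd
        rw [hj, show 2 ^ s * (2 * i + 1) = i * addOrderOf p + 2 ^ s by rw [hs]; ring, add_nsmul,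
          mul_nsmul', addOrderOf_nsmul_eq_zero, nsmul_zero, zero_add] at hk
        exact hk
      · intro h
        exact ⟨2 ^ s, by rw [← hf]; exact h⟩
    have e0 := hiff id (fun _ _ => rfl) (fun _ => rfl)
    have e1 := hiff rot (fun k q => by
      refine Prod.ext ?_ ?_ <;> simp [rot, nsmul_eq_mul, mul_sub]) rot_rot
    have e2 := hiff rot' (fun k q => by
      refine Prod.ext ?_ ?_ <;> simp [rot', nsmul_eq_mul, mul_sub]) rot'_rot'
    simp only [id_eq] at e0
    simp only [e0, e1, e2]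
    have a := eq_half hm (congrArg Prod.fst hz2)
    have b := eq_half hm (congrArg Prod.snd hz2)
    have hh := half_ne_zero (m := m) hm
    rcases a with a | a <;> rcases b with b | b
    · exact absurd (Prod.ext a b) hz0
    all_goals simp [rot, rot', Prod.ext_iff, a, b, hh, hh.symm, neg_half hm]
  have hbij : ∀ f : ZMod (2 ^ m) × ZMod (2 ^ m) → ZMod (2 ^ m) × ZMod (2 ^ m), (∀ q, f (f q) = q) →
      ∑ p, (if Spec m (f p) then F (f p) else 0) = ∑ p, if Spec m p then F p else 0 :=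
    fun f hf => Equiv.sum_comp (Function.Involutive.toPerm f hf) fun p => if Spec m p then F p else 0
  rw [Finset.sum_congr rfl fun p _ => key p, Finset.sum_add_distrib, Finset.sum_add_distrib,
    hbij rot rot_rot, hbij rot' rot'_rot']
  ring

end Two

end Cfsg.Agent.H84.WR
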