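import Cfsg.Agent.H84.SD.Rows

/-!
# The rows of the three kinds of functions, wreathed case

`φ j = 1 - St + X j`, `S = (1 - sgn) (1 - St)`, `Ψ = 1 + sgn St - R`, with the two value rules coming
from the norm budget.
-/

set_option autoImplicit false
set_option linter.style.haveILetI false
set_option linter.unusedSectionVars false

namespace Cfsg.Agent.H84.WR

open Finset

/-- The integer data. -/
structure RowData (X : Type*) [Fintype X] (J : Type*) [Fintype J] (Q : ℤ) where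
  o : X
  d : X → ℤ
  q : X → ℤ
  φ : J → X → ℤ
  S : X → ℤ
  Ψ : X → ℤ
  d_one : d o = 1
  q_one : q o = 1
  d_pos : ∀ x, 0 < d x
  d_ne : ∀ x, x ≠ o → d x ≠ 1
  g11 : ∀ j, ∑ x, φ j x * φ j x = 3
  g12 : ∀ j k, j ≠ k → ∑ x, φ j x * φ k x = 2
  gss : ∑ x, S x * S x = 4
  gsp : ∀ j, ∑ x, S x * φ j x = 2
  gpp : ∑ x, Ψ x * Ψ x = 3
  gpf : ∀ j, ∑ x, Ψ x * φ j x = 1
  gps : ∑ x, Ψ x * S x = 2
  one1 : ∀ j, φ j o = 1
  one2 : S o = 1
  one3 : Ψ o = 1
  deg1 : ∀ j, ∑ x, φ j x * d x = 0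
  deg2 : ∑ x, S x * d x = 0
  deg3 : ∑ x, Ψ x * d x = 0
  col1 : ∀ j, ∑ x, φ j x * q x = 2 - 2 * Q
  col2 : ∑ x, S x * q x = 0
  col3 : ∑ x, Ψ x * q x = 0
  /-- the exceptional constituents -/
  val1 : ∀ x j (ε : ℤ), (ε = 1 ∨ ε = -1) → φ j x = ε → (∀ k, k ≠ j → φ k x = 0) →
    q x = ε * (1 - Q)
  /-- the constituent common to `S` and `Ψ` -/
  val2 : ∀ x (ε : ℤ), (ε = 1 ∨ ε = -1) → (∀ j, φ j x = 0) → S x = ε → Ψ x = ε →
    q x = ε * Q ∨ q x = ε * (-Q - 2)

theorem mul_self_of_pm {a : ℤ} (h : a = 1 ∨ a = -1) : a * a = 1 := by rcases h with rfl | rfl <;> rfl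

/-- A vector with entry one at a point: the other entries. -/
theorem others {X : Type*} [Fintype X] [DecidableEq X] {f : X → ℤ} {o : X} (ho : f o = 1) {n : ℕ}
    (hn : n ≤ 3) (h : ∑ x, f x * f x = n + 1) :
    ∃ s : Finset X, o ∉ s ∧ s.card = n ∧ (∀ x ∈ s, f x = 1 ∨ f x = -1) ∧
      ∀ x, x ≠ o → x ∉ s → f x = 0 := by
  classical
  rw [← Finset.add_sum_erase _ _ (Finset.mem_univ o), ho] at h
  have hsum : ∑ x ∈ Finset.univ.erase o, f x * f x = n := by linarith
  have hval : ∀ x, x ≠ o → f x = 0 ∨ f x = 1 ∨ f x = -1 := fun x hx => by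
    have h1 : f x * f x ≤ (n : ℤ) := hsum ▸ Finset.single_le_sum
      (f := fun y => f y * f y) (fun y _ => mul_self_nonneg (f y))
      (Finset.mem_erase.2 ⟨hx, Finset.mem_univ x⟩)
    have h2 : (n : ℤ) ≤ 3 := by exact_mod_cast hn
    have h3 : f x ≤ 1 := by nlinarith
    have h4 : -1 ≤ f x := by nlinarith
    omega
  refine ⟨(Finset.univ.erase o).filter fun x => f x ≠ 0, by simp, ?_, fun x hx => ?_,
    fun x hxo hx => by simpa [hxo] using hx⟩
  · have : ∀ x ∈ Finset.univ.erase o, f x * f x = if f x ≠ 0 then 1 else 0 := fun x hx => by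
      rcases hval x (Finset.ne_of_mem_erase hx) with h | h | h <;> simp [h]
    rw [Finset.sum_congr rfl this, Finset.sum_boole] at hsum
    exact_mod_cast hsum
  · simp only [Finset.mem_filter, Finset.mem_erase] at hx
    rcases hval x hx.1.1 with h | h | h
    · exact absurd h hx.2
    · exact Or.inl h
    · exact Or.inr h

variable {X : Type*} [Fintype X] {J : Type*} [Fintype J] {Q : ℤ}

namespace RowData

variable (D : RowData X J Q)

/-- The rows `φ j`: `1`, one entry common to all, one own entry. -/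
theorem shape_phi (hJ : 2 ≤ Fintype.card J) :
    ∃ F : X, ∃ α : ℤ, ∃ a : J → X, (α = 1 ∨ α = -1) ∧ F ≠ D.o ∧
      (∀ j, a j ≠ D.o ∧ a j ≠ F ∧ (D.φ j (a j) = 1 ∨ D.φ j (a j) = -1) ∧ D.φ j F = α ∧
        ∀ x, x ≠ D.o → x ≠ F → x ≠ a j → D.φ j x = 0) ∧
      Function.Injective a := by
  classical
  choose s hso hsc hsv hsz using fun j => others (D.one1 j) (n := 2) (by norm_num)
    (by rw [D.g11 j]; norm_num)
  have hinner : ∀ j k, j ≠ k → ∑ x ∈ s j, D.φ j x * D.φ k x = 1 := by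
    intro j k hjk
    have h := D.g12 j k hjk
    rw [← Finset.sum_subset (Finset.subset_univ (insert D.o (s j))) (fun x _ hx => by
      rw [Finset.mem_insert, not_or] at hx
      rw [hsz j x hx.1 hx.2, zero_mul]), Finset.sum_insert (hso j), D.one1, D.one1] at h
    linarith
  have hb : ∀ k x, x ≠ D.o → D.φ k x = 0 ∨ D.φ k x = 1 ∨ D.φ k x = -1 := fun k x hx => by
    by_cases h : x ∈ s k
    · exact Or.inr (hsv k x h)
    · exact Or.inl (hsz k x hx h)
  have hcommon : ∀ j k, j ≠ k → ∃ x y, x ≠ y ∧ x ≠ D.o ∧ y ≠ D.o ∧ s j = {x, y} ∧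
      D.φ k x = D.φ j x ∧ D.φ k y = 0 := by
    intro j k hjk
    obtain ⟨x, y, hxy, hs⟩ := Finset.card_eq_two.1 (hsc j)
    have h := hinner j k hjk
    rw [hs, Finset.sum_pair hxy] at h
    have hxo : x ≠ D.o := fun e => hso j (by rw [hs, ← e]; simp)
    have hyo : y ≠ D.o := fun e => hso j (by rw [hs, ← e]; simp)
    have hx := hsv j x (by rw [hs]; simp)
    have hy := hsv j y (by rw [hs]; simp)
    rcases hb k x hxo with h1 | h1
    · refine ⟨y, x, hxy.symm, hyo, hxo, by rw [hs, Finset.pair_comm], ?_, h1⟩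
      rw [h1, mul_zero, zero_add] at h
      rcases hy with e | e <;> rw [e] at h ⊢ <;> omega
    · have hy0 : D.φ k y = 0 := by
        rcases hb k y hyo with h2 | h2
        · exact h2
        · exfalso
          rcases hx with e | e <;> rcases hy with e' | e' <;> rcases h1 with f | f <;>
            rcases h2 with f' | f' <;> simp [e, e', f, f'] at h
      refine ⟨x, y, hxy, hxo, hyo, hs, ?_, hy0⟩
      rw [hy0, mul_zero, add_zero] at h
      rcases hx with e | e <;> rw [e] at h ⊢ <;> omega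
  obtain ⟨j₀, j₁, h01⟩ := Fintype.exists_pair_of_one_lt_card (α := J) (by omega)
  obtain ⟨F, y₀, hFy, hFo, hy₀o, hs₀, hF1, hy1⟩ := hcommon j₀ j₁ h01
  have hα : D.φ j₀ F = 1 ∨ D.φ j₀ F = -1 := hsv j₀ F (by rw [hs₀]; simp)
  have hdeg : ∀ j x y, x ≠ y → s j = {x, y} →
      D.φ j x * D.d x + D.φ j y * D.d y = -1 := by
    intro j x y hxy hs
    have h := D.deg1 j
    rw [← Finset.sum_subset (Finset.subset_univ (insert D.o (s j))) (fun z _ hz => by
      rw [Finset.mem_insert, not_or] at hz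
      rw [hsz j z hz.1 hz.2, zero_mul]), Finset.sum_insert (hso j), D.one1, D.d_one, hs,
      Finset.sum_pair hxy] at h
    linarith
  have hmem : ∀ j x, x ≠ D.o → D.φ j x ≠ 0 → x ∈ s j := fun j x hx h => by
    by_contra hc; exact h (hsz j x hx hc)
  have hall : ∀ j, D.φ j F = D.φ j₀ F := by
    intro l
    by_cases hl0 : l = j₀
    · rw [hl0]
    by_cases hl1 : l = j₁
    · rw [hl1, hF1]
    obtain ⟨z, z', hzz, hzo, hz'o, hs', hz, hz'⟩ := hcommon j₀ l (Ne.symm hl0)
    have hcases : (z = F ∧ z' = y₀) ∨ (z = y₀ ∧ z' = F) := by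
      have h1 : z ∈ s j₀ := by rw [hs']; simp
      have h2 : z' ∈ s j₀ := by rw [hs']; simp
      rw [hs₀] at h1 h2
      simp only [Finset.mem_insert, Finset.mem_singleton] at h1 h2
      rcases h1 with rfl | rfl <;> rcases h2 with rfl | rfl <;> simp at hzz ⊢
    rcases hcases with ⟨rfl, -⟩ | ⟨e1, e2⟩
    · exact hz
    exfalso
    rw [e1] at hz
    rw [e2] at hz'
    -- the triangle
    have hy₀ := hsv j₀ y₀ (by rw [hs₀]; simp)
    obtain ⟨b, c, hbc, hbo, hco, hs₁, hb', hc'⟩ := hcommon j₁ l (Ne.symm hl1)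
    have hFs₁ : F ∈ s j₁ := hmem j₁ F hFo (by
      rw [hF1]; rcases hα with e | e <;> rw [e] <;> norm_num)
    have hbF : b ≠ F := fun e => by
      have := hsv j₁ b (by rw [hs₁]; simp)
      rw [e] at hb' this
      rw [← hb', hz'] at this
      norm_num at this
    have hcF : c = F := by
      rw [hs₁] at hFs₁
      simp only [Finset.mem_insert, Finset.mem_singleton] at hFs₁
      rcases hFs₁ with h | h
      · exact absurd h.symm hbF
      · exact h.symm
    subst hcF
    have hbv := hsv j₁ b (by rw [hs₁]; simp)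
    have hby : b ≠ y₀ := fun e => by
      rw [e, hy1] at hbv; norm_num at hbv
    have hsl : s l = {y₀, b} := by
      refine (Finset.eq_of_subset_of_card_le ?_ (by rw [hsc l, Finset.card_pair (Ne.symm hby)])).symm
      intro w hw
      simp only [Finset.mem_insert, Finset.mem_singleton] at hw
      rcases hw with rfl | rfl
      · exact hmem l _ hy₀o (by rw [hz]; rcases hy₀ with e | e <;> rw [e] <;> norm_num)
      · exact hmem l _ hbo (by rw [hb']; rcases hbv with e | e <;> rw [e] <;> norm_num)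
    have e0 := hdeg j₀ c y₀ hFy hs₀
    have e1' := hdeg j₁ b c hbc hs₁
    have e2' := hdeg l y₀ b (Ne.symm hby) hsl
    rw [hF1] at e1'
    rw [hz, hb'] at e2'
    omega
  have hown : ∀ j, ∃ a, a ≠ F ∧ a ≠ D.o ∧ s j = {F, a} := by
    intro j
    obtain ⟨x, y, hxy, hs⟩ := Finset.card_eq_two.1 (hsc j)
    have hF := hmem j F hFo (by
      rw [hall j]; rcases hα with e | e <;> rw [e] <;> norm_num)
    rw [hs] at hF
    simp only [Finset.mem_insert, Finset.mem_singleton] at hF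
    rcases hF with rfl | rfl
    · exact ⟨y, hxy.symm, fun e => hso j (by rw [hs, ← e]; simp), hs⟩
    · exact ⟨x, hxy, fun e => hso j (by rw [hs, ← e]; simp), by rw [hs, Finset.pair_comm]⟩
  choose a haF hao has using hown
  refine ⟨F, D.φ j₀ F, a, hα, hFo, fun j => ⟨hao j, haF j, hsv j _ (by rw [has j]; simp), hall j,
    fun x h1 h2 h3 => hsz j x h1 (by rw [has j]; simp [h2, h3])⟩, fun j k hjk => ?_⟩
  by_contra hne
  obtain ⟨x, y, hxy, hxo, hyo, hs, hx, hy⟩ := hcommon j k hne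
  have : y ∈ s k := by rw [has k, ← hjk, ← has j, hs]; simp
  rcases hsv k y this with e | e <;> rw [hy] at e <;> norm_num at e

/-- The sums of a row with three non-zero entries. -/
theorem sum_row {f : X → ℤ} {a b c : X} (hab : a ≠ b) (hac : a ≠ c) (hbc : b ≠ c)
    (hz : ∀ x, x ≠ a → x ≠ b → x ≠ c → f x = 0) (g : X → ℤ) :
    ∑ x, f x * g x = f a * g a + f b * g b + f c * g c := by
  classical
  have h := Cfsg.Agent.H84.SD.sum_three (f := f) hab hac hbc hz (R := ℤ) g
  simpa only [Int.cast_id] using h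

/-- The three structure sums. -/
theorem sums (hJ : 2 ≤ Fintype.card J) (hQ1 : Q % 4 = 1) (hQne : Q ≠ 1) :
    ∃ F P w : ℤ, (w = Q ∨ w = -Q - 2) ∧ F ≠ 0 ∧ F ≠ 1 ∧ P ≠ 0 ∧ P ≠ -1 ∧ F - 1 - P ≠ 0 ∧
      (∃ j, ∑ x, (D.φ j x : ℚ) * ((D.q x : ℚ) ^ 2 / (D.d x : ℚ)) =
        1 + (1 - (Q : ℚ)) ^ 2 / ((F : ℚ) - 1) - (Q : ℚ) ^ 2 / F) ∧
      ∑ x, (D.Ψ x : ℚ) * ((D.q x : ℚ) ^ 2 / (D.d x : ℚ)) =
        1 + (w : ℚ) ^ 2 / P - (1 + (w : ℚ)) ^ 2 / (1 + (P : ℚ)) ∧
      ∑ x, (D.S x : ℚ) * ((D.q x : ℚ) ^ 2 / (D.d x : ℚ)) =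
        1 - (Q : ℚ) ^ 2 / F + (w : ℚ) ^ 2 / P +
          ((Q : ℚ) - 1 - w) ^ 2 / ((F : ℚ) - 1 - P) ∧
      ∀ j, ∃ f b : X, ∃ α β : ℤ, (α = 1 ∨ α = -1) ∧ (β = 1 ∨ β = -1) ∧ f ≠ D.o ∧ b ≠ D.o ∧
        b ≠ f ∧ D.φ j f = α ∧ D.φ j b = β ∧ (∀ x, x ≠ D.o → x ≠ f → x ≠ b → D.φ j x = 0) ∧
        α * D.d f = -F ∧ β * D.d b = F - 1 := by
  classical
  obtain ⟨F, α, a, hα, hFo, ha, hinj⟩ := D.shape_phi hJ
  have hna : ∀ j k, j ≠ k → D.φ j (a k) = 0 := fun j k hjk =>
    (ha j).2.2.2.2 _ (ha k).1 (ha k).2.1 (fun e => hjk (hinj e.symm))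
  obtain ⟨j₀, j₁, h01⟩ := Fintype.exists_pair_of_one_lt_card (α := J) (by omega)
  -- values and degrees along `φ j`
  have hqa : ∀ j, D.q (a j) = D.φ j (a j) * (1 - Q) := fun j =>
    D.val1 _ j _ (ha j).2.2.1 rfl fun k hk => hna k j hk
  have hrow : ∀ j (g : X → ℤ), ∑ x, D.φ j x * g x = g D.o + α * g F + D.φ j (a j) * g (a j) := by
    intro j g
    rw [sum_row (Ne.symm hFo) (Ne.symm (ha j).1) (Ne.symm (ha j).2.1) (ha j).2.2.2.2, D.one1,
      one_mul, (ha j).2.2.2.1]
  have hsqa : ∀ j, D.φ j (a j) * D.φ j (a j) = 1 := fun j => mul_self_of_pm (ha j).2.2.1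
  have hsqF := mul_self_of_pm hα
  have hqF : α * D.q F = -Q := by
    have h := D.col1 j₀
    rw [hrow, hqa, ← mul_assoc, hsqa, D.q_one] at h
    linarith
  have hXF : ∀ j, D.φ j (a j) * D.d (a j) = -1 - α * D.d F := fun j => by
    have h := D.deg1 j
    rw [hrow, D.d_one] at h
    linarith
  -- the other two rows
  obtain ⟨sS, hSo, hSc, hSv, hSz⟩ := others D.one2 (n := 3) le_rfl (by rw [D.gss]; norm_num)
  obtain ⟨sP, hPo, hPc, hPv, hPz⟩ := others D.one3 (n := 2) (by norm_num) (by rw [D.gpp]; norm_num)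
  obtain ⟨u, v, huv, hsP⟩ := Finset.card_eq_two.1 hPc
  have huo : u ≠ D.o := fun e => hPo (by rw [hsP, ← e]; simp)
  have hvo : v ≠ D.o := fun e => hPo (by rw [hsP, ← e]; simp)
  have hPsum : ∀ g : X → ℤ, ∑ x, D.Ψ x * g x = g D.o + D.Ψ u * g u + D.Ψ v * g v := fun g => by
    rw [sum_row (Ne.symm huo) (Ne.symm hvo) huv
      (fun x h1 h2 h3 => hPz x h1 (by rw [hsP]; simp [h2, h3])), D.one3, one_mul]
  have hbS : ∀ x, x ≠ D.o → D.S x = 0 ∨ D.S x = 1 ∨ D.S x = -1 := fun x hx => by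
    by_cases h : x ∈ sS
    · exact Or.inr (hSv x h)
    · exact Or.inl (hSz x hx h)
  have hbP : ∀ x, x ≠ D.o → D.Ψ x = 0 ∨ D.Ψ x = 1 ∨ D.Ψ x = -1 := fun x hx => by
    by_cases h : x ∈ sP
    · exact Or.inr (hPv x h)
    · exact Or.inl (hPz x hx h)
  -- `Ψ` meets no row `φ j`
  have hPF : ∀ j, α * D.Ψ F + D.φ j (a j) * D.Ψ (a j) = 0 := fun j => by
    have h := D.gpf j
    simp only [mul_comm (D.Ψ _) (D.φ j _)] at h
    rw [hrow, D.one3] at h
    linarith
  have hPF0 : D.Ψ F = 0 := by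
    by_contra hne
    have h3 : ({F, a j₀, a j₁} : Finset X) ⊆ sP := by
      intro x hx
      simp only [Finset.mem_insert, Finset.mem_singleton] at hx
      rcases hx with rfl | rfl | rfl <;> by_contra hc
      · exact hne (hPz _ hFo hc)
      · have h := hPF j₀
        rw [hPz _ (ha j₀).1 hc] at h
        rcases hα with e | e <;> rw [e] at h <;> omega
      · have h := hPF j₁
        rw [hPz _ (ha j₁).1 hc] at h
        rcases hα with e | e <;> rw [e] at h <;> omega
    have := Finset.card_le_card h3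
    rw [hPc, Finset.card_insert_of_notMem (by simp [Ne.symm (ha j₀).2.1, Ne.symm (ha j₁).2.1]),
      Finset.card_pair (hinj.ne h01)] at this
    omega
  have hPa : ∀ j, D.Ψ (a j) = 0 := fun j => by
    have h := hPF j
    rw [hPF0, mul_zero, zero_add] at h
    rcases (ha j).2.2.1 with e | e <;> rw [e] at h <;> omega
  have hSrel : ∀ j, α * D.S F + D.φ j (a j) * D.S (a j) = 1 := fun j => by
    have h := D.gsp j
    simp only [mul_comm (D.S _) (D.φ j _)] at h
    rw [hrow, D.one2] at h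
    linarith
  have hSP : D.Ψ u * D.S u + D.Ψ v * D.S v = 1 := by
    have h := D.gps
    rw [hPsum, D.one2] at h
    linarith
  have hPu := hPv u (by rw [hsP]; simp)
  have hPvv := hPv v (by rw [hsP]; simp)
  -- orient so that `u` is common to `S` and `Ψ`
  obtain ⟨u, v, huv, huo, hvo, hPsum, hPu, hPvv, hSu, hSv0⟩ : ∃ u v, u ≠ v ∧ u ≠ D.o ∧ v ≠ D.o ∧
      (∀ g : X → ℤ, ∑ x, D.Ψ x * g x = g D.o + D.Ψ u * g u + D.Ψ v * g v) ∧
      (D.Ψ u = 1 ∨ D.Ψ u = -1) ∧ (D.Ψ v = 1 ∨ D.Ψ v = -1) ∧ D.S u = D.Ψ u ∧ D.S v = 0 := by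
    rcases hbS u huo with h | h
    · refine ⟨v, u, huv.symm, hvo, huo, fun g => by rw [hPsum g]; ring, hPvv, hPu, ?_, h⟩
      rw [h, mul_zero, zero_add] at hSP
      rcases hPvv with e | e <;> rw [e] at hSP ⊢ <;> omega
    · have h0 : D.S v = 0 := by
        rcases hbS v hvo with h' | h'
        · exact h'
        · exfalso
          rcases hPu with e | e <;> rcases hPvv with e' | e' <;> rcases h with f | f <;>
            rcases h' with f' | f' <;> simp [e, e', f, f'] at hSP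
      refine ⟨u, v, huv, huo, hvo, hPsum, hPu, hPvv, ?_, h0⟩
      rw [h0, mul_zero, add_zero] at hSP
      rcases hPu with e | e <;> rw [e] at hSP ⊢ <;> omega
  have hune : u ≠ F ∧ ∀ j, u ≠ a j := by
    refine ⟨fun e => ?_, fun j e => ?_⟩
    · rw [e, hPF0] at hPu; norm_num at hPu
    · rw [e, hPa] at hPu; norm_num at hPu
  have hu0 : ∀ j, D.φ j u = 0 := fun j => (ha j).2.2.2.2 u huo hune.1 (hune.2 j)
  have hqu := D.val2 u _ hPu hu0 hSu rfl
  have hu2 := mul_self_of_pm hPu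
  have hw : D.Ψ u * D.q u = Q ∨ D.Ψ u * D.q u = -Q - 2 := by
    rcases hqu with e | e <;> rw [e, ← mul_assoc, hu2, one_mul] <;> simp
  -- `S` contains `F` and not the `a j`
  have hSF : α * D.S F = 1 := by
    by_contra hne
    have hSF0 : D.S F = 0 := by
      rcases hbS F hFo with h | h
      · exact h
      · exfalso
        have h0 := hSrel j₀
        rcases hα with e | e <;> rcases h with f | f <;> rw [e, f] at hne h0 <;>
          rcases hbS (a j₀) (ha j₀).1 with g | g | g <;> rw [g] at h0 <;>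
          rcases (ha j₀).2.2.1 with k | k <;> simp [k] at h0 hne
    have hSa : ∀ j, D.S (a j) = D.φ j (a j) := fun j => by
      have h := hSrel j
      rw [hSF0, mul_zero, zero_add] at h
      rcases (ha j).2.2.1 with e | e <;> rw [e] at h ⊢ <;> omega
    have h3 : ({a j₀, a j₁, u} : Finset X) = sS := by
      refine Finset.eq_of_subset_of_card_le (fun x hx => ?_) ?_
      · by_contra hc
        simp only [Finset.mem_insert, Finset.mem_singleton] at hx
        rcases hx with rfl | rfl | rfl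
        · have := hSz _ (ha j₀).1 hc
          rw [hSa] at this
          rcases (ha j₀).2.2.1 with e | e <;> omega
        · have := hSz _ (ha j₁).1 hc
          rw [hSa] at this
          rcases (ha j₁).2.2.1 with e | e <;> omega
        · have := hSz _ huo hc
          rw [hSu] at this
          rcases hPu with e | e <;> omega
      · rw [hSc, Finset.card_insert_of_notMem (by simp [hinj.ne h01, Ne.symm (hune.2 j₀)]),
          Finset.card_pair (Ne.symm (hune.2 j₁))]
    have hsum : ∀ g : X → ℤ, ∑ x, D.S x * g x =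
        g D.o + D.φ j₀ (a j₀) * g (a j₀) + D.φ j₁ (a j₁) * g (a j₁) + D.Ψ u * g u := fun g => by
      rw [← Finset.sum_subset (Finset.subset_univ (insert D.o sS)) (fun x _ hx => by
          rw [Finset.mem_insert, not_or] at hx
          rw [hSz x hx.1 hx.2, zero_mul]), Finset.sum_insert hSo, D.one2, one_mul, ← h3,
        Finset.sum_insert (by simp [hinj.ne h01, Ne.symm (hune.2 j₀)]),
        Finset.sum_pair (Ne.symm (hune.2 j₁)), hSa, hSa, hSu]
      ring
    have h := D.col2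
    rw [hsum, hqa, hqa, ← mul_assoc, hsqa, ← mul_assoc, hsqa, D.q_one] at h
    omega
  have hSFv : D.S F = α := by rcases hα with e | e <;> rw [e] at hSF ⊢ <;> omega
  have hSa0 : ∀ j, D.S (a j) = 0 := fun j => by
    have h := hSrel j
    rw [hSF] at h
    rcases (ha j).2.2.1 with e | e <;> rw [e] at h <;> omega
  have hFS : F ∈ sS := by
    by_contra hc
    rw [hSz F hFo hc, mul_zero] at hSF
    exact zero_ne_one hSF
  have huS : u ∈ sS := by
    by_contra hc
    have := hSz u huo hc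
    rw [hSu] at this
    rcases hPu with e | e <;> omega
  obtain ⟨r, hr⟩ := Finset.card_eq_one.1 (show ((sS.erase F).erase u).card = 1 by
    rw [Finset.card_erase_of_mem (Finset.mem_erase.2 ⟨hune.1, huS⟩),
      Finset.card_erase_of_mem hFS, hSc])
  have hr' : r ≠ u ∧ r ≠ F ∧ r ∈ sS := by
    have : r ∈ (sS.erase F).erase u := by rw [hr]; simp
    simpa [Finset.mem_erase, and_assoc] using this
  have hro : r ≠ D.o := fun e => hSo (e ▸ hr'.2.2)
  have hSsum : ∀ g : X → ℤ, ∑ x, D.S x * g x =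
      g D.o + α * g F + D.Ψ u * g u + D.S r * g r := fun g => by
    rw [← Finset.sum_subset (Finset.subset_univ (insert D.o sS)) (fun x _ hx => by
        rw [Finset.mem_insert, not_or] at hx
        rw [hSz x hx.1 hx.2, zero_mul]), Finset.sum_insert hSo, D.one2, one_mul,
      ← Finset.add_sum_erase _ _ hFS,
      ← Finset.add_sum_erase _ _ (Finset.mem_erase.2 ⟨hune.1, huS⟩), hr, Finset.sum_singleton,
      hSFv, hSu]
    ring
  have hSr := hSv r hr'.2.2
  -- degrees and values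
  set w := D.Ψ u * D.q u with hwdef
  have hqv : D.Ψ v * D.q v = -1 - w := by
    have h := D.col3; rw [hPsum, D.q_one] at h; linarith
  have hqr : D.S r * D.q r = Q - 1 - w := by
    have h := D.col2; rw [hSsum, D.q_one, hqF] at h; linarith
  have hdv : D.Ψ v * D.d v = -1 - D.Ψ u * D.d u := by
    have h := D.deg3; rw [hPsum, D.d_one] at h; linarith
  have hdr : D.S r * D.d r = -(α * D.d F) - 1 - D.Ψ u * D.d u := by
    have h := D.deg2; rw [hSsum, D.d_one] at h; linarith
  refine ⟨-(α * D.d F), D.Ψ u * D.d u, w, hw, ?_, ?_, ?_, ?_, ?_, ⟨j₀, ?_⟩, ?_, ?_, fun j =>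
    ⟨F, a j, α, D.φ j (a j), hα, (ha j).2.2.1, hFo, (ha j).1, (ha j).2.1, (ha j).2.2.2.1, rfl,
      (ha j).2.2.2.2, (neg_neg _).symm, by rw [hXF]; ring⟩⟩
  · have := D.d_pos F
    rcases hα with e | e <;> rw [e] <;> omega
  · have := D.d_pos F
    have := D.d_ne F hFo
    rcases hα with e | e <;> rw [e] <;> omega
  · have := D.d_pos u
    rcases hPu with e | e <;> rw [e] <;> omega
  · have := D.d_pos u
    have := D.d_ne u huo
    rcases hPu with e | e <;> rw [e] <;> omega
  · have := D.d_pos r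
    rw [← hdr]
    rcases hSr with e | e <;> rw [e] <;> omega
  all_goals
    have key : ∀ (e : ℤ) (x : X), (e = 1 ∨ e = -1) →
        (e : ℚ) * ((D.q x : ℚ) ^ 2 / (D.d x : ℚ)) =
          ((e * D.q x : ℤ) : ℚ) ^ 2 / ((e * D.d x : ℤ) : ℚ) := by
      rintro e x (rfl | rfl) <;> push_cast <;> ring
  · rw [Cfsg.Agent.H84.SD.sum_three (Ne.symm hFo) (Ne.symm (ha j₀).1) (Ne.symm (ha j₀).2.1)
      (ha j₀).2.2.2.2, D.one1, (ha j₀).2.2.2.1, key _ F hα, key _ (a j₀) (ha j₀).2.2.1, hqF, hXF,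
      hqa, ← mul_assoc, hsqa, D.q_one, D.d_one]
    rw [show (-1 - α * D.d F : ℤ) = -(α * D.d F) - 1 by ring]
    push_cast
    ring
  · have hz : ∀ x, x ≠ D.o → x ≠ u → x ≠ v → D.Ψ x = 0 := by
      intro x h1 h2 h3
      by_contra hne
      have h := D.gpp
      rw [← Finset.sum_subset (Finset.subset_univ ({D.o, u, v, x} : Finset X)) (fun y _ hy => by
        simp only [Finset.mem_insert, Finset.mem_singleton, not_or] at hy
        by_contra hy0
        have h4 : ({u, v, x, y} : Finset X) ⊆ sP := by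
          intro w hw'
          simp only [Finset.mem_insert, Finset.mem_singleton] at hw'
          by_contra hc
          rcases hw' with rfl | rfl | rfl | rfl
          · rw [hPz _ huo hc] at hPu; norm_num at hPu
          · rw [hPz _ hvo hc] at hPvv; norm_num at hPvv
          · exact hne (hPz _ h1 hc)
          · exact hy0 (by rw [hPz _ hy.1 hc, zero_mul])
        have := Finset.card_le_card h4
        rw [hPc, Finset.card_insert_of_notMem (by simp [huv, Ne.symm h2, Ne.symm hy.2.1]),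
          Finset.card_insert_of_notMem (by simp [Ne.symm h3, Ne.symm hy.2.2.1]),
          Finset.card_pair (Ne.symm hy.2.2.2)] at this
        omega),
        Finset.sum_insert (by simp [Ne.symm huo, Ne.symm hvo, Ne.symm h1]),
        Finset.sum_insert (by simp [huv, Ne.symm h2]), Finset.sum_pair (Ne.symm h3), D.one3,
        hu2, mul_self_of_pm hPvv] at h
      nlinarith [mul_self_pos.2 hne]
    rw [Cfsg.Agent.H84.SD.sum_three (Ne.symm huo) (Ne.symm hvo) huv hz, D.one3, key _ u hPu,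
      key _ v hPvv, hqv, hdv, D.q_one, D.d_one, ← hwdef]
    push_cast
    rw [show (-1 : ℚ) - (D.Ψ u : ℚ) * (D.d u : ℚ) = -(1 + (D.Ψ u : ℚ) * (D.d u : ℚ)) by ring,
      div_neg]
    ring
  · rw [← Finset.sum_subset (Finset.subset_univ (insert D.o sS)) (fun x _ hx => by
        rw [Finset.mem_insert, not_or] at hx
        rw [hSz x hx.1 hx.2, Int.cast_zero, zero_mul]), Finset.sum_insert hSo,
      ← Finset.add_sum_erase _ _ hFS,
      ← Finset.add_sum_erase _ _ (Finset.mem_erase.2 ⟨hune.1, huS⟩), hr, Finset.sum_singleton,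
      D.one2, D.q_one, D.d_one, hSFv, hSu, key _ F hα, key _ u hPu, key _ r hSr, hqF, hqr, hdr,
      ← hwdef]
    push_cast
    ring

end RowData

end Cfsg.Agent.H84.WR
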