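import Cfsg.Agent.H84.SD.Engine
import Cfsg.Agent.H84.WR.Rows
import Cfsg.Agent.H36.Wreath.Vec

/-!
# The three kinds of functions, wreathed case: the equations

`φ j = 1 - St + X (2 j + 1)`, `S = (1 - sgn) (1 - St)`, `Ψ = 1 + sgn St - R` on `C = C(t)`, with the
two vectors of every character they meet.
-/

set_option autoImplicit false
set_option linter.style.haveILetI false
set_option linter.unusedSectionVars false

namespace Cfsg.Agent.H84.WR

open Subgroup Cfsg Cfsg.Agent.CharBasic Cfsg.Agent.CharInduce Finset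
open scoped ComplexConjugate
open Cfsg.Agent.H84.SD (coeff Special pairs)

universe u

variable {G : Type u} [Group G] [Fintype G] {t : G} [Fintype (centralizer ({t} : Set G))]

/-- The representative `2 j + 1`. -/
def rep (m : ℕ) (j : Fin (2 ^ (m - 1))) : ZMod (2 ^ (m + 1)) := ((2 * j.val + 1 : ℕ) : ZMod _)

/-- What is needed about `C(t)` and the principal characters of `G`. -/
structure Funs (t : G) [Fintype (centralizer ({t} : Set G))] (m : ℕ) (Q : ℤ) where
  φ : Fin (2 ^ (m - 1)) → centralizer ({t} : Set G) → ℂ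
  S : centralizer ({t} : Set G) → ℂ
  Ψ : centralizer ({t} : Set G) → ℂ
  gen1 : ∀ j, IsGeneralizedCharacter (centralizer ({t} : Set G)) (φ j)
  gen2 : IsGeneralizedCharacter (centralizer ({t} : Set G)) S
  gen3 : IsGeneralizedCharacter (centralizer ({t} : Set G)) Ψ
  sp1 : ∀ j, Special (φ j)
  sp2 : Special S
  sp3 : Special Ψ
  g11 : ∀ j, classInner (φ j) (φ j) = 3
  g12 : ∀ j k, j ≠ k → classInner (φ j) (φ k) = 2
  gss : classInner S S = 4
  gsp : ∀ j, classInner S (φ j) = 2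
  gpp : classInner Ψ Ψ = 3
  gpf : ∀ j, classInner Ψ (φ j) = 1
  gps : classInner Ψ S = 2
  one1 : ∀ j, classInner (φ j) (fun _ => 1) = 1
  one2 : classInner S (fun _ => 1) = 1
  one3 : classInner Ψ (fun _ => 1) = 1
  at1 : ∀ j, φ j ⟨t, mem_centralizer_singleton_iff.2 rfl⟩ = ((2 - 2 * Q : ℤ) : ℂ)
  at2 : S ⟨t, mem_centralizer_singleton_iff.2 rfl⟩ = 0
  at3 : Ψ ⟨t, mem_centralizer_singleton_iff.2 rfl⟩ = 0
  pair1 : ∀ j, ∑ x : centralizer ({t} : Set G), conj (φ j x) * (pairs t x : ℂ) =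
    ((Q * (Q - 1) * (Q + 1) ^ 2 : ℤ) : ℂ)
  pair2 : ∑ x : centralizer ({t} : Set G), conj (S x) * (pairs t x : ℂ) = 0
  pair3 : ∑ x : centralizer ({t} : Set G), conj (Ψ x) * (pairs t x : ℂ) =
    ((Q * (Q - 1) ^ 2 * (Q + 1) : ℤ) : ℂ)
  /-- the vectors of a character met by the functions -/
  vec : ∀ χ : IrrCharacter G, ((∃ j, coeff (φ j) χ ≠ 0) ∨ coeff S χ ≠ 0 ∨ coeff Ψ χ ≠ 0) →
    ∃ V : H36.Wreath.Vec m, (∀ j, coeff (φ j) χ = (V.co (rep m j) : ℂ)) ∧
      coeff S χ = (V.co ((2 ^ m : ℕ) : ZMod (2 ^ (m + 1))) : ℂ) ∧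
      2 * coeff Ψ χ = (V.coPsi : ℂ) ∧ 2 * conj ((χ : G → ℂ) t) = (V.val2 Q : ℂ)

/-- The column at `t` of a special function. -/
theorem column_t (ht : orderOf t = 2) {f : centralizer ({t} : Set G) → ℂ} (sf : Special f) :
    ∑ χ : IrrCharacter G, coeff f χ * (χ : G → ℂ) t =
      f ⟨t, mem_centralizer_singleton_iff.2 rfl⟩ := by
  classical
  set tc : centralizer ({t} : Set G) := ⟨t, mem_centralizer_singleton_iff.2 rfl⟩
  simp only [SD.coeff_apply, mul_assoc, Finset.sum_mul, ← Finset.mul_sum]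
  rw [Finset.sum_comm]
  have h1 : ∀ x : centralizer ({t} : Set G),
      ∑ χ : IrrCharacter G, f x * (conj ((χ : G → ℂ) x) * (χ : G → ℂ) t) =
        if x = tc then (Nat.card (centralizer ({t} : Set G)) : ℂ) * f x else 0 := by
    intro x
    by_cases hx : f x = 0
    · simp [hx]
    rw [← Finset.mul_sum, show ∑ χ : IrrCharacter G, conj ((χ : G → ℂ) x) * (χ : G → ℂ) t =
          ∑ χ : IrrCharacter G, (χ : G → ℂ) t * conj ((χ : G → ℂ) x) from
        Finset.sum_congr rfl fun χ _ => mul_comm _ _,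
      show ∑ χ : IrrCharacter G, (χ : G → ℂ) t * conj ((χ : G → ℂ) x) =
          ∑ h : centralizer ({t} : Set G), if h * x * h⁻¹ = tc then (1 : ℂ) else 0 from
        SD.column_inner ht (x := tc) (mem_zpowers t) (sf x hx)]
    have h2 : ∀ h : centralizer ({t} : Set G), (h * x * h⁻¹ = tc) = (x = tc) := fun h => by
      have hc : h * tc = tc * h := Subtype.ext (mem_centralizer_singleton_iff.1 h.2)
      apply propext
      constructor
      · intro e
        calc x = h⁻¹ * (h * x * h⁻¹) * h := by group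
          _ = h⁻¹ * (tc * h) := by rw [e, mul_assoc]
          _ = tc := by rw [← hc, inv_mul_cancel_left]
      · intro e; rw [e, hc, mul_inv_cancel_right]
    simp only [h2]
    split_ifs with e
    · rw [Finset.sum_const, Finset.card_univ, ← Nat.card_eq_fintype_card, nsmul_eq_mul, mul_one,
        mul_comm]
    · simp
  simp only [h1, Finset.sum_ite_eq', Finset.mem_univ, if_true]
  rw [inv_mul_cancel_left₀ (card_ne_zero_complex _)]

/-- The two rules coming from the norm budget. -/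
structure BudgetRules (m : ℕ) (Q : ℤ) : Prop where
  exceptional : ∀ (V : H36.Wreath.Vec m) (ε : ℤ) (i₀ : ZMod (2 ^ (m + 1))), (ε = 1 ∨ ε = -1) →
    Odd i₀.val → (∀ i : ZMod (2 ^ (m + 1)), Odd i.val →
      V.co i = if i = i₀ ∨ i = i₀ + (2 ^ m : ℕ) then ε else 0) →
    V.val2 Q = 2 * ε * (1 - Q)
  common : ∀ (V : H36.Wreath.Vec m) (ε : ℤ), (ε = 1 ∨ ε = -1) →
    (∀ i : ZMod (2 ^ (m + 1)), Odd i.val → V.co i = 0) →
    V.co ((2 ^ m : ℕ) : ZMod (2 ^ (m + 1))) = ε → V.coPsi = 2 * ε →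
    V.val2 Q = 2 * (ε * Q) ∨ V.val2 Q = 2 * (ε * (-Q - 2))

theorem rep_val {m : ℕ} (hm : 1 ≤ m) (j : Fin (2 ^ (m - 1))) :
    (rep m j).val = 2 * j.val + 1 := by
  rw [rep, ZMod.val_natCast, Nat.mod_eq_of_lt]
  have := j.isLt
  have h : 2 ^ (m + 1) = 4 * 2 ^ (m - 1) := by
    rw [show m + 1 = m - 1 + 2 by omega, pow_add]; ring
  omega

/-- An odd index is a representative, or one shifted by `2 ^ m`, with the same coefficient. -/
theorem exists_rep {m : ℕ} (hm : 1 ≤ m) (i : ZMod (2 ^ (m + 1))) (hi : Odd i.val) :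
    ∃ j, (i = rep m j ∨ i = rep m j + (2 ^ m : ℕ)) ∧
      ∀ V : H36.Wreath.Vec m, V.co i = V.co (rep m j) := by
  obtain ⟨k, hk⟩ := hi
  have hlt := ZMod.val_lt i
  have hN : 2 ^ m = 2 * 2 ^ (m - 1) := by rw [← pow_succ']; congr 1; omega
  have hN2 : 2 ^ (m + 1) = 2 * 2 ^ m := by rw [pow_succ']
  have hi' : i = ((2 * k + 1 : ℕ) : ZMod (2 ^ (m + 1))) := by
    rw [← hk, ZMod.natCast_zmod_val]
  by_cases hkl : k < 2 ^ (m - 1)
  · have he : i = rep m ⟨k, hkl⟩ := hi'
    exact ⟨⟨k, hkl⟩, Or.inl he, fun V => by rw [he]⟩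
  · obtain ⟨j, rfl⟩ : ∃ j, k = j + 2 ^ (m - 1) := ⟨k - 2 ^ (m - 1), by omega⟩
    have hj : j < 2 ^ (m - 1) := by omega
    have he : i = rep m ⟨j, hj⟩ + (2 ^ m : ℕ) := by
      rw [hi', rep, ← Nat.cast_add]
      congr 1
      show 2 * (j + 2 ^ (m - 1)) + 1 = 2 * j + 1 + 2 ^ m
      omega
    refine ⟨⟨j, hj⟩, Or.inr he, fun V => ?_⟩
    have h0 : ((2 ^ (m + 1) : ℕ) : ZMod (2 ^ (m + 1))) = 0 := ZMod.natCast_self _
    have hp := V.d_pair (rep m ⟨j, hj⟩)
    rw [rep_val hm, show (2 * j + 1) * 2 ^ m = j * 2 ^ (m + 1) + 2 ^ m by rw [hN2]; ring,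
      Nat.cast_add, Nat.cast_mul, h0, mul_zero, zero_add, ← he] at hp
    rw [H36.Wreath.Vec.co, H36.Wreath.Vec.co, hp]

/-- Brauer's equations in the wreathed case. -/
theorem equations [IsSimpleGroup G] (hG : ¬ IsMulCommutative G) (ht : orderOf t = 2)
    (hinv : ∀ a : centralizer ({t} : Set G), orderOf a = 2 → IsConj t (a : G)) {m : ℕ} {Q : ℤ}
    (hm : 2 ≤ m) (hQ4 : Q % 4 = 1) (hQ1 : Q ≠ 1) (B : BudgetRules m Q) (F : Funs t m Q) :
    ∃ E P w : ℤ, (w = Q ∨ w = -Q - 2) ∧ E ≠ 0 ∧ E ≠ 1 ∧ P ≠ 0 ∧ P ≠ -1 ∧ E - 1 - P ≠ 0 ∧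
      ((centralizer ({t} : Set G)).index : ℤ) * (E - Q) ^ 2 =
        Q * (Q - 1) * (Q + 1) ^ 2 * (E * (E - 1)) ∧
      ((centralizer ({t} : Set G)).index : ℤ) * (P - w) ^ 2 =
        Q * (Q - 1) ^ 2 * (Q + 1) * (P * (P + 1)) ∧
      1 - (Q : ℚ) ^ 2 / E + (w : ℚ) ^ 2 / P +
        ((Q : ℚ) - 1 - w) ^ 2 / ((E : ℚ) - 1 - P) = 0 ∧
      ∀ j, ∃ χ₁ χ₂ : IrrCharacter G, ∃ α β : ℤ, (α = 1 ∨ α = -1) ∧ (β = 1 ∨ β = -1) ∧
        (χ₁ : G → ℂ) ≠ (fun _ => 1) ∧ (χ₂ : G → ℂ) ≠ (fun _ => 1) ∧ χ₂ ≠ χ₁ ∧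
        coeff (F.φ j) χ₁ = (α : ℂ) ∧ coeff (F.φ j) χ₂ = (β : ℂ) ∧
        (∀ χ : IrrCharacter G, (χ : G → ℂ) ≠ (fun _ => 1) → χ ≠ χ₁ → χ ≠ χ₂ →
          coeff (F.φ j) χ = 0) ∧
        (α : ℂ) * (χ₁ : G → ℂ) 1 = -(E : ℂ) ∧ (β : ℂ) * (χ₂ : G → ℂ) 1 = (E : ℂ) - 1 := by
  classical
  have hm1 : 1 ≤ m := by omega
  choose A1 hA1 using fun j χ => SD.exists_coeff (F.gen1 j) χ
  choose A2 hA2 using fun χ => SD.exists_coeff F.gen2 χ
  choose A3 hA3 using fun χ => SD.exists_coeff F.gen3 χ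
  choose d hdpos hd using fun χ : IrrCharacter G => CharBasic.IsIrr.exists_degree χ.2
  let o : IrrCharacter G := ⟨fun _ => 1, isIrrCharacter_one⟩
  let met : IrrCharacter G → Prop := fun χ =>
    (∃ j, coeff (F.φ j) χ ≠ 0) ∨ coeff F.S χ ≠ 0 ∨ coeff F.Ψ χ ≠ 0
  -- the integer value at `t`
  have hq : ∀ χ : IrrCharacter G, ∃ q : ℤ, met χ → conj ((χ : G → ℂ) t) = (q : ℂ) := by
    intro χ
    by_cases hχ : met χ
    · obtain ⟨V, -, -, -, hv⟩ := F.vec χ hχ
      have h2 : IsIntegral ℤ (conj ((χ : G → ℂ) t)) := by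
        rw [H83.irr_conj_apply χ.2]; exact H83.irr_isIntegral χ.2 _
      obtain ⟨k, hk⟩ := H83.int_dvd_of_isIntegral h2 (n := 2) (m := V.val2 Q) (by norm_num)
        (by push_cast; exact hv)
      refine ⟨k, fun _ => ?_⟩
      rw [hk] at hv
      push_cast at hv
      exact mul_left_cancel₀ two_ne_zero hv
    · exact ⟨0, fun h => absurd h hχ⟩
  choose q hqv using hq
  have hgram : ∀ {f g : centralizer ({t} : Set G) → ℂ} {a b : IrrCharacter G → ℤ} {n : ℤ},
      IsGeneralizedCharacter _ f → IsGeneralizedCharacter _ g → Special f → Special g →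
      (∀ χ, coeff f χ = a χ) → (∀ χ, coeff g χ = b χ) → classInner f g = (n : ℂ) →
      ∑ χ, a χ * b χ = n := by
    intro f g a b n hf hg sf sg ha hb h
    rw [← SD.gram_coeff ht hf hg sf sg] at h
    simp only [ha, hb] at h
    exact_mod_cast h
  have hone : ∀ {f : centralizer ({t} : Set G) → ℂ} {a : IrrCharacter G → ℤ} {n : ℤ},
      (∀ χ, coeff f χ = a χ) → classInner f (fun _ => 1) = (n : ℂ) → a o = n := by
    intro f a n ha h
    have h1 := ha o
    rw [show coeff f o = classInner f (fun _ => 1) from rfl, h] at h1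
    exact_mod_cast h1.symm
  have hdeg : ∀ {f : centralizer ({t} : Set G) → ℂ} {a : IrrCharacter G → ℤ}, Special f →
      (∀ χ, coeff f χ = a χ) → ∑ χ, a χ * (d χ : ℤ) = 0 := by
    intro f a sf ha
    have h := SD.degree_coeff ht sf
    simp only [ha, hd] at h
    exact_mod_cast h
  have hcol : ∀ {f : centralizer ({t} : Set G) → ℂ} {a : IrrCharacter G → ℤ} {n : ℤ},
      Special f → (∀ χ, coeff f χ = a χ) → (∀ χ, a χ ≠ 0 → met χ) →
      f ⟨t, mem_centralizer_singleton_iff.2 rfl⟩ = (n : ℂ) → ∑ χ, a χ * q χ = n := by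
    intro f a n sf ha hmet h
    have h1 := column_t ht sf
    rw [h] at h1
    have h2 := congrArg conj h1
    rw [map_sum, map_intCast] at h2
    have h3 : ∀ χ : IrrCharacter G,
        conj (coeff f χ * (χ : G → ℂ) t) = ((a χ * q χ : ℤ) : ℂ) := fun χ => by
      rw [map_mul, ha, map_intCast]
      by_cases h0 : a χ = 0
      · simp [h0]
      · rw [hqv χ (hmet χ h0)]; push_cast; rfl
    simp only [h3] at h2
    exact_mod_cast h2
  have hm1' : ∀ j χ, A1 j χ ≠ 0 → met χ := fun j χ h =>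
    Or.inl ⟨j, by rw [hA1]; exact_mod_cast h⟩
  have hm2' : ∀ χ, A2 χ ≠ 0 → met χ := fun χ h => Or.inr (Or.inl (by rw [hA2]; exact_mod_cast h))
  have hm3' : ∀ χ, A3 χ ≠ 0 → met χ := fun χ h => Or.inr (Or.inr (by rw [hA3]; exact_mod_cast h))
  let D : RowData (IrrCharacter G) (Fin (2 ^ (m - 1))) Q :=
    { o := o, d := fun χ => (d χ : ℤ), q := q, φ := A1, S := A2, Ψ := A3
      d_one := by
        have h : (d o : ℂ) = 1 := (hd o).symm
        exact_mod_cast h
      q_one := by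
        have h0 : met o := Or.inr (Or.inl (by
          rw [show coeff F.S o = classInner F.S (fun _ => 1) from rfl, F.one2]; exact one_ne_zero))
        have h : ((q o : ℤ) : ℂ) = 1 := by
          rw [← hqv o h0]; simp [o]
        exact_mod_cast h
      d_pos := fun χ => by exact_mod_cast hdpos χ
      d_ne := fun χ hχ h => hχ (Subtype.ext (by
        refine SD.eq_one_of_degree hG ?_
        rw [hd χ]
        exact_mod_cast h))
      g11 := fun j => hgram (F.gen1 j) (F.gen1 j) (F.sp1 j) (F.sp1 j) (hA1 j) (hA1 j)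
        (by rw [F.g11]; norm_num)
      g12 := fun j k hjk => hgram (F.gen1 j) (F.gen1 k) (F.sp1 j) (F.sp1 k) (hA1 j) (hA1 k)
        (by rw [F.g12 j k hjk]; norm_num)
      gss := hgram F.gen2 F.gen2 F.sp2 F.sp2 hA2 hA2 (by rw [F.gss]; norm_num)
      gsp := fun j => hgram F.gen2 (F.gen1 j) F.sp2 (F.sp1 j) hA2 (hA1 j) (by rw [F.gsp]; norm_num)
      gpp := hgram F.gen3 F.gen3 F.sp3 F.sp3 hA3 hA3 (by rw [F.gpp]; norm_num)
      gpf := fun j => hgram F.gen3 (F.gen1 j) F.sp3 (F.sp1 j) hA3 (hA1 j) (by rw [F.gpf]; norm_num)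
      gps := hgram F.gen3 F.gen2 F.sp3 F.sp2 hA3 hA2 (by rw [F.gps]; norm_num)
      one1 := fun j => hone (hA1 j) (by rw [F.one1]; norm_num)
      one2 := hone hA2 (by rw [F.one2]; norm_num)
      one3 := hone hA3 (by rw [F.one3]; norm_num)
      deg1 := fun j => hdeg (F.sp1 j) (hA1 j)
      deg2 := hdeg F.sp2 hA2
      deg3 := hdeg F.sp3 hA3
      col1 := fun j => hcol (F.sp1 j) (hA1 j) (hm1' j) (F.at1 j)
      col2 := hcol F.sp2 hA2 hm2' (by rw [F.at2]; simp)
      col3 := hcol F.sp3 hA3 hm3' (by rw [F.at3]; simp)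
      val1 := by
        intro χ j ε hε hj hk
        have hχ : met χ := hm1' j χ (by rw [hj]; rcases hε with e | e <;> rw [e] <;> norm_num)
        obtain ⟨V, h1, -, -, hv⟩ := F.vec χ hχ
        have hco : ∀ k, V.co (rep m k) = A1 k χ := fun k => by
          have := h1 k
          rw [hA1] at this
          exact_mod_cast this.symm
        have hb := B.exceptional V ε (rep m j) hε ⟨j.val, rep_val hm1 j⟩ fun i hi => by
          obtain ⟨k, hik, hVk⟩ := exists_rep hm1 i hi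
          rw [hVk V, hco]
          by_cases hkj : k = j
          · subst hkj; rw [if_pos hik, hj]
          · rw [hk k hkj, if_neg]
            intro h
            obtain ⟨k', hk', -⟩ : ∃ k', (i = rep m k' ∨ i = rep m k' + (2 ^ m : ℕ)) ∧ k' = j :=
              ⟨j, h, rfl⟩
            have hN : 2 ^ m = 2 * 2 ^ (m - 1) := by rw [← pow_succ']; congr 1; omega
            have hv1 : (rep m k + (2 ^ m : ℕ)).val = 2 * k.val + 1 + 2 ^ m := by
              rw [rep, ← Nat.cast_add, ZMod.val_natCast, Nat.mod_eq_of_lt]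
              have := k.isLt
              rw [pow_succ']
              omega
            have hv2 : (rep m j + (2 ^ m : ℕ)).val = 2 * j.val + 1 + 2 ^ m := by
              rw [rep, ← Nat.cast_add, ZMod.val_natCast, Nat.mod_eq_of_lt]
              have := j.isLt
              rw [pow_succ']
              omega
            have := k.isLt
            have := j.isLt
            apply hkj
            apply Fin.ext
            rcases hik with a | a <;> rcases h with b | b <;>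
              have hab := congrArg ZMod.val (a.symm.trans b) <;>
              simp only [rep_val hm1, hv1, hv2] at hab <;> omega
        have h := hqv χ hχ
        rw [h, hb] at hv
        have h2 : 2 * q χ = 2 * ε * (1 - Q) := by exact_mod_cast hv
        linarith
      val2 := by
        intro χ ε hε hφ hS hΨ
        have hne : (ε : ℤ) ≠ 0 := by rcases hε with e | e <;> rw [e] <;> norm_num
        have hχ : met χ := hm2' χ (by rw [hS]; exact hne)
        obtain ⟨V, h1, h2, h3, hv⟩ := F.vec χ hχ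
        have hb := B.common V ε hε (fun i hi => by
            obtain ⟨k, -, hVk⟩ := exists_rep hm1 i hi
            have h := h1 k
            rw [hA1, hφ k, ← hVk V] at h
            exact_mod_cast h.symm)
          (by rw [hA2, hS] at h2; exact_mod_cast h2.symm)
          (by rw [hA3, hΨ] at h3; exact_mod_cast h3.symm)
        rw [hqv χ hχ] at hv
        have h4 : 2 * q χ = V.val2 Q := by exact_mod_cast hv
        rcases hb with e | e <;> rw [e] at h4 <;> [left; right] <;> linarith }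
  have hJ : 2 ≤ Fintype.card (Fin (2 ^ (m - 1))) := by
    rw [Fintype.card_fin]
    exact Nat.le_self_pow (by omega) 2
  obtain ⟨E, P, w, hw, hE0, hE1, hP0, hP1, hR, ⟨j, s1⟩, s3, s2, hlift⟩ := D.sums hJ hQ4 hQ1
  have key : ∀ {f : centralizer ({t} : Set G) → ℂ} {a : IrrCharacter G → ℤ} {n : ℤ},
      IsGeneralizedCharacter _ f → Special f → (∀ χ, coeff f χ = a χ) → (∀ χ, a χ ≠ 0 → met χ) →
      ∑ x : centralizer ({t} : Set G), conj (f x) * (pairs t x : ℂ) = (n : ℂ) →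
      ((centralizer ({t} : Set G)).index : ℚ) *
        ∑ χ, (a χ : ℚ) * ((D.q χ : ℚ) ^ 2 / (D.d χ : ℚ)) = (n : ℚ) := by
    intro f a n hf sf ha hmet hP
    have h := SD.structure_coeff ht hinv hf sf
    rw [hP, ← index_mul_card (centralizer ({t} : Set G))] at h
    have e : ∀ χ : IrrCharacter G, coeff f χ * conj ((χ : G → ℂ) t) ^ 2 / (χ : G → ℂ) 1 =
        (((a χ : ℚ) * ((D.q χ : ℚ) ^ 2 / (D.d χ : ℚ)) : ℚ) : ℂ) := by
      intro χ
      by_cases h0 : a χ = 0
      · rw [ha, h0]; simp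
      · rw [ha, hqv χ (hmet χ h0), hd χ]
        push_cast [D]
        ring
    rw [Finset.sum_congr rfl fun χ _ => e χ, ← Rat.cast_sum] at h
    apply Rat.cast_injective (α := ℂ)
    apply mul_left_cancel₀ (card_ne_zero_complex (centralizer ({t} : Set G)))
    push_cast at h ⊢
    linear_combination h
  have e1 := key (F.gen1 j) (F.sp1 j) (hA1 j) (hm1' j) (F.pair1 j)
  have e2 := key F.gen2 F.sp2 hA2 hm2' (n := 0) (by rw [F.pair2]; simp)
  have e3 := key F.gen3 F.sp3 hA3 hm3' F.pair3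
  rw [s1] at e1
  rw [s2] at e2
  rw [s3] at e3
  refine ⟨E, P, w, hw, hE0, hE1, hP0, hP1, hR, ?_, ?_, ?_, fun j => ?_⟩
  · have h0 : (E : ℚ) ≠ 0 := by exact_mod_cast hE0
    have h1 : (E : ℚ) - 1 ≠ 0 := by exact_mod_cast (show E - 1 ≠ 0 by omega)
    field_simp at e1
    push_cast at e1
    apply Int.cast_injective (α := ℚ)
    push_cast
    linear_combination e1
  · have h0 : (P : ℚ) ≠ 0 := by exact_mod_cast hP0
    have h1 : (1 : ℚ) + P ≠ 0 := by exact_mod_cast (show 1 + P ≠ 0 by omega)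
    field_simp at e3
    push_cast at e3
    apply Int.cast_injective (α := ℚ)
    push_cast
    linear_combination e3
  · push_cast at e2
    rcases mul_eq_zero.1 e2 with h | h
    · exact absurd (by exact_mod_cast h) (index_ne_zero_of_finite (H := centralizer ({t} : Set G)))
    · exact h
  · obtain ⟨f, b, α, β, hα, hβ, hf, hb, hbf, h1, h2, h3, h4, h5⟩ := hlift j
    refine ⟨f, b, α, β, hα, hβ, fun h => hf (Subtype.ext h), fun h => hb (Subtype.ext h), hbf,
      by rw [hA1]; exact_mod_cast congrArg (Int.cast : ℤ → ℂ) h1,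
      by rw [hA1]; exact_mod_cast congrArg (Int.cast : ℤ → ℂ) h2, fun χ hχ e1 e2 => ?_, ?_, ?_⟩
    · rw [hA1, show A1 j χ = 0 from h3 χ (fun h => hχ (congrArg Subtype.val h)) e1 e2, Int.cast_zero]
    · rw [hd f, ← Int.cast_neg, ← show α * (d f : ℤ) = -E from h4]; push_cast; rfl
    · rw [hd b, ← Int.cast_one, ← Int.cast_sub, ← show β * (d b : ℤ) = E - 1 from h5]; push_cast; rfl

/-- The index from `F = Q ^ 3`. -/
theorem index_of_cube {c Q : ℤ} (h0 : Q ≠ 0) (h1 : Q ≠ 1) (h2 : Q ≠ -1)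
    (h : c * (Q ^ 3 - Q) ^ 2 = Q * (Q - 1) * (Q + 1) ^ 2 * (Q ^ 3 * (Q ^ 3 - 1))) :
    c = Q ^ 2 * (Q ^ 2 + Q + 1) := by
  apply mul_left_cancel₀ (pow_ne_zero 2 (show Q * (Q - 1) * (Q + 1) ≠ 0 from
    mul_ne_zero (mul_ne_zero h0 (by omega)) (by omega)))
  linear_combination h

end Cfsg.Agent.H84.WR
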