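import Cfsg.Agent.H84.WR.Log

/-!
# The two-power coordinates of the tori of a table, `Q ≡ 1 (mod 4)`
-/

set_option autoImplicit false
set_option linter.unusedSectionVars false

namespace Cfsg.Agent.H84.WR

open Finset
open Cfsg.Agent.H36.TwoTori

universe v

variable {H A B : Type v} [Group H] [Fintype H] [CommGroup A] [Fintype A] [CommGroup B] [Fintype B]
  {Q : ℤ}

/-- The coordinates. -/
structure Logs (D : Table H A B Q) (m : ℕ) where
  LA : TwoLog A m
  LB : TwoLog B (m + 1)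
  oA : ℕ
  oB : ℕ
  K : ℤ
  two_le : 2 ≤ m
  cardA : Nat.card A = 2 ^ m * oA
  cardB : Nat.card B = 2 ^ (m + 1) * oB
  hK : Q - 1 = K * 2 ^ m
  oddK : Odd K
  incl : ∀ a, LB.l (D.incl a) = dbl (LA.l a)
  norm : ∀ y, dbl (LA.l (D.norm y)) = LB.l y + LB.l y + ((LB.l y).val * 2 ^ m : ℕ)
  frob : ∀ y, LB.l (y ^ Q) = LB.l y + ((LB.l y).val * 2 ^ m : ℕ)

theorem Logs.neg_one {D : Table H A B Q} {m : ℕ} (L : Logs D m) {e : A} (he : orderOf e = 2) :
    L.LA.l e = half m := by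
  have hm : 1 ≤ m := le_trans (by norm_num) L.two_le
  refine (eq_half hm ?_).resolve_left fun h => ?_
  · have h1 : e ^ 2 = 1 := orderOf_dvd_iff_pow_eq_one.1 (dvd_of_eq he)
    rw [← L.LA.map_mul, ← sq, h1, L.LA.map_one]
  · have := (L.LA.ker e).1 h
    rw [he] at this
    exact absurd this (by decide)

theorem exists_logs (D : Table H A B Q) (h4 : Q % 4 = 1) : ∃ m : ℕ, Nonempty (Logs D m) := by
  have hσ := D.σ_pm
  have h3 := D.three_le
  have hne : (Q - 1).natAbs ≠ 0 := by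
    rcases hσ with h | h <;> rw [h] at h3 <;> omega
  obtain ⟨m, oA, hoA, hmA⟩ := Nat.exists_eq_two_pow_mul_odd hne
  have hm : 2 ≤ m := by
    by_contra hlt
    obtain ⟨r, rfl⟩ := hoA
    rcases (show m = 0 ∨ m = 1 by omega) with rfl | rfl <;> omega
  have hcA : Nat.card A = 2 ^ m * oA := by
    have h := D.cardA
    rcases hσ with hh | hh <;> rw [hh] at h h3 <;> omega
  have hu : Odd ((Q + 1) / 2) := by rw [Int.odd_iff]; omega
  set K : ℤ := (oA : ℤ) * D.σ with hKdef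
  have hK : Q - 1 = K * 2 ^ m := by
    have h := D.cardA
    rw [hcA] at h
    push_cast at h
    rcases hσ with hh | hh <;> rw [hKdef, hh] <;> rw [hh] at h <;> linarith
  have hKodd : Odd K := by
    rcases hσ with hh | hh <;> rw [hKdef, hh] <;> simp [hoA]
  set w : ℕ := ((Q + 1) / 2).natAbs
  have hw : Odd w := Int.natAbs_odd.2 hu
  have hcB : Nat.card B = 2 ^ (m + 1) * (oA * w) := by
    have h := D.cardB
    have e : (Q ^ 2 - 1 : ℤ).natAbs = 2 ^ (m + 1) * (oA * w) := by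
      rw [show Q ^ 2 - 1 = (Q - 1) * (2 * ((Q + 1) / 2)) by
        rw [Int.mul_ediv_cancel' (by omega)]; ring, Int.natAbs_mul, Int.natAbs_mul, hmA,
        show ((2 : ℤ).natAbs) = 2 from rfl, pow_succ]
      ring
    rw [← e, ← h, Int.natAbs_natCast]
  obtain ⟨LB⟩ := exists_twoLog D.cyclicB (hoA.mul hw) hcB
  have hinc : ∀ a, ∃ x : ZMod (2 ^ m), LB.l (D.incl a) = dbl x := by
    intro a
    set z := LB.l (D.incl a) with hz
    have h0 : (2 ^ m) • z = 0 := by
      refine odd_order_eq_zero (k := oA) hoA ?_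
      rw [← mul_nsmul, hz, ← LB.map_pow, ← map_pow, ← hcA, pow_card_eq_one', map_one, LB.map_one]
    rw [nsmul_eq_mul, ← ZMod.natCast_zmod_val z, ← Nat.cast_mul, ZMod.natCast_eq_zero_iff] at h0
    obtain ⟨r, hr⟩ := (Nat.mul_dvd_mul_iff_left (Nat.two_pow_pos m)).1
      ((dvd_of_eq (pow_succ 2 m).symm).trans h0)
    exact ⟨(r : ZMod (2 ^ m)), by rw [dbl_natCast, ← hr, ZMod.natCast_zmod_val]⟩
  choose la hla using hinc
  have hmul : ∀ x y, la (x * y) = la x + la y := fun x y => dbl_injective (by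
    rw [dbl_add, ← hla, ← hla, ← hla, map_mul, LB.map_mul])
  have h1 : la 1 = 0 := dbl_injective (by rw [← hla, map_one, LB.map_one, dbl_zero])
  have hQ1 : ((Q + 1 : ℤ) : ZMod (2 ^ (m + 1))) = 2 + ((2 ^ m : ℕ) : ZMod (2 ^ (m + 1))) := by
    obtain ⟨r, hr⟩ := hKodd
    have hz : ((2 ^ (m + 1) : ℕ) : ZMod (2 ^ (m + 1))) = 0 := ZMod.natCast_self _
    have e : Q + 1 = 2 + ((2 ^ m : ℕ) : ℤ) + ((2 ^ (m + 1) : ℕ) : ℤ) * r := by
      push_cast; rw [pow_succ]; linear_combination hK + 2 ^ m * hr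
    rw [e, Int.cast_add, Int.cast_mul, Int.cast_add, Int.cast_natCast, Int.cast_natCast, hz,
      zero_mul, add_zero, Int.cast_two]
  have hnorm : ∀ y, dbl (la (D.norm y)) = LB.l y + LB.l y + ((LB.l y).val * 2 ^ m : ℕ) := by
    intro y
    rw [← hla, D.incl_norm, LB.map_zpow, zsmul_eq_mul, hQ1]
    push_cast
    rw [ZMod.natCast_zmod_val]
    ring
  have hsurj : Function.Surjective la := by
    intro x
    obtain ⟨y, hy⟩ := LB.surj 1
    haveI : Fact (1 < 2 ^ (m + 1)) := ⟨Nat.one_lt_two_pow (by omega)⟩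
    have hu' : la (D.norm y) = ((1 + 2 ^ (m - 1) : ℕ) : ZMod (2 ^ m)) := dbl_injective (by
      rw [hnorm, hy, ZMod.val_one, one_mul, dbl_natCast, mul_add, mul_one,
        show 2 * 2 ^ (m - 1) = 2 ^ m by rw [← pow_succ']; congr 1; omega]
      push_cast; ring)
    have hodd : Odd (1 + 2 ^ (m - 1)) :=
      odd_one.add_even (Nat.even_pow.2 ⟨even_two, by omega⟩)
    have hpow : ∀ k : ℕ, la (D.norm y ^ k) = k • la (D.norm y) := fun k => by
      induction k with
      | zero => simp [h1]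
      | succ k ih => rw [pow_succ, hmul, ih, succ_nsmul]
    refine ⟨D.norm y ^ (x * ((two_pow_coprime (n := m) hodd).unit⁻¹ : (ZMod (2 ^ m))ˣ)).val, ?_⟩
    rw [hpow, hu', nsmul_eq_mul, ZMod.natCast_zmod_val, mul_assoc, IsUnit.val_inv_mul, mul_one]
  refine ⟨m, ⟨⟨⟨la, hmul, hsurj, fun a => ?_⟩, LB, oA, oA * w, K, hm, hcA, hcB, hK, hKodd, hla, hnorm,
    fun y => ?_⟩⟩⟩
  · have ho : orderOf (D.incl a) = orderOf a := orderOf_injective _ D.incl_injective a
    rw [← ho, ← LB.ker, hla]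
    exact ⟨fun h => by rw [h, dbl_zero], fun h => dbl_injective (h.trans dbl_zero.symm)⟩
  · rw [LB.map_zpow, zsmul_eq_mul]
    have : ((Q : ℤ) : ZMod (2 ^ (m + 1))) = 1 + ((2 ^ m : ℕ) : ZMod (2 ^ (m + 1))) := by
      have h := hQ1
      rw [Int.cast_add, Int.cast_one] at h
      linear_combination h
    rw [this]
    push_cast
    rw [ZMod.natCast_zmod_val]
    ring

end Cfsg.Agent.H84.WR
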