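import Cfsg.Agent.H84.WR.Fourier
import Cfsg.Agent.H36.TwoTori.Table
import Mathlib.RingTheory.RootsOfUnity.Complex

/-!
# The two-part of a cyclic group as a residue, and the characters trivial on the odd part
-/

set_option autoImplicit false
set_option linter.unusedSectionVars false

namespace Cfsg.Agent.H84.WR

open Finset
open scoped ComplexConjugate
open Cfsg.Agent.H36.TwoTori (OddTriv)

universe v

/-- A map onto the residues modulo `2 ^ n` whose kernel is the odd part. -/
structure TwoLog (C : Type v) [CommGroup C] (n : ℕ) where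
  l : C → ZMod (2 ^ n)
  map_mul : ∀ x y, l (x * y) = l x + l y
  surj : Function.Surjective l
  ker : ∀ z, l z = 0 ↔ Odd (orderOf z)

theorem two_pow_coprime {n k : ℕ} (hk : Odd k) : IsUnit (k : ZMod (2 ^ n)) := by
  rw [ZMod.isUnit_iff_coprime]
  exact Nat.Coprime.pow_right _ (Nat.coprime_two_right.2 hk)

theorem odd_order_eq_zero {n : ℕ} {x : ZMod (2 ^ n)} {k : ℕ} (hk : Odd k) (h : k • x = 0) :
    x = 0 := by
  rw [nsmul_eq_mul] at h
  exact (two_pow_coprime hk).mul_right_eq_zero.1 h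

theorem exists_twoLog {C : Type v} [CommGroup C] [Fintype C] (hc : IsCyclic C) {n o : ℕ}
    (ho : Odd o) (hcard : Nat.card C = 2 ^ n * o) : Nonempty (TwoLog C n) := by
  let e := zmodCyclicMulEquiv hc
  have hd : 2 ^ n ∣ Nat.card C := ⟨o, hcard⟩
  let l : C → ZMod (2 ^ n) := fun z => ZMod.castHom hd _ (e.symm z).toAdd
  have hmul : ∀ x y, l (x * y) = l x + l y := fun x y => by
    simp only [l, map_mul, toAdd_mul, map_add]
  have hpow : ∀ x (k : ℕ), l (x ^ k) = k • l x := fun x k => by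
    induction k with
    | zero => simp [l]
    | succ k ih => rw [pow_succ, hmul, ih, succ_nsmul]
  refine ⟨⟨l, hmul, fun x => ?_, fun z => ⟨fun h => ?_, fun h => ?_⟩⟩⟩
  · obtain ⟨y, hy⟩ := ZMod.castHom_surjective hd x
    exact ⟨e (Multiplicative.ofAdd y), by rw [← hy]; simp [l]⟩
  · refine ho.of_dvd_nat ?_
    rw [← MulEquiv.orderOf_eq e.symm, show e.symm z = Multiplicative.ofAdd (e.symm z).toAdd from rfl,
      orderOf_ofAdd_eq_addOrderOf]
    refine addOrderOf_dvd_of_nsmul_eq_zero ?_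
    haveI : NeZero (Nat.card C) := ⟨Nat.card_pos.ne'⟩
    set y := (e.symm z).toAdd with hy
    have hy0 : ((y.val : ℕ) : ZMod (2 ^ n)) = 0 := by
      rw [← h, show l z = ZMod.castHom hd _ y from rfl, ZMod.natCast_val, ZMod.castHom_apply]
    rw [ZMod.natCast_eq_zero_iff] at hy0
    obtain ⟨j, hj⟩ := hy0
    rw [← ZMod.natCast_zmod_val y, hj, nsmul_eq_mul, ← Nat.cast_mul,
      show o * (2 ^ n * j) = 2 ^ n * o * j by ring, ← hcard, Nat.cast_mul, ZMod.natCast_self,
      zero_mul]
  · refine odd_order_eq_zero h ?_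
    rw [← hpow, pow_orderOf_eq_one]
    have h1 := hmul 1 1
    rw [one_mul] at h1
    exact left_eq_add.1 h1

namespace TwoLog

variable {C : Type v} [CommGroup C] {n : ℕ} (L : TwoLog C n)

theorem map_one : L.l 1 = 0 := by
  have h := L.map_mul 1 1
  rw [one_mul] at h
  exact left_eq_add.1 h

theorem map_inv (x : C) : L.l x⁻¹ = -L.l x := by
  rw [eq_neg_iff_add_eq_zero, ← L.map_mul, inv_mul_cancel, L.map_one]

theorem map_pow (x : C) (k : ℕ) : L.l (x ^ k) = k • L.l x := by
  induction k with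
  | zero => simp [L.map_one]
  | succ k ih => rw [pow_succ, L.map_mul, ih, succ_nsmul]

theorem map_zpow (x : C) : ∀ k : ℤ, L.l (x ^ k) = k • L.l x
  | (k : ℕ) => by rw [zpow_natCast, L.map_pow, natCast_zsmul]
  | .negSucc k => by rw [zpow_negSucc, L.map_inv, L.map_pow, negSucc_zsmul]

/-- The fibres have the same number of elements. -/
theorem sum_comp [Fintype C] {R : Type*} [AddCommMonoid R] (f : ZMod (2 ^ n) → R) {o : ℕ}
    (hcard : Nat.card C = 2 ^ n * o) :
    ∑ z, f (L.l z) = o • ∑ x, f x := by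
  classical
  have hfib : ∀ x, (univ.filter fun z : C => L.l z = x).card =
      (univ.filter fun z : C => L.l z = 0).card := fun x => by
    obtain ⟨w, hw⟩ := L.surj x
    refine Finset.card_bij (fun z _ => z / w) (fun z hz => ?_) (fun _ _ _ _ h => by simpa using h)
      (fun z hz => ⟨z * w, ?_, by simp⟩)
    · simp only [mem_filter, mem_univ, true_and] at hz ⊢
      rw [div_eq_mul_inv, L.map_mul, L.map_inv, hz, hw, add_neg_cancel]
    · simp only [mem_filter, mem_univ, true_and] at hz ⊢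
      rw [L.map_mul, hz, hw, zero_add]
  have h0 : (univ.filter fun z : C => L.l z = 0).card = o := by
    have h := Finset.card_eq_sum_card_fiberwise (s := (univ : Finset C))
      (t := (univ : Finset (ZMod (2 ^ n)))) (f := L.l) (fun z _ => mem_univ _)
    rw [Finset.sum_congr rfl fun x _ => hfib x, sum_const, card_univ, card_univ, ZMod.card,
      ← Nat.card_eq_fintype_card, hcard, smul_eq_mul] at h
    exact (Nat.eq_of_mul_eq_mul_left (Nat.two_pow_pos n) h).symm
  rw [← Finset.sum_fiberwise univ L.l, Finset.smul_sum]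
  refine Finset.sum_congr rfl fun x _ => ?_
  rw [Finset.sum_congr rfl fun z hz => by rw [(mem_filter.1 hz).2], sum_const, hfib, h0]

/-- The character of exponent `k`. -/
noncomputable def chr (k : ZMod (2 ^ n)) : C →* ℂˣ :=
  MonoidHom.toHomUnits
    { toFun := fun z => ee (k * L.l z)
      map_one' := by rw [L.map_one, mul_zero, ee_zero]
      map_mul' := fun x y => by rw [L.map_mul, mul_add, ee_add] }

theorem chr_apply (k : ZMod (2 ^ n)) (z : C) : (L.chr k z : ℂ) = ee (k * L.l z) := rfl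

theorem chr_oddTriv (k : ZMod (2 ^ n)) : OddTriv (L.chr k) := fun z hz => Units.ext (by
  rw [chr_apply, (L.ker z).2 hz, mul_zero, ee_zero, Units.val_one])

theorem ee_injective : Function.Injective (ee : ZMod (2 ^ n) → ℂ) := ZMod.injective_stdAddChar

theorem chr_injective : Function.Injective L.chr := fun k k' h => by
  obtain ⟨z, hz⟩ := L.surj 1
  have h1 := congrArg (fun f : C →* ℂˣ => (f z : ℂ)) h
  simpa [chr_apply, hz] using ee_injective h1

theorem chr_zero : L.chr 0 = 1 := MonoidHom.ext fun z => Units.ext (by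
  simp [chr_apply, ee_zero])

theorem exists_chr {α : C →* ℂˣ} (hα : OddTriv α) : ∃ k, α = L.chr k := by
  obtain ⟨a, ha⟩ := L.surj 1
  have hN : (α a : ℂ) ^ 2 ^ n = 1 := by
    rw [← Units.val_pow_eq_pow_val, ← _root_.map_pow, hα _ ((L.ker _).1 ?_), Units.val_one]
    rw [L.map_pow, ha, nsmul_eq_mul, mul_one, ZMod.natCast_self]
  have hroot : IsPrimitiveRoot (ee (1 : ZMod (2 ^ n))) (2 ^ n) := by
    have h := Complex.isPrimitiveRoot_exp (2 ^ n) (Nat.two_pow_pos n).ne'
    have e : ee (1 : ZMod (2 ^ n)) = Complex.exp (2 * Real.pi * Complex.I / ((2 ^ n : ℕ) : ℂ)) := by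
      have h1 := ZMod.stdAddChar_coe (N := 2 ^ n) 1
      rw [Int.cast_one] at h1
      rw [ee, h1]
      push_cast
      ring_nf
    rw [e]
    exact h
  obtain ⟨i, -, hi⟩ := hroot.eq_pow_of_pow_eq_one hN
  refine ⟨(i : ZMod (2 ^ n)), MonoidHom.ext fun z => ?_⟩
  have hz : z = a ^ (L.l z).val * (z / a ^ (L.l z).val) := (mul_div_cancel _ _).symm
  have hodd : Odd (orderOf (z / a ^ (L.l z).val)) := (L.ker _).1 (by
    rw [div_eq_mul_inv, L.map_mul, L.map_inv, L.map_pow, ha, nsmul_eq_mul, mul_one,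
      ZMod.natCast_zmod_val, add_neg_cancel])
  refine Units.ext ?_
  conv_lhs => rw [hz, _root_.map_mul, hα _ hodd, mul_one, _root_.map_pow, Units.val_pow_eq_pow_val,
    ← hi, ← pow_mul]
  have hpow : ∀ k : ℕ, ee (1 : ZMod (2 ^ n)) ^ k = ee ((k : ℕ) : ZMod (2 ^ n)) := fun k => by
    induction k with
    | zero => simp [ee_zero]
    | succ k ih => rw [pow_succ, ih, ← ee_add, Nat.cast_succ]
  rw [hpow, chr_apply, Nat.cast_mul, ZMod.natCast_zmod_val]

end TwoLog

/-- Doubling into the residues modulo twice the number. -/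
def dbl {m : ℕ} (a : ZMod (2 ^ m)) : ZMod (2 ^ (m + 1)) := ((2 * a.val : ℕ) : ZMod _)

theorem dbl_natCast {m : ℕ} (k : ℕ) : dbl (k : ZMod (2 ^ m)) = ((2 * k : ℕ) : ZMod (2 ^ (m + 1))) := by
  rw [dbl, ZMod.val_natCast, ZMod.natCast_eq_natCast_iff, pow_succ']
  exact (Nat.mod_modEq _ _).mul_left' 2

theorem dbl_zero {m : ℕ} : dbl (0 : ZMod (2 ^ m)) = 0 := by simp [dbl]

theorem dbl_add {m : ℕ} (a b : ZMod (2 ^ m)) : dbl (a + b) = dbl a + dbl b := by
  rw [← ZMod.natCast_zmod_val a, ← ZMod.natCast_zmod_val b, ← Nat.cast_add, dbl_natCast,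
    dbl_natCast, dbl_natCast, mul_add, Nat.cast_add]

theorem dbl_injective {m : ℕ} : Function.Injective (dbl (m := m)) := fun a b h => by
  refine ZMod.val_injective _ ?_
  have ha := a.val_lt
  have hb := b.val_lt
  rw [dbl, dbl, ZMod.natCast_eq_natCast_iff', Nat.mod_eq_of_lt (by rw [pow_succ]; omega),
    Nat.mod_eq_of_lt (by rw [pow_succ]; omega)] at h
  omega

theorem mul_dbl {m : ℕ} (i : ZMod (2 ^ (m + 1))) (a : ZMod (2 ^ m)) :
    ee (i * dbl a) = ee (((i.val : ℕ) : ZMod (2 ^ m)) * a) := by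
  have key : ∀ k : ℕ, ee (((2 * k : ℕ) : ℕ) : ZMod (2 ^ (m + 1))) = ee (k : ZMod (2 ^ m)) := by
    intro k
    have h1 := ZMod.stdAddChar_coe (N := 2 ^ (m + 1)) ((2 * k : ℕ) : ℤ)
    have h2 := ZMod.stdAddChar_coe (N := 2 ^ m) (k : ℤ)
    rw [Int.cast_natCast] at h1 h2
    rw [ee, ee, h1, h2]
    congr 1
    push_cast
    rw [pow_succ]
    field_simp
  conv_lhs => rw [← ZMod.natCast_zmod_val i, dbl, ← Nat.cast_mul,
    show i.val * (2 * a.val) = 2 * (i.val * a.val) by ring, key]
  rw [Nat.cast_mul, ZMod.natCast_zmod_val a]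

end Cfsg.Agent.H84.WR
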