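import Cfsg.Agent.H3.SDOrder.TableInvol
import Cfsg.Agent.H61.Isolated
import Cfsg.Agent.Cores.GlaubermanZStar
import Cfsg.Agent.Cores.PCore

/-!
# A simple group with an involution centraliser covered by a group with two tori: local facts

The centraliser of `T (e, 1)` is the split torus, the centraliser of `t` contains a Sylow
2-subgroup, there is one class of involutions, and `t`, `u` are exchanged.
-/

set_option autoImplicit false
set_option linter.unusedSectionVars false
set_option linter.style.haveILetI false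

namespace Cfsg.Agent.H84.WR

open Subgroup Finset Cfsg.Agent.H36.TwoTori Cfsg.Agent.H3.SDOrder

universe u v

variable {H A B : Type v} [Group H] [Fintype H] [CommGroup A] [Fintype A] [CommGroup B] [Fintype B]
  {Q : ℤ}

section Group

variable (D : Table H A B Q)

include D in
theorem exists_two : ∃ e : A, orderOf e = 2 := by
  haveI : Fact (Nat.Prime 2) := ⟨Nat.prime_two⟩
  refine exists_prime_orderOf_dvd_card' 2 ?_
  obtain ⟨r, hr⟩ := D.odd_Q
  refine Int.natCast_dvd_natCast.1 ⟨D.σ * r, ?_⟩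
  rw [D.cardA]
  push_cast
  linear_combination D.σ * hr

/-- An element of two-power order exchanging the coordinates. -/
theorem exists_swap2 : ∃ w : H, (∃ k, w ^ 2 ^ k = 1) ∧ ∀ a b, w * D.T (a, b) * w⁻¹ = D.T (b, a) := by
  obtain ⟨w, hw⟩ := D.swapT
  obtain ⟨k, o, ho, hko⟩ := Nat.exists_eq_two_pow_mul_odd (orderOf_pos w).ne'
  refine ⟨w ^ o, ⟨k, by rw [← pow_mul, mul_comm, ← hko, pow_orderOf_eq_one]⟩, ?_⟩
  have h2 : ∀ (r : ℕ) (a b : A), w ^ (2 * r) * D.T (a, b) * (w ^ (2 * r))⁻¹ = D.T (a, b) := by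
    intro r
    induction r with
    | zero => simp
    | succ r ih =>
      intro a b
      calc w ^ (2 * (r + 1)) * D.T (a, b) * (w ^ (2 * (r + 1)))⁻¹
          = w ^ (2 * r) * (w * (w * D.T (a, b) * w⁻¹) * w⁻¹) * (w ^ (2 * r))⁻¹ := by
            rw [show 2 * (r + 1) = 2 * r + 1 + 1 by ring, pow_succ, pow_succ]; group
        _ = D.T (a, b) := by rw [hw, hw, ih]
  obtain ⟨r, rfl⟩ := ho
  intro a b
  calc w ^ (2 * r + 1) * D.T (a, b) * (w ^ (2 * r + 1))⁻¹
      = w ^ (2 * r) * (w * D.T (a, b) * w⁻¹) * (w ^ (2 * r))⁻¹ := by rw [pow_succ]; group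
    _ = _ := by rw [hw, h2]

include D in
theorem card_table : (Nat.card H : ℂ) = (Nat.card A : ℂ) ^ 2 * ((Q : ℂ) * (Q + 1)) := by
  classical
  have h := D.sum_eq (fun _ => (1 : ℂ)) fun _ _ => rfl
  have hd : (∑ p : A × A, if p.1 = p.2 then (0 : ℂ) else 1) =
      (Nat.card A : ℂ) ^ 2 - (Nat.card A : ℂ) := by
    rw [Fintype.sum_prod_type, Finset.sum_congr rfl fun a (_ : a ∈ univ) =>
      show (∑ b : A, if a = b then (0 : ℂ) else 1) = (Nat.card A : ℂ) - 1 by
        rw [Finset.sum_congr rfl fun b (_ : b ∈ univ) =>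
          show (if a = b then (0 : ℂ) else 1) = 1 - (if a = b then 1 else 0) by split_ifs <;> ring,
          Finset.sum_sub_distrib, Finset.sum_ite_eq, if_pos (mem_univ _)]
        simp]
    simp [sub_eq_add_neg]
    ring
  have hB : (∑ y : B, if y ∈ D.incl.range then (0 : ℂ) else 1) =
      (Nat.card B : ℂ) - (Nat.card A : ℂ) := by
    rw [Finset.sum_congr rfl fun y (_ : y ∈ univ) =>
        show (if y ∈ D.incl.range then (0 : ℂ) else 1) = 1 - (if y ∈ D.incl.range then 1 else 0) by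
          split_ifs <;> ring,
      Finset.sum_sub_distrib, Finset.sum_boole]
    have : (univ.filter fun y : B => y ∈ D.incl.range).card = Nat.card A := by
      rw [← Fintype.card_subtype, ← Nat.card_eq_fintype_card]
      exact (Nat.card_congr (MonoidHom.ofInjective D.incl_injective).toEquiv).symm
    rw [this]
    simp
  rw [hd, hB] at h
  simp only [mul_one, Finset.sum_const, Finset.card_univ, nsmul_eq_mul] at h
  rw [← Nat.card_eq_fintype_card (α := H), ← Nat.card_eq_fintype_card (α := A)] at h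
  have hA : (Nat.card A : ℂ) = (D.σ : ℂ) * ((Q : ℂ) - 1) := by
    rw [← Int.cast_natCast (Nat.card A), D.cardA]; push_cast; rfl
  have hBc : (Nat.card B : ℂ) = (Q : ℂ) ^ 2 - 1 := by
    rw [← Int.cast_natCast (Nat.card B), D.cardB]; push_cast; rfl
  have hs : (D.σ : ℂ) * D.σ = 1 := by rcases D.σ_pm with e | e <;> simp [e]
  rw [h, hBc, hA]
  linear_combination (-((Q : ℂ) * (Q - 1) ^ 2 * (Q + 1))) / 2 * hs

include D in
/-- The centraliser of `T (1, e)` is the split torus. -/
theorem cent_refl {e : A} (he : orderOf e = 2) {x : H} (hx : Commute x (D.T (1, e))) :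
    ∃ a b, D.T (a, b) = x := by
  set C := centralizer ({D.T (1, e)} : Set H) with hC
  have h1 : D.T.range ≤ C := by
    rintro _ ⟨p, rfl⟩
    rw [hC, mem_centralizer_singleton_iff, ← map_mul, ← map_mul, mul_comm p]
  have h2 : Nat.card C ≤ Nat.card D.T.range := by
    have hc : (C.index : ℂ) * (Nat.card C : ℂ) = (Nat.card H : ℂ) := by
      rw [← Nat.cast_mul, index_mul_card]
    have hne : (Q : ℂ) * (Q + 1) ≠ 0 := by
      have := D.three_le
      have : Q ≠ 0 ∧ Q + 1 ≠ 0 := by rcases D.σ_pm with h | h <;> rw [h] at this <;> omega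
      exact mul_ne_zero (by exact_mod_cast this.1) (by exact_mod_cast this.2)
    rw [hC, Invol.index_refl D he, card_table D, mul_comm ((Nat.card A : ℂ) ^ 2)] at hc
    have h3 : Nat.card C = Nat.card A ^ 2 := by exact_mod_cast mul_left_cancel₀ hne hc
    rw [h3, ← Nat.card_congr (MonoidHom.ofInjective D.T_injective).toEquiv, Nat.card_prod, sq]
  have h4 : x ∈ D.T.range := by
    rw [Subgroup.eq_of_le_of_card_ge h1 h2, hC]
    exact mem_centralizer_singleton_iff.2 hx.eq
  obtain ⟨⟨a, b⟩, h⟩ := h4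
  exact ⟨a, b, h⟩

include D in
/-- The centraliser of `T (e, 1)` is the split torus. -/
theorem cent_refl' {e : A} (he : orderOf e = 2) {x : H} (hx : Commute x (D.T (e, 1))) :
    ∃ a b, D.T (a, b) = x := by
  obtain ⟨w, hw⟩ := D.swapT
  have h := hx.map (MulAut.conj w)
  simp only [MulAut.conj_apply, hw] at h
  obtain ⟨a, b, hab⟩ := cent_refl D he h
  refine ⟨b, a, mul_left_cancel (a := w) (mul_right_cancel (b := w⁻¹) ?_)⟩
  rw [hw, hab]

theorem T_pair_injective {a b c d : A} (h : D.T (a, b) = D.T (c, d)) : a = c ∧ b = d :=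
  Prod.ext_iff.1 (D.T_injective h)

end Group

/-- The hypotheses: `ι` covers the centraliser of the involution `t`, and `det` is a determinant. -/
structure Cov (D : Table H A B Q) (G : Type u) [Group G] (t : G) where
  /-- the map onto the centraliser -/
  ι : H →* G
  /-- the determinant -/
  det : H →* A
  det_T : ∀ a b, det (D.T (a, b)) = a * b
  simple : IsSimpleGroup G
  invol : orderOf t = 2
  range_iff : ∀ g : G, (∃ x, ι x = g) ↔ Commute g t
  ker_center : ι.ker ≤ center H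
  ker_odd : Odd (Nat.card ι.ker)

namespace Cov

variable {D : Table H A B Q} {G : Type u} [Group G] [Finite G] {t : G} (S : Cov D G t)
include S

theorem commute_image (x : H) : Commute (S.ι x) t := (S.range_iff _).1 ⟨x, rfl⟩

theorem tt : t * t = 1 := by rw [← pow_two, ← S.invol, pow_orderOf_eq_one]

theorem ne_one : t ≠ 1 := fun h => by have := S.invol; rw [h, orderOf_one] at this; omega

theorem ker_scalar {x : H} (h : S.ι x = 1) : ∃ a : A, x = D.T (a, a) ∧ Odd (orderOf a) := by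
  obtain ⟨a, rfl⟩ := D.center_le x (S.ker_center h)
  refine ⟨a, rfl, ?_⟩
  have h1 := S.ker_odd.of_dvd_nat (orderOf_dvd_natCard (⟨_, h⟩ : S.ι.ker))
  rwa [← Subgroup.orderOf_coe, orderOf_injective D.T D.T_injective, Prod.orderOf, Nat.lcm_self] at h1

theorem ker_det {x : H} (h : S.ι x = 1) (hd : S.det x = 1) : x = 1 := by
  obtain ⟨a, rfl, ha⟩ := S.ker_scalar h
  rw [S.det_T, ← pow_two] at hd
  have : a = 1 := orderOf_eq_one_iff.1 (Nat.eq_one_of_dvd_coprimes
    (Nat.coprime_two_left.2 ha) (orderOf_dvd_of_pow_eq_one hd) dvd_rfl)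
  rw [this]
  exact map_one D.T

theorem commute_lift {x y : H} (h : Commute (S.ι x) (S.ι y)) : Commute x y := by
  have h1 : S.ι (x * y * (y * x)⁻¹) = 1 := by
    rw [map_mul, map_inv, map_mul, map_mul, h.eq, mul_inv_cancel]
  exact mul_inv_eq_one.1 (S.ker_det h1 (by
    rw [map_mul, map_inv, map_mul, map_mul, mul_comm (S.det y), mul_inv_cancel]))

/-- An involution of `C(t)` is the image of an element squaring to one. -/
theorem exists_lift_invol {g : G} (hg : g * g = 1) (h : Commute g t) :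
    ∃ x, S.ι x = g ∧ x * x = 1 := by
  obtain ⟨x, hx⟩ := (S.range_iff g).2 h
  obtain ⟨j, hj⟩ := S.ker_odd
  have h2 : x * x ∈ S.ι.ker := by rw [MonoidHom.mem_ker, map_mul, hx, hg]
  have h3 : (x * x) ^ Nat.card S.ι.ker = 1 := by
    have := pow_card_eq_one' (G := ↥S.ι.ker) (x := ⟨x * x, h2⟩)
    exact congrArg Subtype.val this
  refine ⟨x ^ Nat.card S.ι.ker, ?_, ?_⟩
  · rw [map_pow, hx, hj, pow_succ, pow_mul, pow_two, hg, one_pow, one_mul]
  · rw [← (Commute.refl x).mul_pow, h3]

variable {e : A} (he : orderOf e = 2)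
include he

/-- The central involution. -/
theorem ι_ee : S.ι (D.T (e, e)) = t := by
  obtain ⟨x, hx, hx2⟩ := S.exists_lift_invol S.tt (Commute.refl t)
  obtain ⟨a, rfl⟩ := D.center_le x (mem_center_iff.2 fun y =>
    (S.commute_lift (hx.symm ▸ S.commute_image y)).eq)
  rw [← map_mul, ← map_one D.T] at hx2
  have ha : a * a = 1 := congrArg Prod.fst (D.T_injective hx2)
  by_cases h1 : a = 1
  · subst h1
    exact absurd (hx.symm.trans ((congrArg S.ι (map_one D.T)).trans (map_one _))) S.ne_one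
  · rw [← Invol.eq_e D he ha h1, hx]

theorem refl_ne_one : D.T (e, 1) ≠ 1 := fun h => Invol.ne_e he
  (T_pair_injective D (h.trans (map_one D.T).symm)).1

omit he in
/-- The second involution. -/
theorem ι_sq {a b : A} (ha : a * a = 1) (hb : b * b = 1) :
    S.ι (D.T (a, b)) * S.ι (D.T (a, b)) = 1 := by
  rw [← map_mul, ← map_mul, Prod.mk_mul_mk, ha, hb, Prod.mk_one_one, map_one, map_one]

theorem u_ne_one : S.ι (D.T (e, 1)) ≠ 1 := fun h => by
  obtain ⟨a, ha, -⟩ := S.ker_scalar h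
  obtain ⟨h1, h2⟩ := T_pair_injective D ha
  exact Invol.ne_e he (h1.trans h2.symm)

theorem tu_eq : t * S.ι (D.T (e, 1)) = S.ι (D.T (1, e)) := by
  refine (congrArg (· * S.ι (D.T (e, 1))) (S.ι_ee he)).symm.trans ?_
  rw [← map_mul, ← map_mul, Prod.mk_mul_mk, Invol.sq_e he, mul_one]

theorem u_ne_t : S.ι (D.T (e, 1)) ≠ t := fun h => by
  have h1 := S.tu_eq he
  rw [h, S.tt] at h1
  obtain ⟨a, ha, -⟩ := S.ker_scalar h1.symm
  obtain ⟨h2, h3⟩ := T_pair_injective D ha
  exact Invol.ne_e he (h3.trans h2.symm)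

/-- The torus is `C(t) ∩ C(u)`. -/
theorem mem_torus {g : G} :
    (∃ a b, S.ι (D.T (a, b)) = g) ↔ Commute g t ∧ Commute g (S.ι (D.T (e, 1))) := by
  constructor
  · rintro ⟨a, b, rfl⟩
    exact ⟨S.commute_image _, ((Commute.all (a, b) (e, (1 : A))).map D.T).map S.ι⟩
  · rintro ⟨h1, h2⟩
    obtain ⟨x, rfl⟩ := (S.range_iff g).2 h1
    obtain ⟨a, b, rfl⟩ := cent_refl' D he (S.commute_lift h2)
    exact ⟨a, b, rfl⟩

theorem invol_cases {s : G} (hs : s * s = 1) (hs1 : s ≠ 1) (h : Commute s t) :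
    s = t ∨ ∃ c, Commute c t ∧ c * S.ι (D.T (e, 1)) * c⁻¹ = s := by
  obtain ⟨x, rfl, hx⟩ := S.exists_lift_invol hs h
  have hx1 : x ≠ 1 := fun hh => hs1 (by rw [hh, map_one])
  rcases Invol.invol_cases D he (orderOf_eq_prime (by rw [pow_two, hx]) hx1) with hc | hc
  · left; rw [hc, S.ι_ee he]
  · obtain ⟨y, hy⟩ := isConj_iff.1 hc
    obtain ⟨w, hw⟩ := D.swapT
    refine Or.inr ⟨S.ι (y * w), S.commute_image _, ?_⟩
    rw [← map_inv, ← map_mul, ← map_mul]
    congr 1
    calc y * w * D.T (e, 1) * (y * w)⁻¹ = y * (w * D.T (e, 1) * w⁻¹) * y⁻¹ := by group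
      _ = x := by rw [hw, hy]

/-- `C(t)` contains a Sylow 2-subgroup. -/
theorem odd_index : Odd (centralizer ({t} : Set G)).index := by
  haveI : Fact (Nat.Prime 2) := ⟨Nat.prime_two⟩
  obtain ⟨w₀, ⟨k, hk⟩, hw⟩ := exists_swap2 D
  set u := S.ι (D.T (e, 1)) with hu
  set sw := S.ι w₀ with hsw
  set C := centralizer ({t} : Set G) with hCdef
  have hmem : ∀ {g : G}, g ∈ C ↔ Commute g t := fun {g} => mem_centralizer_singleton_iff
  have swu : sw * u * sw⁻¹ = t * u := by
    rw [hu, S.tu_eq he, hsw, ← map_inv, ← map_mul, ← map_mul, hw]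
  have swt : sw * t * sw⁻¹ = t := mul_inv_eq_iff_eq_mul.2 (S.commute_image _).eq
  have huu : u * u = 1 := S.ι_sq (Invol.sq_e he) (one_mul _)
  have hut : Commute u t := S.commute_image _
  let W : Subgroup G := (zpowers t ⊔ zpowers u) ⊔ zpowers sw
  have hzp : ∀ {i : G} {r : ℕ}, i ^ 2 ^ r = 1 → IsPGroup 2 (zpowers i) := fun {i r} hi => by
    obtain ⟨j, -, hj⟩ := (Nat.dvd_prime_pow Nat.prime_two).mp (orderOf_dvd_of_pow_eq_one hi)
    exact IsPGroup.of_card (n := j) (by rw [Nat.card_zpowers, hj])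
  have hU : IsPGroup 2 ↥(zpowers t ⊔ zpowers u) := by
    refine (hzp (r := 1) (by rw [pow_one, pow_two, S.tt])).to_sup_of_normal_left'
      (hzp (r := 1) (by rw [pow_one, pow_two, huu])) ?_
    rw [zpowers_le]
    refine centralizer_le_normalizer _ ?_
    rw [mem_centralizer_iff]
    intro z hz
    obtain ⟨n, rfl⟩ := mem_zpowers_iff.mp hz
    exact (hut.symm.zpow_left n).eq
  have hW : IsPGroup 2 W := by
    refine hU.to_sup_of_normal_left' (hzp (r := k) (by rw [hsw, ← map_pow, hk, map_one])) ?_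
    rw [zpowers_le]
    refine mem_normalizer_iff_map_conj_eq.mpr ?_
    rw [Subgroup.map_sup, MonoidHom.map_zpowers, MonoidHom.map_zpowers]
    have e1 : MulAut.conj sw t = t := swt
    have e2 : MulAut.conj sw u = t * u := swu
    simp only [MonoidHom.coe_coe, e1, e2]
    refine le_antisymm (sup_le le_sup_left (zpowers_le.mpr ?_))
      (sup_le le_sup_left (zpowers_le.mpr ?_))
    · exact mul_mem (mem_sup_left (mem_zpowers t)) (mem_sup_right (mem_zpowers _))
    · have := mul_mem (mem_sup_left (T := zpowers (t * u)) (mem_zpowers t))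
        (mem_sup_right (S := zpowers t) (mem_zpowers (t * u)))
      rwa [← mul_assoc, S.tt, one_mul] at this
  have hWC : W ≤ C := sup_le (sup_le (zpowers_le.mpr (hmem.mpr (Commute.refl t)))
    (zpowers_le.mpr (hmem.mpr hut))) (zpowers_le.mpr (hmem.mpr (S.commute_image _)))
  obtain ⟨T, hWT⟩ := (hW.comap_of_injective C.subtype C.subtype_injective :
    IsPGroup 2 ↥(W.subgroupOf C)).exists_le_sylow
  let T' : Subgroup G := (T : Subgroup C).map C.subtype
  have hT'p : IsPGroup 2 T' := T.isPGroup'.map _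
  obtain ⟨P, hTP⟩ := hT'p.exists_le_sylow
  have hin : ∀ {g : G}, g ∈ W → g ∈ T' := fun {g} hg => ⟨⟨g, hWC hg⟩, hWT hg, rfl⟩
  have htT : t ∈ T' := hin (mem_sup_left (mem_sup_left (mem_zpowers t)))
  have huT : u ∈ T' := hin (mem_sup_left (mem_sup_right (mem_zpowers _)))
  have hsT : sw ∈ T' := hin (mem_sup_right (mem_zpowers _))
  have huniq : ∀ i : G, i * i = 1 → i ≠ 1 → Commute i t → Commute i u → Commute i sw → i = t := by
    intro i hi hi1 h1 h2 h3
    obtain ⟨x, rfl, hx⟩ := S.exists_lift_invol hi h1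
    obtain ⟨c, d, rfl⟩ := cent_refl' D he (S.commute_lift h2)
    have h5 : w₀ * D.T (c, d) * w₀⁻¹ = D.T (c, d) := by
      rw [← (S.commute_lift h3).eq, mul_inv_cancel_right]
    rw [hw] at h5
    obtain ⟨rfl, -⟩ := T_pair_injective D h5
    rw [← map_mul, ← map_one D.T] at hx
    by_cases hd : d = 1
    · subst hd
      exact absurd ((congrArg S.ι (map_one D.T)).trans (map_one _)) hi1
    · rw [Invol.eq_e D he (show d * d = 1 from congrArg Prod.fst (D.T_injective hx)) hd,
        S.ι_ee he]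
  have heq : T' = (P : Subgroup G) := by
    by_contra hne
    have hlt : T'.subgroupOf P < ⊤ := lt_top_iff_ne_top.mpr fun h =>
      hne (le_antisymm hTP (subgroupOf_eq_top.mp h))
    haveI : Group.IsNilpotent ↥(P : Subgroup G) := P.isPGroup'.isNilpotent
    obtain ⟨n, hnN, hnT⟩ :=
      SetLike.exists_of_lt (normalizerCondition_of_isNilpotent (T'.subgroupOf P) hlt)
    refine hnT ?_
    rw [mem_subgroupOf]
    have hconj : ∀ z ∈ T', (n : G) * z * (n : G)⁻¹ ∈ T' := fun z hz =>
      (mem_normalizer_iff.mp hnN ⟨z, hTP hz⟩).mp hz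
    have hinv : ∀ z ∈ T', (n : G)⁻¹ * z * (n : G) ∈ T' := fun z hz => by
      have := (mem_normalizer_iff.mp (inv_mem hnN) ⟨z, hTP hz⟩).mp hz
      simpa [mem_subgroupOf] using this
    set i := (n : G) * t * (n : G)⁻¹ with hi
    have hcom : ∀ z ∈ T', Commute i z := fun z hz => by
      obtain ⟨y, hy, hye⟩ := hinv z hz
      have h1 : Commute t ((n : G)⁻¹ * z * (n : G)) := hye ▸ (hmem.mp y.2).symm
      simpa [hi, mul_assoc] using h1.map (MulAut.conj (n : G))
    have hit : i = t := by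
      refine huniq i ?_ ?_ (hcom t htT) (hcom _ huT) (hcom _ hsT)
      · rw [hi, show (n : G) * t * (n : G)⁻¹ * ((n : G) * t * (n : G)⁻¹) =
          (n : G) * (t * t) * (n : G)⁻¹ by group, S.tt, mul_one, mul_inv_cancel]
      · exact fun hh => S.ne_one (conj_eq_one_iff.mp hh)
    have hnC : (n : G) ∈ C := hmem.mpr (mul_inv_eq_iff_eq_mul.1 hit)
    have hsup : IsPGroup 2 ↥((T : Subgroup C) ⊔ zpowers (⟨n, hnC⟩ : C)) := by
      refine T.isPGroup'.to_sup_of_normal_left' ?_ ?_
      · obtain ⟨r, hr⟩ := P.isPGroup' n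
        have h1 : (⟨n, hnC⟩ : C) ^ 2 ^ r = 1 := Subtype.ext (by
          rw [Subgroup.coe_pow]
          exact (Subgroup.coe_pow _ n _).symm.trans (congrArg Subtype.val hr))
        obtain ⟨j, -, hj⟩ := (Nat.dvd_prime_pow Nat.prime_two).mp (orderOf_dvd_of_pow_eq_one h1)
        exact IsPGroup.of_card (n := j) (by rw [Nat.card_zpowers, hj])
      · refine zpowers_le.mpr (mem_normalizer_iff.mpr fun z => ⟨fun hz => ?_, fun hz => ?_⟩)
        · obtain ⟨y, hy, hye⟩ := hconj z ⟨z, hz, rfl⟩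
          rwa [show (⟨n, hnC⟩ : C) * z * (⟨n, hnC⟩ : C)⁻¹ = y from Subtype.ext hye.symm]
        · obtain ⟨y, hy, hye⟩ := hinv _ ⟨_, hz, rfl⟩
          have : (y : G) = z := by rw [show (y : G) = _ from hye]; simp [mul_assoc]
          rwa [Subtype.ext this] at hy
    have hT : zpowers (⟨n, hnC⟩ : C) ≤ (T : Subgroup C) :=
      le_sup_right.trans (T.is_maximal' hsup le_sup_left).le
    exact ⟨⟨n, hnC⟩, hT (mem_zpowers _), rfl⟩
  have h2 : (centralizer ({t} : Set G)).index ∣ T'.index := index_dvd_of_le (map_subtype_le _)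
  rw [heq] at h2
  exact Odd.of_dvd_nat (Nat.not_even_iff_odd.1 fun hev =>
    P.not_dvd_index (even_iff_two_dvd.1 hev)) h2

theorem oddCore_eq_bot : Cfsg.oddCore G = ⊥ := by
  haveI := S.simple
  haveI : (Cfsg.oddCore G).Normal := inferInstanceAs (Cfsg.pPrimeCore 2 G).Normal
  refine (IsSimpleGroup.eq_bot_or_eq_top_of_normal _ inferInstance).resolve_right fun h => ?_
  have ho : Odd (Nat.card (Cfsg.oddCore G)) := Cores.odd_card_oddCore
  rw [h, Subgroup.card_top] at ho
  have := orderOf_dvd_natCard t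
  rw [S.invol] at this
  exact Nat.not_even_iff_odd.2 ho (even_iff_two_dvd.2 this)

theorem exists_noncommute : ∃ g : G, ¬ Commute g t := by
  by_contra hc
  push Not at hc
  have hmem : t ∈ center G := mem_center_iff.2 fun g => (hc g).eq
  haveI := S.simple
  rcases IsSimpleGroup.eq_bot_or_eq_top_of_normal (center G) inferInstance with h | h
  · exact S.ne_one (by rwa [h, mem_bot] at hmem)
  · obtain ⟨w, hw⟩ := D.swapT
    have h1 : Commute w (D.T (e, 1)) := S.commute_lift
      (mem_center_iff.1 (h ▸ mem_top (S.ι (D.T (e, 1)))) _)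
    have h2 := hw e 1
    rw [h1.eq, mul_inv_cancel_right] at h2
    exact Invol.ne_e he (T_pair_injective D h2).1

theorem exists_exchange :
    ∃ g : G, g * t * g⁻¹ = S.ι (D.T (e, 1)) ∧ g * S.ι (D.T (e, 1)) * g⁻¹ = t := by
  classical
  set u := S.ι (D.T (e, 1)) with hu
  obtain ⟨g₀, hg₀⟩ : ∃ g : G, g * t * g⁻¹ = u := by
    by_contra hno
    push Not at hno
    obtain ⟨g, hg⟩ := S.exists_noncommute he
    refine hg ?_
    have hiso : Cfsg.IsIsolated t := fun g hcm => by
      rcases S.invol_cases he (s := g * t * g⁻¹) (by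
          rw [show g * t * g⁻¹ * (g * t * g⁻¹) = g * (t * t) * g⁻¹ by group, S.tt, mul_one,
            mul_inv_cancel])
        (fun hh => S.ne_one (conj_eq_one_iff.1 hh)) hcm.symm with hc | ⟨c, -, hce⟩
      · exact hc
      · refine absurd ?_ (hno (c⁻¹ * g))
        rw [show c⁻¹ * g * t * (c⁻¹ * g)⁻¹ = c⁻¹ * (g * t * g⁻¹) * c by group,
          ← hce, hu]; group
    haveI : Fact (Nat.Prime 2) := ⟨Nat.prime_two⟩
    obtain ⟨P, hP⟩ := (IsPGroup.of_card (n := 1) (by
      rw [Nat.card_zpowers, S.invol, pow_one]) : IsPGroup 2 (zpowers t)).exists_le_sylow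
    have h1 := Cores.glaubermanZStar P S.invol (hP (mem_zpowers t))
      (fun k hk => H61.eq_of_conj_mem hiso P.isPGroup' (hP (mem_zpowers t)) hk) g
    rw [S.oddCore_eq_bot he, mem_bot] at h1
    show g * t = t * g
    calc g * t = (t * g * t⁻¹ * g⁻¹)⁻¹ * (t * g) := by group
      _ = t * g := by rw [h1, inv_one, one_mul]
  set a := g₀⁻¹ * t * g₀ with ha
  have hta : Commute a t := by
    have h0 : Commute t u := (S.commute_image _).symm
    have h1 : g₀⁻¹ * u * g₀ = t := by rw [← hg₀]; group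
    have := h0.map (MulAut.conj g₀⁻¹)
    simp only [MulAut.conj_apply, inv_inv, h1] at this
    exact this
  rcases S.invol_cases he (s := a) (by
      rw [ha, show g₀⁻¹ * t * g₀ * (g₀⁻¹ * t * g₀) = g₀⁻¹ * (t * t) * g₀ by group, S.tt, mul_one,
        inv_mul_cancel])
    (fun hh => S.ne_one (by
      have := congrArg (fun z => g₀ * z * g₀⁻¹) hh
      simpa [ha, mul_assoc] using this)) hta with hc | ⟨c, hct, hce⟩
  · exfalso
    refine S.u_ne_t he ?_
    calc u = g₀ * t * g₀⁻¹ := hg₀.symm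
      _ = g₀ * a * g₀⁻¹ := by rw [hc]
      _ = t := by rw [ha]; group
  · refine ⟨g₀ * c, ?_, ?_⟩
    · rw [show g₀ * c * t * (g₀ * c)⁻¹ = g₀ * (c * t * c⁻¹) * g₀⁻¹ by group, hct.eq,
        mul_inv_cancel_right, hg₀]
    · rw [show g₀ * c * u * (g₀ * c)⁻¹ = g₀ * (c * u * c⁻¹) * g₀⁻¹ by group, hce, ha]; group

/-- One class of involutions. -/
theorem orderOf_two_conj {i : G} (hi : orderOf i = 2) : IsConj t i := by
  haveI : Fact (Nat.Prime 2) := ⟨Nat.prime_two⟩
  set C := centralizer ({t} : Set G) with hCdef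
  obtain ⟨T⟩ : Nonempty (Sylow 2 C) := inferInstance
  have hidx : ¬ 2 ∣ ((T : Subgroup C).map C.subtype).index := by
    rw [index_map_subtype]
    intro hd
    rcases Nat.prime_two.dvd_mul.mp hd with h | h
    · exact T.not_dvd_index h
    · exact Nat.not_even_iff_odd.mpr (S.odd_index he) (even_iff_two_dvd.mpr h)
  let P : Sylow 2 G := (T.isPGroup'.map C.subtype).toSylow hidx
  obtain ⟨R, hR⟩ := (IsPGroup.of_card (n := 1) (by rw [Nat.card_zpowers, hi, pow_one]) :
    IsPGroup 2 (zpowers i)).exists_le_sylow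
  obtain ⟨k, hk⟩ := MulAction.exists_smul_eq G R P
  have hmem : k * i * k⁻¹ ∈ (P : Subgroup G) := by
    rw [← hk, Sylow.coe_subgroup_smul, mem_pointwise_smul_iff_inv_smul_mem]
    simp only [MulAut.smul_def, MulAut.inv_apply, MulAut.conj_symm_apply]
    rw [show k⁻¹ * (k * i * k⁻¹) * k = i by group]
    exact hR (mem_zpowers i)
  obtain ⟨c, -, hc⟩ := hmem
  have hct : Commute (k * i * k⁻¹) t :=
    (show (c : G) = k * i * k⁻¹ from hc) ▸ mem_centralizer_singleton_iff.mp c.2
  have hii : i * i = 1 := by rw [← pow_two, ← hi, pow_orderOf_eq_one]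
  refine IsConj.trans ?_ (isConj_iff.2 ⟨k, rfl⟩ : IsConj i (k * i * k⁻¹)).symm
  rcases S.invol_cases he (s := k * i * k⁻¹) (by
      rw [show k * i * k⁻¹ * (k * i * k⁻¹) = k * (i * i) * k⁻¹ by group, hii, mul_one,
        mul_inv_cancel]) (fun hh => by
      rw [conj_eq_one_iff] at hh; rw [hh, orderOf_one] at hi; omega) hct with hh | ⟨d, -, hd⟩
  · rw [hh]
  · obtain ⟨g, hg, -⟩ := S.exists_exchange he
    exact (isConj_iff.2 ⟨g, hg⟩).trans (isConj_iff.2 ⟨d, hd⟩)

end Cov

end Cfsg.Agent.H84.WR
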