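import Cfsg.Agent.H84.WR.SettingIndex
import Cfsg.Agent.H84.WR.TableLocal
import Cfsg.Agent.H68.UThree.Norm3Main

/-!
# From a covering of the centraliser to the order formula and the lift of `1 - St + X`, `Q ≡ 1 (4)`
-/

set_option autoImplicit false
set_option linter.unusedSectionVars false
set_option linter.unusedSimpArgs false
set_option linter.style.haveILetI false

namespace Cfsg.Agent.H84.WR

open Subgroup Cfsg Cfsg.Agent.H36.TwoTori Cfsg.Agent.H3.SDOrder

universe u v

variable {H A B : Type v} [Group H] [Fintype H] [CommGroup A] [Fintype A] [CommGroup B] [Fintype B]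
  {Q : ℤ} {D : Table H A B Q} {G : Type u} [Group G] [Finite G] {t : G}

namespace Cov

variable (S : Cov D G t) {e : A} (he : orderOf e = 2)
include S he

theorem commute_torus {a b : G} (ha : Commute a t ∧ Commute a (S.ι (D.T (e, 1))))
    (hb : Commute b t ∧ Commute b (S.ι (D.T (e, 1)))) : Commute a b := by
  obtain ⟨p, q, rfl⟩ := (S.mem_torus he).2 ha
  obtain ⟨r, w, rfl⟩ := (S.mem_torus he).2 hb
  exact ((Commute.all (p, q) (r, w)).map D.T).map S.ι

/-- After an automorphism of `H` the fusion is the standard one. -/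
theorem exists_std {m o : ℕ} (hm : 1 ≤ m) (ho : Odd o) (L : TwoLog A m)
    (hcard : Nat.card A = 2 ^ m * o) :
    ∃ π : H →* centralizer ({t} : Set G),
      Function.Surjective π ∧ π.ker ≤ center H ∧ Odd (Nat.card π.ker) ∧
      (π (D.T (e, e)) : G) = t ∧
      (∀ x, Commute (π x : G) (S.ι (D.T (e, 1))) → ∃ a b, D.T (a, b) = x) ∧
      ∃ g : G, ∀ a b : A, (∃ n, a ^ 2 ^ n = 1) → (∃ n, b ^ 2 ^ n = 1) →
        g * (π (D.T (a, b)) : G) * g⁻¹ = π (D.T (a⁻¹, b * a⁻¹)) := by
  haveI : NeZero (2 ^ m) := ⟨(Nat.two_pow_pos m).ne'⟩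
  obtain ⟨zp, zadd, zl, zN, zeq⟩ := exists_twoPart L ho hcard
  have zzero : zp 0 = 1 := by
    have := zadd 0 0
    rwa [add_zero, left_eq_mul] at this
  set P : ZMod (2 ^ m) × ZMod (2 ^ m) → G := fun v => S.ι (D.T (zp v.1, zp v.2)) with hP
  have Padd : ∀ v w, P (v + w) = P v * P w := fun v w => by
    simp only [hP, Prod.fst_add, Prod.snd_add, zadd, ← map_mul, Prod.mk_mul_mk]
  have Pone : ∀ v, P v = 1 → v = 0 := fun v hv => by
    obtain ⟨a, ha, hao⟩ := S.ker_scalar hv
    obtain ⟨e1, e2⟩ := T_pair_injective D ha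
    exact Prod.ext (by rw [← zl v.1, e1, (L.ker a).2 hao]; rfl)
      (by rw [← zl v.2, e2, (L.ker a).2 hao]; rfl)
  have Pinj : Function.Injective P := fun v w h => sub_eq_zero.1 (Pone _ (by
    have h1 := Padd (v - w) w
    rw [sub_add_cancel, h] at h1
    exact right_eq_mul.1 h1))
  set u := S.ι (D.T (e, 1)) with hu
  have PD : ∀ v, Commute (P v) t ∧ Commute (P v) u := fun v => (S.mem_torus he).1 ⟨_, _, rfl⟩
  have Pmem : ∀ d : G, Commute d t ∧ Commute d u → d ^ 2 ^ m = 1 → ∃ v, d = P v := by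
    intro d hd hdN
    obtain ⟨x, y, rfl⟩ := (S.mem_torus he).2 hd
    refine ⟨(L.l x, L.l y), ?_⟩
    set x₀ := x / zp (L.l x) with hx₀
    set y₀ := y / zp (L.l y) with hy₀
    have hsplit : S.ι (D.T (x, y)) = P (L.l x, L.l y) * S.ι (D.T (x₀, y₀)) := by
      rw [hP, ← map_mul, ← map_mul, Prod.mk_mul_mk, hx₀, hy₀, mul_div_cancel, mul_div_cancel]
    have hodd : ∀ w : A, Odd (orderOf (w / zp (L.l w))) := fun w => (L.ker _).1 (by
      rw [div_eq_mul_inv, L.map_mul, L.map_inv, zl, add_neg_cancel])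
    have hod : Odd (orderOf (S.ι (D.T (x₀, y₀)))) := by
      refine Odd.of_dvd_nat ?_ (orderOf_map_dvd (S.ι.comp D.T) (x₀, y₀))
      rw [Prod.orderOf]
      exact ((hodd x).mul (hodd y)).of_dvd_nat (Nat.lcm_dvd_mul _ _)
    have hN : S.ι (D.T (x₀, y₀)) ^ 2 ^ m = 1 := by
      rw [hsplit, (S.commute_torus he (PD _) ((S.mem_torus he).1 ⟨_, _, rfl⟩)).mul_pow, hP,
        ← map_pow, ← map_pow D.T, Prod.pow_mk, zN, zN, Prod.mk_one_one, map_one, map_one,
        one_mul] at hdN
      exact hdN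
    rw [hsplit, eq_one_of_odd_two_pow hod hN, mul_one]
  have Ppow : ∀ v, P v ^ 2 ^ m = 1 := fun v => by
    rw [← map_smul_pow Padd, ZMod.natCast_self, zero_smul]
    show S.ι (D.T (zp 0, zp 0)) = 1
    rw [zzero, Prod.mk_one_one, map_one, map_one]
  set h := half m with hh
  have zh : zp h = e := by
    refine Invol.eq_e D he (by rw [← zadd, half_add hm, zzero]) fun hz => half_ne_zero hm ?_
    rw [← hh, ← zl h, hz, L.map_one]
  have Pt : P (h, h) = t := by simp only [hP, zh]; exact S.ι_ee he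
  have Pu : P (h, 0) = u := by simp only [hP, zh, zzero, hu]
  obtain ⟨g, gt, gu⟩ := S.exists_exchange he
  rw [← hu] at gt gu
  have gconj : ∀ d : G, Commute d t ∧ Commute d u →
      Commute (g * d * g⁻¹) t ∧ Commute (g * d * g⁻¹) u := fun d hd => by
    constructor
    · have := hd.2.map (MulAut.conj g)
      simpa only [MulAut.conj_apply, gu] using this
    · have := hd.1.map (MulAut.conj g)
      simpa only [MulAut.conj_apply, gt] using this
  obtain ⟨⟨x, y⟩, hxy⟩ := Pmem _ (gconj _ (PD (1, 1))) (by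
    rw [conj_pow, Ppow, mul_one, mul_inv_cancel])
  obtain ⟨ex, ey⟩ : h * x = h ∧ h * y = 0 := by
    have h1 := conj_smul Padd hxy h
    simp only [Prod.smul_mk, smul_eq_mul, mul_one] at h1
    rw [Pt, gt, ← Pu] at h1
    exact ⟨(Prod.ext_iff.1 (Pinj h1)).1.symm, (Prod.ext_iff.1 (Pinj h1)).2.symm⟩
  have hne : h ≠ 0 := half_ne_zero hm
  obtain ⟨c, hc⟩ := isUnit_of_half hm (show h * (x - y) ≠ 0 by rwa [mul_sub, ex, ey, sub_zero])
  set k : ZMod (2 ^ m) := y * ((c⁻¹ : (ZMod (2 ^ m))ˣ) : ZMod (2 ^ m)) with hk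
  have hky : k * (x - y) = y := by rw [hk, ← hc, mul_assoc, c.inv_mul, mul_one]
  have hk2 : IsUnit (1 + 2 * k) := by
    refine isUnit_of_half hm (show h * (1 + 2 * k) ≠ 0 from ?_)
    rwa [mul_add, mul_one, ← mul_assoc, mul_two, half_add hm, zero_mul, add_zero]
  let θ : H →* H :=
    { toFun := fun M => M * D.T (zp (k * L.l (S.det M)), zp (k * L.l (S.det M)))
      map_one' := by
        rw [map_one, L.map_one, mul_zero, zzero, one_mul, Prod.mk_one_one]; exact map_one D.T
      map_mul' := fun M N => by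
        simp only [map_mul, L.map_mul, mul_add, zadd]
        rw [← Prod.mk_mul_mk, map_mul, mul_assoc M, ← mul_assoc N,
          mem_center_iff.1 (D.T_center _) N]
        simp only [mul_assoc] }
  have θapp : ∀ M, θ M = M * D.T (zp (k * L.l (S.det M)), zp (k * L.l (S.det M))) := fun M => rfl
  have θinj : Function.Injective θ := by
    refine (injective_iff_map_eq_one θ).2 fun M hM => ?_
    rw [θapp] at hM
    set i := k * L.l (S.det M) with hi
    have hMi := eq_inv_of_mul_eq_one_left hM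
    rw [← map_inv, Prod.inv_mk] at hMi
    have h1 : i = k * L.l ((zp i)⁻¹ * (zp i)⁻¹) := by rw [hi, ← S.det_T, ← hMi]
    rw [L.map_mul, L.map_inv, zl] at h1
    have h2 : i = 0 := hk2.mul_right_eq_zero.1 (by linear_combination h1)
    rw [hMi, h2, zzero, inv_one, Prod.mk_one_one]
    exact map_one D.T
  have θbij : Function.Bijective θ := Finite.injective_iff_bijective.1 θinj
  have θtor : ∀ i j : ZMod (2 ^ m), θ (D.T (zp i, zp j)) =
      D.T (zp (i + k * (i + j)), zp (j + k * (i + j))) := fun i j => by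
    rw [θapp, S.det_T, L.map_mul, zl, zl, ← map_mul, Prod.mk_mul_mk, ← zadd, ← zadd]
  let π : H →* centralizer ({t} : Set G) :=
    (S.ι.comp θ).codRestrict _ fun M => mem_centralizer_singleton_iff.2 (S.commute_image _).eq
  have πcoe : ∀ M, (π M : G) = S.ι (θ M) := fun M => rfl
  set R : ZMod (2 ^ m) × ZMod (2 ^ m) → G :=
    fun v => P (v.1 + k * (v.1 + v.2), v.2 + k * (v.1 + v.2)) with hR
  have πR : ∀ i j, (π (D.T (zp i, zp j)) : G) = R (i, j) := fun i j => by rw [πcoe, θtor]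
  have Radd : ∀ v w, R (v + w) = R v * R w := fun v w => by
    simp only [hR, ← Padd, Prod.mk_add_mk, Prod.fst_add, Prod.snd_add]
    congr 1
    exact Prod.ext (by simp only; ring) (by simp only; ring)
  have Rinj : Function.Injective R := fun v w hvw => by
    obtain ⟨e1, e2⟩ := Prod.ext_iff.1 (Pinj hvw)
    simp only at e1 e2
    have hs : v.1 + v.2 = w.1 + w.2 := hk2.mul_left_cancel (by linear_combination e1 + e2)
    exact Prod.ext (by linear_combination e1 - k * hs) (by linear_combination e2 - k * hs)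
  have h1 : g * R (1, 1) * g⁻¹ = R ((1 + 2 * k) * (x - y), 0) := by
    have h2 := conj_smul Padd hxy (1 + 2 * k)
    simp only [Prod.smul_mk, smul_eq_mul, mul_one] at h2
    have e1 : R (1, 1) = P (1 + 2 * k, 1 + 2 * k) :=
      congrArg P (Prod.ext (by simp only; ring) (by simp only; ring))
    have e2 : R ((1 + 2 * k) * (x - y), 0) = P ((1 + 2 * k) * x, (1 + 2 * k) * y) :=
      congrArg P (Prod.ext (by simp only; linear_combination (1 + 2 * k) * hky)
        (by simp only; linear_combination (1 + 2 * k) * hky))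
    rw [e1, e2]
    exact h2
  have hgg : Commute (g * g) t ∧ Commute (g * g) u := by
    constructor <;> refine mul_inv_eq_iff_eq_mul.1 ?_
    · rw [show g * g * t * (g * g)⁻¹ = g * (g * t * g⁻¹) * g⁻¹ by group, gt, gu]
    · rw [show g * g * u * (g * g)⁻¹ = g * (g * u * g⁻¹) * g⁻¹ by group, gu, gt]
  have hsq : g * (g * R (1, 1) * g⁻¹) * g⁻¹ = R (1, 1) := by
    rw [show g * (g * R (1, 1) * g⁻¹) * g⁻¹ = g * g * R (1, 1) * (g * g)⁻¹ by group]
    exact mul_inv_eq_iff_eq_mul.2 (S.commute_torus he hgg (PD _)).eq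
  obtain ⟨w₀, -, hw⟩ := exists_swap2 D
  have hswap : ∀ i j, S.ι w₀ * R (i, j) * (S.ι w₀)⁻¹ = R (j, i) := fun i j => by
    simp only [hR, hP, ← map_inv, ← map_mul, hw]
    rw [add_comm j i]
  have hcube : (S.ι w₀ * g) ^ 3 * R (0, 1) * ((S.ι w₀ * g) ^ 3)⁻¹ = R (0, 1) := by
    set s := S.ι w₀ with hs
    have cj : ∀ {a b c : G}, g * a * g⁻¹ = b → s * b * s⁻¹ = c → s * g * a * (s * g)⁻¹ = c :=
      fun {a b c} e1 e2 => by rw [← e2, ← e1]; group
    have st : s * t * s⁻¹ = t := mul_inv_eq_iff_eq_mul.2 (S.commute_image _).eq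
    have su : s * u * s⁻¹ = t * u := by
      rw [hu, S.tu_eq he, hs, ← map_inv, ← map_mul, ← map_mul, hw]
    have stu : s * (t * u) * s⁻¹ = u := by
      rw [hu, S.tu_eq he, hs, ← map_inv, ← map_mul, ← map_mul, hw]
    have gtu : g * (t * u) * g⁻¹ = t * u := by
      rw [show g * (t * u) * g⁻¹ = g * t * g⁻¹ * (g * u * g⁻¹) by group, gt, gu]
      exact (S.commute_image _).eq
    have c1 := cj gt su
    have c2 := cj gtu stu
    have c3 := cj gu st
    have hpow : ∀ a : G, (s * g) ^ 3 * a * ((s * g) ^ 3)⁻¹ =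
        s * g * (s * g * (s * g * a * (s * g)⁻¹) * (s * g)⁻¹) * (s * g)⁻¹ := fun a => by
      simp only [pow_succ, pow_zero, one_mul, _root_.mul_inv_rev, mul_assoc]
    exact mul_inv_eq_iff_eq_mul.2 (S.commute_torus he
      ⟨mul_inv_eq_iff_eq_mul.1 (by rw [hpow, c1, c2, c3]),
        mul_inv_eq_iff_eq_mul.1 (by rw [hpow, c3, c1, c2])⟩ (PD _)).eq
  have hfus := fused_of_axes Radd Rinj (hk2.mul (⟨c, hc⟩ : IsUnit (x - y))) h1 hsq hswap hcube
  refine ⟨π, fun z => ?_, fun M hM => ?_, ?_, ?_, fun M hM => ?_, g, fun a b ha hb => ?_⟩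
  · obtain ⟨M, hM⟩ := (S.range_iff _).2 (mem_centralizer_singleton_iff.1 z.2 : Commute (z : G) t)
    obtain ⟨N, rfl⟩ := θbij.2 M
    exact ⟨N, Subtype.ext hM⟩
  · have h2 : θ M ∈ S.ι.ker := congrArg Subtype.val hM
    rw [show M = θ M * (D.T (zp (k * L.l (S.det M)), zp (k * L.l (S.det M))))⁻¹ by
      rw [θapp, mul_inv_cancel_right]]
    exact mul_mem (S.ker_center h2) (inv_mem (D.T_center _))
  · have hcK : Nat.card π.ker = Nat.card S.ι.ker :=
      Nat.card_congr (Equiv.subtypeEquiv (Equiv.ofBijective θ θbij) fun M =>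
        (Subtype.ext_iff (a1 := π M) (a2 := 1)).trans Iff.rfl)
    rw [hcK]
    exact S.ker_odd
  · rw [πcoe, θapp, S.det_T, Invol.sq_e he, L.map_one, mul_zero, zzero, Prod.mk_one_one,
      map_one D.T, mul_one]
    exact S.ι_ee he
  · rw [πcoe, hu] at hM
    obtain ⟨a, b, hab⟩ := cent_refl' D he (S.commute_lift hM)
    refine ⟨a * (zp (k * L.l (S.det M)))⁻¹, b * (zp (k * L.l (S.det M)))⁻¹, ?_⟩
    rw [← Prod.mk_mul_mk, map_mul, hab, ← Prod.inv_mk, map_inv, θapp, mul_inv_cancel_right]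
  · have ea := zeq a ha
    have eb := zeq b hb
    have ei : a⁻¹ = zp (-L.l a) := inv_eq_of_mul_eq_one_right (by
      nth_rw 1 [ea]
      rw [← zadd, add_neg_cancel, zzero])
    have ej : b * a⁻¹ = zp (L.l b - L.l a) := by
      rw [sub_eq_add_neg, zadd, ← ei, ← eb]
    rw [ej, ei, πR]
    conv_lhs => rw [ea, eb, πR]
    exact hfus _ _

omit he in
theorem not_comm : ¬ IsMulCommutative G := fun h => by
  obtain ⟨e, he⟩ := exists_two D
  obtain ⟨a, ha⟩ := S.exists_noncommute he
  exact ha (mul_comm' a t)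

/-- Everything the engine needs, with the property of the torus. -/
theorem exists_engine [Fintype G] [Fintype (centralizer ({t} : Set G))] (h4 : Q % 4 = 1) :
    ∃ (m : ℕ) (L : Logs D m) (π : H →* centralizer ({t} : Set G)) (F : Funs t m Q),
      Function.Surjective π ∧
      (∀ x, Commute (π x : G) (S.ι (D.T (e, 1))) → ∃ a b, D.T (a, b) = x) ∧
      ∀ j x, F.φ j (π x) = fnA L j x := by
  obtain ⟨m, ⟨L⟩⟩ := exists_logs D h4
  have hoA : Odd L.oA := by
    have h : ((Nat.card A : ℤ)).natAbs = (D.σ * (L.K * 2 ^ m)).natAbs := by rw [D.cardA, L.hK]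
    have hs : D.σ.natAbs = 1 := by rcases D.σ_pm with e | e <;> rw [e] <;> rfl
    rw [Int.natAbs_natCast, L.cardA, Int.natAbs_mul, hs, one_mul, Int.natAbs_mul,
      Int.natAbs_pow, show (2 : ℤ).natAbs = 2 from rfl, mul_comm] at h
    rw [Nat.eq_of_mul_eq_mul_right (Nat.two_pow_pos m) h]
    exact Int.natAbs_odd.2 L.oddK
  obtain ⟨π, hπ, hK, hKo, hπt, htor, g, hg⟩ :=
    S.exists_std he (le_trans (by norm_num) L.two_le) hoA L.LA L.cardA
  obtain ⟨F, hF, -⟩ := exists_funs_eq L S.invol hπ hK hKo he hπt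
    ⟨g, fun a b ha hb => hg a b ⟨m, ha⟩ ⟨m, hb⟩⟩
  exact ⟨m, L, π, F, hπ, htor, hF⟩

omit he in
/-- The order formula. -/
theorem index_formula (h4 : Q % 4 = 1) :
    ((centralizer ({t} : Set G)).index : ℤ) = Q ^ 2 * (Q ^ 2 + Q + 1) := by
  obtain ⟨e, he⟩ := exists_two D
  haveI := Fintype.ofFinite G
  haveI : Fintype (centralizer ({t} : Set G)) := Fintype.ofFinite _
  haveI := S.simple
  obtain ⟨m, L, π, F, -, -, -⟩ := S.exists_engine he h4
  have h3 := D.three_le
  exact centralizer_index S.not_comm S.invol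
    (fun a ha => S.orderOf_two_conj he ((Subgroup.orderOf_coe a).trans ha)) L.two_le h4
    (by rcases D.σ_pm with h | h <;> rw [h] at h3 <;> omega) F

omit he in
/-- The lift wanted in the unitary case: `Q = -q`. -/
theorem phiLift [Fintype G] (h4 : Q % 4 = 1) {q : ℕ} (hq : Q = -(q : ℤ)) {i : G} {K D' : Subgroup G}
    (hi : orderOf i = 2) (hit : i * t = t * i) (hne : i ≠ t)
    (hD' : D' = centralizer ({t} : Set G) ⊓ centralizer ({i} : Set G))
    (hK : ∀ x ∈ centralizer ({t} : Set G),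
      (∀ g ∈ centralizer ({t} : Set G), x * g = g * x) → x ∈ K) :
    H68.UThree.PhiLift q t K D' := by
  classical
  obtain ⟨e, he⟩ := exists_two D
  haveI : Fintype (centralizer ({t} : Set G)) := Fintype.ofFinite _
  haveI := S.simple
  obtain ⟨m, L, π, F, hπ, htor, hF⟩ := S.exists_engine he h4
  have hinv : ∀ a : centralizer ({t} : Set G), orderOf a = 2 → IsConj t (a : G) :=
    fun a ha => S.orderOf_two_conj he ((Subgroup.orderOf_coe a).trans ha)
  have h3 := D.three_le
  have hQ1 : Q ≠ 1 := by rcases D.σ_pm with h | h <;> rw [h] at h3 <;> omega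
  obtain ⟨χ₁, χ₂, α, β, hα, hβ, n1, n2, n12, c1, c2, c0, d1, d2⟩ :=
    phi_lift S.not_comm S.invol hinv L.two_le h4 hQ1 F ⟨0, Nat.two_pow_pos _⟩
  set j : Fin (2 ^ (m - 1)) := ⟨0, Nat.two_pow_pos _⟩
  have hq3 : 3 ≤ q := by
    rcases D.σ_pm with h | h <;> rw [h] at h3 <;> omega
  obtain ⟨a1, ha1⟩ := CharBasic.IsIrr.exists_degree χ₁.2
  obtain ⟨a2, ha2⟩ := CharBasic.IsIrr.exists_degree χ₂.2
  rw [ha1.2, hq] at d1
  rw [ha2.2, hq] at d2
  have e1 : α * (a1 : ℤ) = ((q ^ 3 : ℕ) : ℤ) := by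
    have e : (((α * a1 : ℤ)) : ℂ) = ((((q ^ 3 : ℕ) : ℤ)) : ℂ) := by
      push_cast; rw [d1]; push_cast; ring
    exact_mod_cast e
  have e2 : β * (a2 : ℤ) = -((q ^ 3 + 1 : ℕ) : ℤ) := by
    have e : (((β * a2 : ℤ)) : ℂ) = (((-((q ^ 3 + 1 : ℕ) : ℤ) : ℤ)) : ℂ) := by
      push_cast; rw [d2]; push_cast; ring
    exact_mod_cast e
  have hpos : 0 < q ^ 3 := pow_pos (by omega) 3
  obtain rfl : α = 1 := hα.resolve_right fun h => by rw [h] at e1; omega
  obtain rfl : β = -1 := hβ.resolve_left fun h => by rw [h] at e2; omega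
  refine ⟨F.φ j, CharBasic.IsGen.isClassFunction (F.gen1 j), fun x hx => ⟨F.sp1 j x hx, fun hxD => ?_⟩,
    χ₁, χ₂, ?_, ?_, ?_⟩
  · have hxi : Commute (x : G) i := by
      rw [hD'] at hxD
      exact mem_centralizer_singleton_iff.1 hxD.2
    rcases S.invol_cases he (s := i) (by rw [← pow_two, ← hi, pow_orderOf_eq_one])
      (fun h => by rw [h, orderOf_one] at hi; omega) hit with h | ⟨c, hct, hc⟩
    · exact absurd h hne
    set c' : centralizer ({t} : Set G) := ⟨c, mem_centralizer_singleton_iff.2 hct.eq⟩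
    obtain ⟨y, hy⟩ := hπ (c'⁻¹ * x * c')
    have hyu : Commute (π y : G) (S.ι (D.T (e, 1))) := by
      rw [hy]
      have h' := hxi.map (MulAut.conj c⁻¹)
      have e' : c⁻¹ * i * c = S.ι (D.T (e, 1)) := by rw [← hc]; group
      simp only [MulAut.conj_apply, inv_inv, e'] at h'
      exact h'
    obtain ⟨a, b, rfl⟩ := htor y hyu
    have hab : a = b := by
      by_contra hab
      refine hx ?_
      have h0 : F.φ j (π (D.T (a, b))) = 0 := by
        rw [hF, fnA]
        simp only [Pi.add_apply, Pi.sub_apply, D.lin_T _ _ _ hab, D.st_T _ _ _ hab,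
          D.cu_T _ _ _ hab]
        ring
      rw [hy] at h0
      have hcl := CharBasic.IsGen.isClassFunction (F.gen1 j) x c'⁻¹
      rw [inv_inv] at hcl
      rw [← hcl]
      exact h0
    subst hab
    have hcen : ∀ z : centralizer ({t} : Set G), π (D.T (a, a)) * z = z * π (D.T (a, a)) := fun z => by
      obtain ⟨z', rfl⟩ := hπ z
      rw [← map_mul, ← map_mul, mem_center_iff.1 (D.T_center a) z']
    have hxe : x = π (D.T (a, a)) := by
      calc x = c' * (c'⁻¹ * x * c') * c'⁻¹ := by group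
        _ = π (D.T (a, a)) := by rw [← hy, ← hcen, mul_inv_cancel_right]
    refine hK _ x.2 fun g hg => ?_
    have := congrArg Subtype.val (hcen ⟨g, hg⟩)
    rw [hxe]
    exact this
  · set f := F.φ j
    have hcl := CharInduce.isClassFunction_indFun (centralizer ({t} : Set G)) f
    rw [CharBasic.classFunction_expansion hcl]
    funext g
    have hcoef : ∀ χ : IrrCharacter G,
        classInner (indFun (centralizer ({t} : Set G)) f) (χ : G → ℂ) = SD.coeff f χ := fun χ =>
      CharInduce.classInner_indFun_left _ f _ (CharBasic.IsIrr.isClassFunction χ.2)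
    let o : IrrCharacter G := ⟨fun _ => 1, CharBasic.isIrrCharacter_one⟩
    have ho : SD.coeff f o = 1 := F.one1 j
    simp only [hcoef, Finset.sum_apply, Pi.smul_apply, smul_eq_mul]
    rw [← Finset.sum_subset (s₁ := {o, χ₁, χ₂}) (Finset.subset_univ _) fun χ _ hχ => by
      simp only [Finset.mem_insert, Finset.mem_singleton, not_or] at hχ
      rw [c0 χ (fun h => hχ.1 (Subtype.ext h)) hχ.2.1 hχ.2.2, zero_mul]]
    rw [Finset.sum_insert (by
        simp only [Finset.mem_insert, Finset.mem_singleton, not_or]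
        exact ⟨fun h => n1 (congrArg Subtype.val h).symm, fun h => n2 (congrArg Subtype.val h).symm⟩),
      Finset.sum_pair (Ne.symm n12), ho, c1, c2]
    show 1 * (1 : ℂ) + _ = _
    push_cast
    ring
  · rw [ha1.2, show a1 = q ^ 3 by omega]
  · rw [ha2.2, show a2 = q ^ 3 + 1 by omega]

end Cov

end Cfsg.Agent.H84.WR
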