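import Cfsg.Agent.H84.WR.Log

/-!
# How an element exchanging two axes acts on a square of residues modulo a power of two

`R` is an additive parametrisation of the two-part of a torus, `g` moves the diagonal generator to
the first axis, `g ^ 2` and `(s * g) ^ 3` centralise everything, and `s` exchanges the coordinates.
-/

set_option autoImplicit false
set_option linter.unusedSectionVars false

namespace Cfsg.Agent.H84.WR

theorem isUnit_of_half {m : ℕ} (hm : 1 ≤ m) {z : ZMod (2 ^ m)}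
    (hz : ((2 ^ (m - 1) : ℕ) : ZMod (2 ^ m)) * z ≠ 0) : IsUnit z := by
  rcases Nat.even_or_odd z.val with h | h
  · obtain ⟨r, hr⟩ := h
    refine absurd ?_ hz
    rw [← ZMod.natCast_zmod_val z, hr, ← Nat.cast_mul, ZMod.natCast_eq_zero_iff]
    refine ⟨r, ?_⟩
    have e : 2 ^ m = 2 ^ (m - 1) * 2 := by rw [← pow_succ]; congr 1; omega
    rw [e]
    ring
  · rw [← ZMod.natCast_zmod_val z]
    exact two_pow_coprime h

section

variable {G : Type*} [Group G] {N : ℕ} [NeZero N] {R : ZMod N × ZMod N → G}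

theorem conj_add (hadd : ∀ v w, R (v + w) = R v * R w) {g : G} {v w v' w' : ZMod N × ZMod N}
    (hv : g * R v * g⁻¹ = R v') (hw : g * R w * g⁻¹ = R w') :
    g * R (v + w) * g⁻¹ = R (v' + w') := by
  rw [hadd, hadd, ← hv, ← hw]; group

theorem map_smul_pow (hadd : ∀ v w, R (v + w) = R v * R w) (v : ZMod N × ZMod N) (k : ℕ) :
    R ((k : ZMod N) • v) = R v ^ k := by
  induction k with
  | zero =>
    have h := hadd 0 0
    rw [add_zero] at h
    simpa using h
  | succ k ih => rw [Nat.cast_succ, add_smul, one_smul, hadd, ih, pow_succ]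

theorem conj_smul (hadd : ∀ v w, R (v + w) = R v * R w) {g : G} {v v' : ZMod N × ZMod N}
    (hv : g * R v * g⁻¹ = R v') (k : ZMod N) : g * R (k • v) * g⁻¹ = R (k • v') := by
  rw [← ZMod.natCast_zmod_val k, map_smul_pow hadd, map_smul_pow hadd, ← hv, conj_pow]

/-- The action of `g` on the square. -/
theorem fused_of_axes (hadd : ∀ v w, R (v + w) = R v * R w) (hinj : Function.Injective R)
    {g s : G} {c : ZMod N} (hc : IsUnit c) (h1 : g * R (1, 1) * g⁻¹ = R (c, 0))
    (hsq : g * (g * R (1, 1) * g⁻¹) * g⁻¹ = R (1, 1))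
    (hs : ∀ i j, s * R (i, j) * s⁻¹ = R (j, i))
    (hcube : (s * g) ^ 3 * R (0, 1) * ((s * g) ^ 3)⁻¹ = R (0, 1)) :
    ∀ i j, g * R (i, j) * g⁻¹ = R (-i, j - i) := by
  obtain ⟨u, rfl⟩ := hc
  set d : ZMod N := ((u⁻¹ : (ZMod N)ˣ) : ZMod N) with hd
  have hdu : d * (u : ZMod N) = 1 := u.inv_mul
  rw [h1] at hsq
  have h0 : g * R (1, 0) * g⁻¹ = R (d, d) := by
    have := conj_smul hadd hsq d
    simpa [Prod.smul_mk, hdu] using this
  have key : ∀ i j : ZMod N, g * R (i, j) * g⁻¹ = R (j * u + (i - j) * d, (i - j) * d) := by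
    intro i j
    have := conj_add hadd (conj_smul hadd h1 j) (conj_smul hadd h0 (i - j))
    simpa [Prod.smul_mk] using this
  have step : ∀ i j : ZMod N,
      s * g * R (i, j) * (s * g)⁻¹ = R ((i - j) * d, j * u + (i - j) * d) := fun i j => by
    calc s * g * R (i, j) * (s * g)⁻¹ = s * (g * R (i, j) * g⁻¹) * s⁻¹ := by group
      _ = _ := by rw [key, hs]
  have h3 : (s * g) ^ 3 * R (0, 1) * ((s * g) ^ 3)⁻¹ =
      s * g * (s * g * (s * g * R (0, 1) * (s * g)⁻¹) * (s * g)⁻¹) * (s * g)⁻¹ := by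
    simp only [pow_succ, pow_zero, one_mul, mul_inv_rev, mul_assoc]
  rw [hcube, step, step, step] at h3
  obtain ⟨e1, e2⟩ := Prod.ext_iff.1 (hinj h3)
  simp only at e1 e2
  have a1 : d = (u : ZMod N) := by
    linear_combination -e1 - (d - (u : ZMod N)) * hdu
  have a2 : (u : ZMod N) = -1 := by
    rw [a1] at e2 hdu
    linear_combination e2 - (u : ZMod N) * hdu
  intro i j
  rw [key, a1, a2]
  congr 1
  refine Prod.ext ?_ ?_ <;> simp only <;> ring

end

end Cfsg.Agent.H84.WR
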