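import Cfsg.Agent.H3.SDOrder.Column
import Cfsg.Agent.H36.Wreath.Vec
import Cfsg.Agent.H84.WR.Fourier
import Cfsg.Agent.H84.WR.Funs

/-!
# The two vectors of a principal character, wreathed case

`Model` says what is used of `C = C(t)`: the split 2-torus `A`, the values of the principal block on
it, and the norm of principal functions on the elements having `t` as a power.
-/

set_option autoImplicit false
set_option linter.style.haveILetI false
set_option linter.unusedSectionVars false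

namespace Cfsg.Agent.H84.WR

open Subgroup Cfsg Cfsg.Agent.CharBasic Cfsg.Agent.CharInduce Cfsg.Agent.H3.SDOrder Finset
open scoped ComplexConjugate Classical
open Cfsg.Agent.H84.SD (coeff Special)

universe u

variable {G : Type u} [Group G] [Fintype G] {t : G} [Fintype (centralizer ({t} : Set G))]
  {M : Ideal AlgInt} {m : ℕ} {Q : ℤ}

/-- The data on `C(t)`. -/
structure Model (t : G) [Fintype (centralizer ({t} : Set G))] (M : Ideal AlgInt) (m : ℕ) (Q : ℤ)
    (φ : Fin (2 ^ (m - 1)) → centralizer ({t} : Set G) → ℂ)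
    (S Ψ : centralizer ({t} : Set G) → ℂ) where
  A : Multiplicative (ZMod (2 ^ m) × ZMod (2 ^ m)) →* centralizer ({t} : Set G)
  A_t : (A (Multiplicative.ofAdd (half m, half m)) : G) = t
  swap : ∃ w : centralizer ({t} : Set G), ∀ p : ZMod (2 ^ m) × ZMod (2 ^ m),
    w * A (Multiplicative.ofAdd p) * w⁻¹ = A (Multiplicative.ofAdd (p.2, p.1))
  fused : ∃ g : G, ∀ p : ZMod (2 ^ m) × ZMod (2 ^ m),
    g * (A (Multiplicative.ofAdd p) : G) * g⁻¹ = A (Multiplicative.ofAdd (rot p))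
  K : ℤ
  hK : Q - 1 = K * 2 ^ m
  c : IrrCharacter (centralizer ({t} : Set G)) → ZMod (2 ^ m) × ZMod (2 ^ m) → ℤ
  d : IrrCharacter (centralizer ({t} : Set G)) → ZMod (2 ^ (m + 1)) → ℤ
  β : IrrCharacter (centralizer ({t} : Set G)) → ZMod (2 ^ m) → ℤ
  d_pair : ∀ ψ ∈ principalBlock M (centralizer ({t} : Set G)), ∀ i : ZMod (2 ^ (m + 1)),
    d ψ (i + (i.val * 2 ^ m : ℕ)) = d ψ i
  eval : ∀ ψ ∈ principalBlock M (centralizer ({t} : Set G)), ∀ p : ZMod (2 ^ m) × ZMod (2 ^ m),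
    Spec m p → (ψ : centralizer ({t} : Set G) → ℂ) (A (Multiplicative.ofAdd p)) =
      hat₂ (c ψ) p + if p.1 = p.2 then ((Q - 1 : ℤ) : ℂ) * hat₁ (β ψ) p.1 else 0
  parity : ∀ ψ ∈ principalBlock M (centralizer ({t} : Set G)), ∀ w : ZMod (2 ^ m),
    (∑ a, c ψ (a, w - a)) -
      (∑ i : ZMod (2 ^ (m + 1)) with ((i.val : ℕ) : ZMod (2 ^ m)) = w, d ψ i) = 2 * β ψ w
  co1 : ∀ ψ ∈ principalBlock M (centralizer ({t} : Set G)), ∀ j,
    classInner (φ j) (ψ : _ → ℂ) = ((d ψ 0 - d ψ (rep m j) : ℤ) : ℂ)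
  co2 : ∀ ψ ∈ principalBlock M (centralizer ({t} : Set G)),
    classInner S (ψ : _ → ℂ) = ((d ψ 0 - d ψ ((2 ^ m : ℕ) : ZMod (2 ^ (m + 1))) : ℤ) : ℂ)
  co3 : ∀ ψ ∈ principalBlock M (centralizer ({t} : Set G)),
    2 * classInner Ψ (ψ : _ → ℂ) =
      (((d ψ 0 - d ψ ((2 ^ m : ℕ) : ZMod (2 ^ (m + 1)))) +
        (c ψ (0, 0) + c ψ (half m, half m) - c ψ (0, half m) - c ψ (half m, 0)) : ℤ) : ℂ)
  out1 : ∀ j, ∀ ψ : IrrCharacter (centralizer ({t} : Set G)),
    ψ ∉ principalBlock M (centralizer ({t} : Set G)) → classInner (φ j) (ψ : _ → ℂ) = 0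
  out2 : ∀ ψ : IrrCharacter (centralizer ({t} : Set G)),
    ψ ∉ principalBlock M (centralizer ({t} : Set G)) → classInner S (ψ : _ → ℂ) = 0
  out3 : ∀ ψ : IrrCharacter (centralizer ({t} : Set G)),
    ψ ∉ principalBlock M (centralizer ({t} : Set G)) → classInner Ψ (ψ : _ → ℂ) = 0
  energy : ∀ ψ ∈ principalBlock M (centralizer ({t} : Set G)),
    ∀ ψ' ∈ principalBlock M (centralizer ({t} : Set G)),
    (Nat.card (centralizer ({t} : Set G)) : ℂ)⁻¹ *
        ∑ x : centralizer ({t} : Set G), (if t ∈ zpowers (x : G) then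
          (ψ : _ → ℂ) x * conj ((ψ' : _ → ℂ) x) else 0) =
      (2 * (2 ^ m : ℂ) ^ 2)⁻¹ * (∑ p, if Spec m p then hat₂ (c ψ) p * conj (hat₂ (c ψ') p) else 0) +
        (4 * (2 ^ m : ℂ))⁻¹ * (∑ i, if i = 0 then 0 else hat₁ (d ψ) i * conj (hat₁ (d ψ') i))

/-- The special part of a character has norm less than one. -/
theorem special_norm_lt (ht : orderOf t = 2) (χ : IrrCharacter G) :
    ∑ x : centralizer ({t} : Set G),
        (if t ∈ zpowers (x : G) then Complex.normSq ((χ : G → ℂ) x) else 0) <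
      (Nat.card (centralizer ({t} : Set G)) : ℝ) := by
  haveI : Fintype (G ⧸ centralizer ({t} : Set G)) := Fintype.ofFinite _
  have hG : ∑ g : G, Complex.normSq ((χ : G → ℂ) g) = (Nat.card G : ℝ) := by
    have h := H83.sum_norm_sq χ.2
    simp only [← Complex.normSq_eq_conj_mul_self] at h
    exact_mod_cast h
  let T : Finset (centralizer ({t} : Set G)) :=
    Finset.univ.filter fun x : centralizer ({t} : Set G) => t ∈ zpowers (x : G)
  let f : (G ⧸ centralizer ({t} : Set G)) × centralizer ({t} : Set G) → G :=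
    fun p => p.1.out * (p.2 : G) * p.1.out⁻¹
  have hinj : Set.InjOn f (↑((Finset.univ : Finset (G ⧸ centralizer ({t} : Set G))) ×ˢ T) : Set ((G ⧸ centralizer ({t} : Set G)) × centralizer ({t} : Set G))) := by
    intro p hp p' hp' (h : p.1.out * (p.2 : G) * p.1.out⁻¹ = p'.1.out * (p'.2 : G) * p'.1.out⁻¹)
    simp only [Finset.coe_product, Set.mem_prod, T, Finset.coe_filter, Finset.mem_univ, true_and,
      Set.mem_setOf_eq, Finset.coe_univ, Set.mem_univ] at hp hp'
    have h1 : (p'.1.out⁻¹ * p.1.out) * (p.2 : G) * (p'.1.out⁻¹ * p.1.out)⁻¹ = (p'.2 : G) := by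
      calc _ = p'.1.out⁻¹ * (p.1.out * (p.2 : G) * p.1.out⁻¹) * p'.1.out := by group
        _ = _ := by rw [h]; group
    have h2 : p'.1.out⁻¹ * p.1.out ∈ centralizer ({t} : Set G) :=
      SD.mem_of_conj ht hp hp' (by rw [h1]; exact mem_zpowers _)
    have h3 : p'.1 = p.1 := by
      rw [← QuotientGroup.out_eq' p'.1, ← QuotientGroup.out_eq' p.1]
      exact QuotientGroup.eq.2 h2
    refine Prod.ext h3.symm (Subtype.ext ?_)
    rw [h3] at h
    exact mul_left_cancel (mul_right_cancel h)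
  have hone : (1 : G) ∉ (Finset.univ ×ˢ T).image f := by
    intro h
    obtain ⟨p, hp, he⟩ := Finset.mem_image.1 h
    simp only [Finset.mem_product, T, Finset.mem_filter, Finset.mem_univ, true_and] at hp
    have : (p.2 : G) = 1 := by
      calc (p.2 : G) = p.1.out⁻¹ * f p * p.1.out := by simp [f]; group
        _ = 1 := by rw [he]; group
    rw [this, zpowers_one_eq_bot, mem_bot] at hp
    rw [hp, orderOf_one] at ht
    exact absurd ht (by norm_num)
  have hconj : ∀ p : (G ⧸ centralizer ({t} : Set G)) × centralizer ({t} : Set G),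
      Complex.normSq ((χ : G → ℂ) (f p)) = Complex.normSq ((χ : G → ℂ) p.2) :=
    fun p => by rw [show f p = p.1.out * (p.2 : G) * p.1.out⁻¹ from rfl,
      IsIrr.isClassFunction χ.2]
  have hle : Complex.normSq ((χ : G → ℂ) 1) +
      (Fintype.card (G ⧸ centralizer ({t} : Set G)) : ℝ) * ∑ x ∈ T, Complex.normSq ((χ : G → ℂ) x) ≤ (Nat.card G : ℝ) := by
    rw [← hG]
    calc Complex.normSq ((χ : G → ℂ) 1) +
          (Fintype.card (G ⧸ centralizer ({t} : Set G)) : ℝ) * ∑ x ∈ T, Complex.normSq ((χ : G → ℂ) x)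
        = ∑ g ∈ insert 1 ((Finset.univ ×ˢ T).image f), Complex.normSq ((χ : G → ℂ) g) := by
          rw [Finset.sum_insert hone, Finset.sum_image hinj, Finset.sum_product]
          simp [hconj]
      _ ≤ _ := Finset.sum_le_sum_of_subset_of_nonneg (Finset.subset_univ _)
          fun g _ _ => Complex.normSq_nonneg _
  have hpos : 0 < Complex.normSq ((χ : G → ℂ) 1) := Complex.normSq_pos.2 (IsIrr.one_ne_zero χ.2)
  rw [card_eq_card_quotient_mul_card_subgroup (centralizer ({t} : Set G)), Nat.card_eq_fintype_card (α := G ⧸ centralizer ({t} : Set G))] at hle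
  push_cast at hle
  rw [← Finset.sum_filter]
  have hc : (0 : ℝ) < (Fintype.card (G ⧸ centralizer ({t} : Set G)) : ℝ) := by exact_mod_cast Fintype.card_pos
  by_contra hge
  push Not at hge
  have h5 := mul_le_mul_of_nonneg_left hge hc.le
  simp only [T] at hle
  linarith

/-- Multiplicities of a character on the split torus. -/
theorem exists_mult (χ : IrrCharacter G)
    (A : Multiplicative (ZMod (2 ^ m) × ZMod (2 ^ m)) →* G) (k : ZMod (2 ^ m) × ZMod (2 ^ m)) :
    ∃ n : ℤ, ∑ p, (χ : G → ℂ) (A (Multiplicative.ofAdd p)) * ee (-(k.1 * p.1 + k.2 * p.2)) =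
      ((2 : ℂ) ^ m) ^ 2 * n := by
  let l : Multiplicative (ZMod (2 ^ m) × ZMod (2 ^ m)) →* ℂˣ := MonoidHom.toHomUnits
    { toFun := fun p => ee (k.1 * p.toAdd.1 + k.2 * p.toAdd.2)
      map_one' := by simp [ee_zero]
      map_mul' := fun p q => by rw [← ee_add]; congr 1; simp [toAdd_mul]; ring }
  haveI : Fintype (Multiplicative (ZMod (2 ^ m) × ZMod (2 ^ m))) := Fintype.ofFinite _
  obtain ⟨n, hn⟩ := CharInduce.IsGen.exists_int_coeff
    (CharInduce.IsGen.of_char (IsChar.comp (IsIrr.isCharacter χ.2) A)) (isCharacter_hom l)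
  refine ⟨n, ?_⟩
  rw [classInner_def] at hn
  have hcard : (Nat.card (Multiplicative (ZMod (2 ^ m) × ZMod (2 ^ m))) : ℂ) = ((2 : ℂ) ^ m) ^ 2 := by
    rw [Nat.card_congr Multiplicative.toAdd, Nat.card_prod, Nat.card_zmod]; push_cast; ring
  rw [hcard, inv_mul_eq_iff_eq_mul₀ (pow_ne_zero _ (pow_ne_zero _ two_ne_zero))] at hn
  rw [← hn]
  refine Fintype.sum_equiv Multiplicative.ofAdd _ _ fun p => ?_
  show _ = (χ : G → ℂ) (A (Multiplicative.ofAdd p)) *
    conj (ee (k.1 * (Multiplicative.ofAdd p).toAdd.1 + k.2 * (Multiplicative.ofAdd p).toAdd.2))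
  rw [conj_ee, toAdd_ofAdd]

theorem hat₂_add (v w : ZMod (2 ^ m) × ZMod (2 ^ m) → ℤ) (p : ZMod (2 ^ m) × ZMod (2 ^ m)) :
    hat₂ (fun k => v k + w k) p = hat₂ v p + hat₂ w p := by
  simp only [hat₂, Int.cast_add, add_mul, Finset.sum_add_distrib]

/-- A vector pulled back along the sum of the two coordinates. -/
theorem hat₂_sum (f : ZMod (2 ^ m) → ℤ) (p : ZMod (2 ^ m) × ZMod (2 ^ m)) :
    hat₂ (fun k => f (k.1 + k.2)) p = if p.1 = p.2 then (2 : ℂ) ^ m * hat₁ f p.1 else 0 := by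
  rw [hat₂]
  have h : ∀ a : ZMod (2 ^ m), ∀ w, (f (a + (w - a)) : ℂ) * ee (a * p.1 + (w - a) * p.2) =
      (f w : ℂ) * ee (w * p.2) * ee (a * (p.1 - p.2)) := fun a w => by
    rw [add_sub_cancel, show a * p.1 + (w - a) * p.2 = w * p.2 + a * (p.1 - p.2) by ring, ee_add,
      mul_assoc]
  rw [Fintype.sum_prod_type, Finset.sum_congr rfl fun a _ => (Equiv.sum_comp (Equiv.subRight a)
    fun b => (f (a + b) : ℂ) * ee (a * p.1 + b * p.2)).symm]
  simp only [Equiv.subRight_apply, h]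
  rw [Finset.sum_comm]
  simp only [← Finset.mul_sum, sum_ee, sub_eq_zero]
  split_ifs with e
  · rw [← Finset.sum_mul, ← e, hat₁, mul_comm]; push_cast; ring
  · simp

/-- A vector pulled back along minus the first coordinate. -/
theorem hat₂_fst (f : ZMod (2 ^ m) → ℤ) (p : ZMod (2 ^ m) × ZMod (2 ^ m)) :
    hat₂ (fun k => f (-k.1)) p = if p.2 = 0 then (2 : ℂ) ^ m * hat₁ f (-p.1) else 0 := by
  rw [hat₂, Fintype.sum_prod_type]
  simp only [ee_add, ← mul_assoc, ← Finset.mul_sum, sum_ee]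
  split_ifs with e
  · rw [← Finset.sum_mul, hat₁, mul_comm ((2 : ℂ) ^ m)]
    push_cast
    congr 1
    exact Fintype.sum_equiv (Equiv.neg _) _ _ fun a => by simp
  · simp

/-- A vector pulled back along minus the second coordinate. -/
theorem hat₂_snd (f : ZMod (2 ^ m) → ℤ) (p : ZMod (2 ^ m) × ZMod (2 ^ m)) :
    hat₂ (fun k => f (-k.2)) p = if p.1 = 0 then (2 : ℂ) ^ m * hat₁ f (-p.2) else 0 := by
  rw [hat₂, Fintype.sum_prod_type, Finset.sum_comm]
  simp only [ee_add, mul_comm (ee (_ * p.1)), ← mul_assoc, ← Finset.mul_sum, sum_ee]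
  split_ifs with e
  · rw [← Finset.sum_mul, hat₁, mul_comm ((2 : ℂ) ^ m)]
    push_cast
    congr 1
    exact Fintype.sum_equiv (Equiv.neg _) _ _ fun a => by simp
  · simp

/-- Coefficients of combinations. -/
theorem classInner_principal {χ : IrrCharacter G} (hM : IsPModular 2 M) (ht : orderOf t = 2)
    (hχ : χ ∈ principalBlock M G) {f : centralizer ({t} : Set G) → ℂ}
    (hf : ∀ ψ : IrrCharacter (centralizer ({t} : Set G)),
      ψ ∉ principalBlock M (centralizer ({t} : Set G)) → classInner f (ψ : _ → ℂ) = 0)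
    (a : IrrCharacter (centralizer ({t} : Set G)) → ℤ)
    (ha : ∀ ψ : IrrCharacter (centralizer ({t} : Set G)),
      classInner (res t χ) (ψ : centralizer ({t} : Set G) → ℂ) = (a ψ : ℂ)) :
    coeff f χ = ∑ ψ : IrrCharacter (centralizer ({t} : Set G)),
      if ψ ∈ principalBlock M (centralizer ({t} : Set G)) then
        (a ψ : ℂ) * classInner f (ψ : _ → ℂ) else 0 := by
  rw [SD.coeff, show (fun k : centralizer ({t} : Set G) => (χ : G → ℂ) k) = res t χ from rfl]
  conv_lhs => rw [classFunction_expansion (isClassFunction_res (t := t) χ)]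
  rw [classInner_sum_right]
  refine Finset.sum_congr rfl fun ψ _ => ?_
  rw [classInner_smul_right, ha, map_intCast]
  split_ifs with h
  · rfl
  · rw [hf ψ h, mul_zero]

variable {φ : Fin (2 ^ (m - 1)) → centralizer ({t} : Set G) → ℂ}
  {S Ψ : centralizer ({t} : Set G) → ℂ}

/-- The vectors of a character met by the functions. -/
theorem Model.exists_vec (D : Model t M m Q φ S Ψ) (hM : IsPModular 2 M) (ht : orderOf t = 2)
    (hm : 2 ≤ m) (hsp1 : ∀ j, Special (φ j)) (hsp2 : Special S) (hsp3 : Special Ψ)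
    (χ : IrrCharacter G) (hmet : (∃ j, coeff (φ j) χ ≠ 0) ∨ coeff S χ ≠ 0 ∨ coeff Ψ χ ≠ 0) :
    ∃ V : H36.Wreath.Vec m, (∀ j, coeff (φ j) χ = (V.co (rep m j) : ℂ)) ∧
      coeff S χ = (V.co ((2 ^ m : ℕ) : ZMod (2 ^ (m + 1))) : ℂ) ∧
      2 * coeff Ψ χ = (V.coPsi : ℂ) ∧ 2 * conj ((χ : G → ℂ) t) = (V.val2 Q : ℂ) := by
  have hm1 : 1 ≤ m := by omega
  set B0 := principalBlock M (centralizer ({t} : Set G)) with hB0
  have hχ : χ ∈ principalBlock M G := by
    rcases hmet with ⟨j, h⟩ | h | h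
    · exact mem_principal_of_coeff_ne_zero hM ht (hsp1 j) (D.out1 j) h
    · exact mem_principal_of_coeff_ne_zero hM ht hsp2 D.out2 h
    · exact mem_principal_of_coeff_ne_zero hM ht hsp3 D.out3 h
  choose a ha using fun ψ : IrrCharacter (centralizer ({t} : Set G)) =>
    CharInduce.IsGen.exists_int_coeff (CharInduce.IsGen.of_char
      (IsChar.comp (IsIrr.isCharacter χ.2) (centralizer ({t} : Set G)).subtype))
      (IsIrr.isCharacter ψ.2)
  let a₀ : IrrCharacter (centralizer ({t} : Set G)) → ℤ := fun ψ => if ψ ∈ B0 then a ψ else 0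
  let c₀ : ZMod (2 ^ m) × ZMod (2 ^ m) → ℤ := fun k => ∑ ψ, a₀ ψ * D.c ψ k
  let d₀ : ZMod (2 ^ (m + 1)) → ℤ := fun i => ∑ ψ, a₀ ψ * D.d ψ i
  let b₀ : ZMod (2 ^ m) → ℤ := fun w => ∑ ψ, a₀ ψ * D.β ψ w
  have hval : ∀ x : centralizer ({t} : Set G), t ∈ zpowers (x : G) →
      (χ : G → ℂ) x = ∑ ψ, (a₀ ψ : ℂ) * (ψ : _ → ℂ) x := by
    intro x hx
    have h := principal_value hM ht χ hx
    rw [if_pos hχ] at h
    rw [← h, Finset.sum_filter]
    refine Finset.sum_congr rfl fun ψ _ => ?_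
    simp only [a₀, ← hB0]
    split_ifs with e
    · rw [← ha ψ]; rfl
    · simp
  have hcoeff : ∀ {f : centralizer ({t} : Set G) → ℂ} (g : IrrCharacter _ → ℤ) (r : ℂ),
      (∀ ψ, ψ ∉ B0 → classInner f (ψ : _ → ℂ) = 0) →
      (∀ ψ ∈ B0, r * classInner f (ψ : _ → ℂ) = (g ψ : ℂ)) →
      r * coeff f χ = ((∑ ψ, a₀ ψ * g ψ : ℤ) : ℂ) := by
    intro f g r hout hin
    rw [classInner_principal hM ht hχ hout a ha, Finset.mul_sum]
    push_cast
    refine Finset.sum_congr rfl fun ψ _ => ?_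
    simp only [a₀, ← hB0]
    split_ifs with e
    · rw [← hin ψ e]; ring
    · simp
  -- the values on the torus
  let AG : Multiplicative (ZMod (2 ^ m) × ZMod (2 ^ m)) →* G :=
    (centralizer ({t} : Set G)).subtype.comp D.A
  have hspec : ∀ p : ZMod (2 ^ m) × ZMod (2 ^ m), Spec m p →
      t ∈ zpowers ((D.A (Multiplicative.ofAdd p) : centralizer ({t} : Set G)) : G) := by
    rintro p ⟨k, hk⟩
    have h := pow_mem (mem_zpowers ((D.A (Multiplicative.ofAdd p) : centralizer ({t} : Set G)) : G)) k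
    rw [← SubmonoidClass.coe_pow, ← map_pow, ← ofAdd_nsmul, hk, D.A_t] at h
    exact h
  have lin₁ : ∀ {n : ℕ} [NeZero n] (v : IrrCharacter (centralizer ({t} : Set G)) → ZMod n → ℤ)
      (z : ZMod n),
      hat₁ (fun w => ∑ ψ, a₀ ψ * v ψ w) z = ∑ ψ, (a₀ ψ : ℂ) * hat₁ (v ψ) z := by
    intro n _ v z
    simp only [hat₁]
    push_cast
    simp only [Finset.sum_mul, Finset.mul_sum, mul_assoc]
    exact Finset.sum_comm
  have lin₂ : ∀ p, hat₂ c₀ p = ∑ ψ, (a₀ ψ : ℂ) * hat₂ (D.c ψ) p := by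
    intro p
    simp only [hat₂, c₀]
    push_cast
    simp only [Finset.sum_mul, Finset.mul_sum, mul_assoc]
    exact Finset.sum_comm
  have hA0 : ∀ p, Spec m p → (χ : G → ℂ) (AG (Multiplicative.ofAdd p)) =
      hat₂ c₀ p + if p.1 = p.2 then ((Q - 1 : ℤ) : ℂ) * hat₁ b₀ p.1 else 0 := by
    intro p hp
    rw [show AG (Multiplicative.ofAdd p) =
      ((D.A (Multiplicative.ofAdd p) : centralizer ({t} : Set G)) : G) from rfl,
      hval _ (hspec p hp), lin₂, show hat₁ b₀ p.1 = ∑ ψ, (a₀ ψ : ℂ) * hat₁ (D.β ψ) p.1 from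
        lin₁ D.β p.1]
    split_ifs with e
    · rw [Finset.mul_sum, ← Finset.sum_add_distrib]
      refine Finset.sum_congr rfl fun ψ _ => ?_
      by_cases hψ : ψ ∈ B0
      · rw [D.eval ψ hψ p hp, if_pos e]; ring
      · simp [a₀, hψ]
    · rw [add_zero]
      refine Finset.sum_congr rfl fun ψ _ => ?_
      by_cases hψ : ψ ∈ B0
      · rw [D.eval ψ hψ p hp, if_neg e, add_zero]
      · simp [a₀, hψ]
  -- multiplicities on the torus and their symmetries
  choose n hn using exists_mult (m := m) χ AG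
  have hn_hat : ∀ p, hat₂ n p = (χ : G → ℂ) (AG (Multiplicative.ofAdd p)) := by
    intro p
    have hN : ((2 : ℂ) ^ m) ^ 2 ≠ 0 := pow_ne_zero _ (pow_ne_zero _ two_ne_zero)
    apply mul_left_cancel₀ hN
    simp only [hat₂, Finset.mul_sum, ← mul_assoc, ← hn, Finset.sum_mul]
    rw [Finset.sum_comm]
    have h : ∀ q, ∑ k : ZMod (2 ^ m) × ZMod (2 ^ m),
        (χ : G → ℂ) (AG (Multiplicative.ofAdd q)) * ee (-(k.1 * q.1 + k.2 * q.2)) *
          ee (k.1 * p.1 + k.2 * p.2) =
        if q = p then ((2 : ℂ) ^ m) ^ 2 * (χ : G → ℂ) (AG (Multiplicative.ofAdd q)) else 0 := by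
      intro q
      simp only [mul_assoc, ← Finset.mul_sum, ← ee_add]
      have e : ∀ k : ZMod (2 ^ m) × ZMod (2 ^ m),
          -(k.1 * q.1 + k.2 * q.2) + (k.1 * p.1 + k.2 * p.2) =
            k.1 * (p.1 - q.1) + k.2 * (p.2 - q.2) := fun k => by ring
      simp only [e, ee_add, Fintype.sum_prod_type, ← Finset.mul_sum, ← Finset.sum_mul, sum_ee,
        sub_eq_zero, Prod.ext_iff]
      push_cast
      split_ifs <;> first | (exfalso; grind) | ring1
    simp only [h, Finset.sum_ite_eq', Finset.mem_univ, if_true]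
  have hn_conj : ∀ (τ : ZMod (2 ^ m) × ZMod (2 ^ m) → ZMod (2 ^ m) × ZMod (2 ^ m))
      (σ : ZMod (2 ^ m) × ZMod (2 ^ m) → ZMod (2 ^ m) × ZMod (2 ^ m)), (∀ p, σ (σ p) = p) →
      (∀ p, (χ : G → ℂ) (AG (Multiplicative.ofAdd (σ p))) =
        (χ : G → ℂ) (AG (Multiplicative.ofAdd p))) →
      (∀ k p : ZMod (2 ^ m) × ZMod (2 ^ m), (τ k).1 * p.1 + (τ k).2 * p.2 =
        k.1 * (σ p).1 + k.2 * (σ p).2) →
      ∀ k, n (τ k) = n k := by
    intro τ σ hσ hχσ hdual k
    have h1 := hn (τ k)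
    simp only [hdual] at h1
    rw [← Equiv.sum_comp (Function.Involutive.toPerm σ hσ)] at h1
    simp only [show ∀ i, (Function.Involutive.toPerm σ hσ) i = σ i from fun _ => rfl, hσ, hχσ] at h1
    rw [hn k] at h1
    exact_mod_cast (mul_left_cancel₀ (pow_ne_zero _ (pow_ne_zero _ two_ne_zero)) h1).symm
  have hn_swap : ∀ k, n (k.2, k.1) = n k := by
    refine hn_conj (fun k => (k.2, k.1)) (fun p => (p.2, p.1)) (fun p => rfl) (fun p => ?_)
      fun k p => by simp only; ring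
    obtain ⟨w, hw⟩ := D.swap
    show (χ : G → ℂ) ((D.A (Multiplicative.ofAdd (p.2, p.1)) : centralizer ({t} : Set G)) : G) = _
    rw [← hw p]
    exact IsIrr.isClassFunction χ.2 (AG (Multiplicative.ofAdd p)) (w : G)
  have hn_rot : ∀ k, n (-k.1 - k.2, k.2) = n k := by
    refine hn_conj (fun k => (-k.1 - k.2, k.2)) rot rot_rot (fun p => ?_)
      fun k p => by simp only [rot]; ring
    obtain ⟨g, hg⟩ := D.fused
    show (χ : G → ℂ) ((D.A (Multiplicative.ofAdd (rot p)) : centralizer ({t} : Set G)) : G) = _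
    rw [← hg p]
    exact IsIrr.isClassFunction χ.2 (AG (Multiplicative.ofAdd p)) g
  -- the corrected vector
  let c₁ : ZMod (2 ^ m) × ZMod (2 ^ m) → ℤ := fun k =>
    n k + -D.K * (b₀ (k.1 + k.2) + b₀ (-k.1) + b₀ (-k.2))
  have hN2 : ((Q - 1 : ℤ) : ℂ) = (D.K : ℂ) * (2 : ℂ) ^ m := by
    rw [D.hK]; push_cast; ring
  have hc₁ : ∀ p, hat₂ c₁ p = (χ : G → ℂ) (AG (Multiplicative.ofAdd p)) - ((Q - 1 : ℤ) : ℂ) *
      ((if p.1 = p.2 then hat₁ b₀ p.1 else 0) + (if p.2 = 0 then hat₁ b₀ (-p.1) else 0) +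
        (if p.1 = 0 then hat₁ b₀ (-p.2) else 0)) := by
    intro p
    have h : hat₂ c₁ p = hat₂ n p - (D.K : ℂ) * (hat₂ (fun k => b₀ (k.1 + k.2)) p +
        hat₂ (fun k => b₀ (-k.1)) p + hat₂ (fun k => b₀ (-k.2)) p) := by
      simp only [hat₂, c₁, ← Finset.sum_add_distrib, Finset.mul_sum, ← Finset.sum_sub_distrib]
      refine Finset.sum_congr rfl fun k _ => ?_
      push_cast
      ring
    rw [h, hn_hat, hat₂_sum, hat₂_fst, hat₂_snd, hN2]
    split_ifs <;> ring
  have hsame : ∀ p, Spec m p → hat₂ c₁ p = hat₂ c₀ p := by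
    intro p hp
    obtain ⟨h1, h2⟩ := spec_ne_zero hm1 hp
    rw [hc₁, hA0 p hp, if_neg h2, if_neg h1]
    split_ifs <;> ring
  have hc₁swap : ∀ k, c₁ (k.2, k.1) = c₁ k := fun k => by
    simp only [c₁, hn_swap, add_comm k.2]; ring
  have hc₁rot : ∀ k, c₁ (-k.1 - k.2, k.2) = c₁ k := fun k => by
    simp only [c₁, hn_rot, show -k.1 - k.2 + k.2 = -k.1 by ring,
      show -(-k.1 - k.2) = k.1 + k.2 by ring]
    ring
  -- line sums and the four corners
  have hline : ∀ w, (∑ x, c₁ (x, w - x)) - (∑ x, c₀ (x, w - x)) =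
      (∑ x, c₁ (x, 0 - x)) - (∑ x, c₀ (x, 0 - x)) := by
    refine const_of_hat₁ (v := fun w => (∑ x, c₁ (x, w - x)) - ∑ x, c₀ (x, w - x)) fun z hz => ?_
    have hdiag : ∀ v : ZMod (2 ^ m) × ZMod (2 ^ m) → ℤ,
        hat₁ (fun w => ∑ x, v (x, w - x)) z = hat₂ v (z, z) := by
      intro v
      simp only [hat₁, hat₂, Fintype.sum_prod_type]
      push_cast
      simp only [Finset.sum_mul]
      rw [Finset.sum_comm]
      refine Finset.sum_congr rfl fun x _ => ?_
      exact Fintype.sum_equiv (Equiv.subRight x) _ _ fun w => by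
        simp only [Equiv.subRight_apply]; congr 2; ring
    have hs : Spec m (z, z) := by
      obtain ⟨k, hk⟩ : ∃ k : ℕ, k • z = half m := by
        obtain ⟨s, -, hs⟩ := (Nat.dvd_prime_pow Nat.prime_two).1 (addOrderOf_dvd_of_nsmul_eq_zero
          (show (2 ^ m) • z = 0 by
            have h0 : (2 : ZMod (2 ^ m)) ^ m = 0 := by
              have := ZMod.natCast_self (2 ^ m); push_cast at this; exact this
            simp [nsmul_eq_mul, h0]))
        rcases Nat.eq_zero_or_pos s with rfl | hpos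
        · exact absurd (AddMonoid.addOrderOf_eq_one_iff.1 (by simpa using hs)) hz
        refine ⟨2 ^ (s - 1), (eq_half hm1 ?_).resolve_left fun h => ?_⟩
        · rw [← add_nsmul, ← two_mul, ← pow_succ', show s - 1 + 1 = s by omega, ← hs,
            addOrderOf_nsmul_eq_zero]
        · have h1 := addOrderOf_dvd_of_nsmul_eq_zero h
          rw [hs, Nat.pow_dvd_pow_iff_le_right (by norm_num)] at h1
          omega
      exact ⟨k, Prod.ext hk hk⟩
    have h : hat₁ (fun w => (∑ x, c₁ (x, w - x)) - ∑ x, c₀ (x, w - x)) z =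
        hat₁ (fun w => ∑ x, c₁ (x, w - x)) z - hat₁ (fun w => ∑ x, c₀ (x, w - x)) z := by
      simp only [hat₁, Int.cast_sub, sub_mul, Finset.sum_sub_distrib]
    rw [h, hdiag, hdiag, hsame _ hs, sub_self]
  let X : (ZMod (2 ^ m) × ZMod (2 ^ m) → ℤ) → ℤ := fun v =>
    v (0, 0) + v (half m, half m) - v (0, half m) - v (half m, 0)
  have hX : X c₁ = X c₀ := by
    have hpts : ∀ v : ZMod (2 ^ m) × ZMod (2 ^ m) → ℤ, ∑ p : ZMod (2 ^ m) × ZMod (2 ^ m),
        hat₂ v p * ((1 - ee (half m * p.1)) * (1 - ee (half m * p.2))) =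
        ((2 : ℂ) ^ m) ^ 2 * (X v : ℂ) := by
      intro v
      have h1 : ∀ q : ZMod (2 ^ m) × ZMod (2 ^ m),
          ∑ p, hat₂ v p * ee (q.1 * p.1 + q.2 * p.2) = ((2 : ℂ) ^ m) ^ 2 * (v (-q) : ℂ) := by
        intro q
        have h := parseval₂ v fun k => if k = -q then 1 else 0
        simp only [Int.cast_ite, Int.cast_one, Int.cast_zero, mul_ite, mul_one, mul_zero,
          Finset.sum_ite_eq', Finset.mem_univ, if_true] at h
        push_cast at h
        rw [← h]
        refine Finset.sum_congr rfl fun p _ => ?_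
        simp only [hat₂, Int.cast_ite, Int.cast_one, Int.cast_zero, ite_mul, one_mul, zero_mul,
          Finset.sum_ite_eq', Finset.mem_univ, if_true, conj_ee, Prod.fst_neg, Prod.snd_neg]
        congr 2
        ring
      have h2 : ∀ p : ZMod (2 ^ m) × ZMod (2 ^ m),
          hat₂ v p * ((1 - ee (half m * p.1)) * (1 - ee (half m * p.2))) =
          hat₂ v p * ee (0 * p.1 + 0 * p.2) + hat₂ v p * ee (half m * p.1 + half m * p.2) -
            hat₂ v p * ee (0 * p.1 + half m * p.2) - hat₂ v p * ee (half m * p.1 + 0 * p.2) := by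
        intro p; simp only [ee_add, zero_mul, ee_zero]; ring
      simp only [h2, Finset.sum_sub_distrib, Finset.sum_add_distrib]
      rw [h1 (0, 0), h1 (half m, half m), h1 (0, half m), h1 (half m, 0)]
      simp only [Prod.neg_mk, neg_zero, neg_half hm1, X]
      push_cast
      ring
    have heven : ∀ x : ZMod (2 ^ m), ¬ Odd x.val → ee (half m * x) = 1 := by
      intro x hx
      obtain ⟨j, hj⟩ := Nat.not_odd_iff_even.1 hx
      rw [← ZMod.natCast_zmod_val x, hj, Nat.cast_add, mul_add, ← add_mul, half_add hm1, zero_mul,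
        ee_zero]
    have h : ((2 : ℂ) ^ m) ^ 2 * (X c₁ : ℂ) = ((2 : ℂ) ^ m) ^ 2 * (X c₀ : ℂ) := by
      rw [← hpts, ← hpts]
      refine Finset.sum_congr rfl fun p _ => ?_
      by_cases ho : Odd p.1.val ∧ Odd p.2.val
      · rw [hsame p (spec_of_odd hm1 ho.1 ho.2)]
      · rcases not_and_or.1 ho with h | h <;> simp [heven _ h]
    exact_mod_cast mul_left_cancel₀ (pow_ne_zero _ (pow_ne_zero _ two_ne_zero)) h
  -- the change of coordinates
  let T : ZMod (2 ^ m) × ZMod (2 ^ m) → ZMod (2 ^ m) × ZMod (2 ^ m) :=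
    fun k => (2 * k.1 - k.2, 2 * k.2 - k.1)
  have hTbij : Function.Bijective T := by
    refine Finite.injective_iff_bijective.1 fun k k' h => ?_
    simp only [T, Prod.ext_iff] at h
    have h3 : IsUnit (3 : ZMod (2 ^ m)) := by
      rw [show (3 : ZMod (2 ^ m)) = ((3 : ℕ) : ZMod (2 ^ m)) by norm_num,
        ZMod.isUnit_iff_coprime]
      exact Nat.Coprime.pow_right m (by norm_num)
    refine Prod.ext (h3.mul_left_cancel ?_) (h3.mul_left_cancel ?_)
    · linear_combination 2 * h.1 + h.2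
    · linear_combination h.1 + 2 * h.2
  have hTh : T (half m, half m) = (half m, half m) := Prod.ext
    (show 2 * half m - half m = half m by ring) (show 2 * half m - half m = half m by ring)
  have hpar : ∀ w, (∑ x, c₀ (x, w - x)) -
      (∑ i : ZMod (2 ^ (m + 1)) with ((i.val : ℕ) : ZMod (2 ^ m)) = w, d₀ i) = 2 * b₀ w := by
    intro w
    simp only [c₀, d₀, b₀]
    rw [Finset.sum_comm,
      Finset.sum_comm (s := Finset.univ.filter fun i : ZMod (2 ^ (m + 1)) =>
        ((i.val : ℕ) : ZMod (2 ^ m)) = w), Finset.mul_sum, ← Finset.sum_sub_distrib]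
    refine Finset.sum_congr rfl fun ψ _ => ?_
    rw [← Finset.mul_sum, ← Finset.mul_sum, ← mul_sub]
    by_cases hψ : ψ ∈ B0
    · rw [D.parity ψ hψ w]; ring
    · simp [a₀, hψ]
  have hlineT : ∀ w, (∑ a, c₁ (T (a, w - a))) = ∑ x, c₁ (x, w - x) := by
    intro w
    have h3 : IsUnit (3 : ZMod (2 ^ m)) := by
      rw [show (3 : ZMod (2 ^ m)) = ((3 : ℕ) : ZMod (2 ^ m)) by norm_num,
        ZMod.isUnit_iff_coprime]
      exact Nat.Coprime.pow_right m (by norm_num)
    refine Fintype.sum_bijective (fun a => (T (a, w - a)).1) ?_ _ _ fun a => ?_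
    · refine Finite.injective_iff_bijective.1 fun a a' h => h3.mul_left_cancel ?_
      simp only [T] at h
      linear_combination h
    · congr 1
      simp only [T]
      refine Prod.ext rfl ?_
      show 2 * (w - a) - a = w - (2 * a - (w - a))
      ring
  -- spreads
  let cV : ZMod (2 ^ m) → ZMod (2 ^ m) → ℤ := fun x y => c₁ (T (x, y))
  have hspc : H36.Wreath.spread (fun p : ZMod (2 ^ m) × ZMod (2 ^ m) => cV p.1 p.2) =
      ((2 ^ m : ℕ) : ℤ) ^ 2 * ∑ k, c₁ k ^ 2 - (∑ k, c₁ k) ^ 2 := by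
    rw [H36.Wreath.spread, Fintype.card_prod, ZMod.card,
      ← hTbij.sum_comp fun k => c₁ k ^ 2, ← hTbij.sum_comp c₁]
    push_cast
    ring
  have hspd : H36.Wreath.spread d₀ =
      ((2 ^ (m + 1) : ℕ) : ℤ) * ∑ i, d₀ i ^ 2 - (∑ i, d₀ i) ^ 2 := by
    rw [H36.Wreath.spread, ZMod.card]
  have hbud : (2 : ℤ) ^ (m + 1) * H36.Wreath.spread (fun p : ZMod (2 ^ m) × ZMod (2 ^ m) =>
      cV p.1 p.2) + 3 * 4 ^ m * H36.Wreath.spread d₀ < 6 * (4 ^ m * 2 ^ (m + 1)) := by
    have hrot_c : ∀ p, hat₂ c₁ (rot p) = hat₂ c₁ p := fun p => by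
      simp only [hat₂]
      exact Fintype.sum_equiv (Function.Involutive.toPerm (fun k : ZMod (2 ^ m) × ZMod (2 ^ m) =>
        (-k.1 - k.2, k.2)) (fun k => Prod.ext (by ring) rfl)) _ _ fun k => by
          show _ = (c₁ (-k.1 - k.2, k.2) : ℂ) * ee ((-k.1 - k.2) * p.1 + k.2 * p.2)
          simp only [hc₁rot, rot]
          congr 2
          ring
    have hrot'_c : ∀ p, hat₂ c₁ (rot' p) = hat₂ c₁ p := fun p => by
      have hsw : ∀ q : ZMod (2 ^ m) × ZMod (2 ^ m), hat₂ c₁ (q.2, q.1) = hat₂ c₁ q := fun q => by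
        simp only [hat₂]
        exact Fintype.sum_equiv (Equiv.prodComm _ _) _ _ fun k => by
          simp only [Equiv.prodComm_apply, Prod.swap, hc₁swap]
          congr 2
          ring
      calc hat₂ c₁ (rot' p) = hat₂ c₁ (rot (p.2, p.1)) := hsw (rot (p.2, p.1))
        _ = hat₂ c₁ p := by rw [hrot_c, hsw]
    have hs : (((2 ^ m : ℕ) : ℤ) ^ 2 * ∑ k, c₁ k ^ 2 - (∑ k, c₁ k) ^ 2 : ℤ) =
        (3 : ℂ) * ∑ p, if Spec m p then hat₂ c₀ p * conj (hat₂ c₀ p) else 0 := by
      rw [← sum_sq₂, sum_spec hm1 (fun p => hat₂ c₁ p * conj (hat₂ c₁ p))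
        (fun p => by simp only [hrot_c]) (fun p => by simp only [hrot'_c])]
      congr 1
      refine Finset.sum_congr rfl fun p _ => ?_
      split_ifs with h
      · rw [hsame p h]
      · rfl
    have hE : (Nat.card (centralizer ({t} : Set G)) : ℂ)⁻¹ *
        ((∑ x : centralizer ({t} : Set G),
          if t ∈ zpowers (x : G) then Complex.normSq ((χ : G → ℂ) x) else 0 : ℝ) : ℂ) =
        (2 * (2 ^ m : ℂ) ^ 2)⁻¹ * (∑ p, if Spec m p then hat₂ c₀ p * conj (hat₂ c₀ p) else 0) +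
          (4 * (2 ^ m : ℂ))⁻¹ * (∑ i, if i = 0 then 0 else hat₁ d₀ i * conj (hat₁ d₀ i)) := by
      have hpair : ∀ {I : Type} [Fintype I] (P : I → Prop) [DecidablePred P]
          (v : IrrCharacter (centralizer ({t} : Set G)) → I → ℂ),
          ∑ p, (if P p then (∑ ψ, (a₀ ψ : ℂ) * v ψ p) * conj (∑ ψ, (a₀ ψ : ℂ) * v ψ p) else 0) =
            ∑ ψ, ∑ ψ', (a₀ ψ : ℂ) * (a₀ ψ' : ℂ) *
              ∑ p, if P p then v ψ p * conj (v ψ' p) else 0 := by
        intro I _ P _ v
        rw [Finset.sum_congr rfl fun p _ => show (if P p then (∑ ψ, (a₀ ψ : ℂ) * v ψ p) *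
            conj (∑ ψ, (a₀ ψ : ℂ) * v ψ p) else 0) = ∑ ψ, ∑ ψ', (a₀ ψ : ℂ) * (a₀ ψ' : ℂ) *
              (if P p then v ψ p * conj (v ψ' p) else 0) from by
          split_ifs
          · rw [map_sum, Finset.sum_mul_sum]
            refine Finset.sum_congr rfl fun ψ _ => Finset.sum_congr rfl fun ψ' _ => ?_
            rw [map_mul, map_intCast]; ring
          · simp]
        rw [Finset.sum_comm]
        refine Finset.sum_congr rfl fun ψ _ => ?_
        rw [Finset.sum_comm]
        exact Finset.sum_congr rfl fun ψ' _ => (Finset.mul_sum _ _ _).symm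
      have hpair' : ∀ (I : Type u) [Fintype I] (P : I → Prop) [DecidablePred P]
          (v : IrrCharacter (centralizer ({t} : Set G)) → I → ℂ),
          ∑ p, (if P p then (∑ ψ, (a₀ ψ : ℂ) * v ψ p) * conj (∑ ψ, (a₀ ψ : ℂ) * v ψ p) else 0) =
            ∑ ψ, ∑ ψ', (a₀ ψ : ℂ) * (a₀ ψ' : ℂ) *
              ∑ p, if P p then v ψ p * conj (v ψ' p) else 0 := by
        intro I _ P _ v
        rw [Finset.sum_congr rfl fun p _ => show (if P p then (∑ ψ, (a₀ ψ : ℂ) * v ψ p) *
            conj (∑ ψ, (a₀ ψ : ℂ) * v ψ p) else 0) = ∑ ψ, ∑ ψ', (a₀ ψ : ℂ) * (a₀ ψ' : ℂ) *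
              (if P p then v ψ p * conj (v ψ' p) else 0) from by
          split_ifs
          · rw [map_sum, Finset.sum_mul_sum]
            refine Finset.sum_congr rfl fun ψ _ => Finset.sum_congr rfl fun ψ' _ => ?_
            rw [map_mul, map_intCast]; ring
          · simp]
        rw [Finset.sum_comm]
        refine Finset.sum_congr rfl fun ψ _ => ?_
        rw [Finset.sum_comm]
        exact Finset.sum_congr rfl fun ψ' _ => (Finset.mul_sum _ _ _).symm
      have hd : ∀ i : ZMod (2 ^ (m + 1)),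
          (if i = 0 then 0 else hat₁ d₀ i * conj (hat₁ d₀ i)) =
            if ¬ i = 0 then (∑ ψ, (a₀ ψ : ℂ) * hat₁ (D.d ψ) i) *
              conj (∑ ψ, (a₀ ψ : ℂ) * hat₁ (D.d ψ) i) else 0 := fun i => by
        rw [← lin₁ D.d i]; split_ifs <;> rfl
      have hd' : ∀ ψ ψ' : IrrCharacter (centralizer ({t} : Set G)),
          (∑ i : ZMod (2 ^ (m + 1)), if ¬ i = 0 then
            hat₁ (D.d ψ) i * conj (hat₁ (D.d ψ') i) else 0) =
          ∑ i, if i = 0 then 0 else hat₁ (D.d ψ) i * conj (hat₁ (D.d ψ') i) := fun ψ ψ' =>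
        Finset.sum_congr rfl fun i _ => by split_ifs <;> rfl
      have hT : ∀ x : centralizer ({t} : Set G),
          ((if t ∈ zpowers (x : G) then Complex.normSq ((χ : G → ℂ) x) else 0 : ℝ) : ℂ) =
          if t ∈ zpowers (x : G) then (∑ ψ, (a₀ ψ : ℂ) * (ψ : _ → ℂ) x) *
            conj (∑ ψ, (a₀ ψ : ℂ) * (ψ : _ → ℂ) x) else 0 := fun x => by
        split_ifs with h
        · rw [← hval x h, Complex.normSq_eq_conj_mul_self, mul_comm]
        · simp
      rw [Complex.ofReal_sum]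
      simp only [hT, lin₂, hd]
      rw [hpair' _ (fun x : centralizer ({t} : Set G) => t ∈ zpowers (x : G))
          (fun ψ x => (ψ : _ → ℂ) x),
        hpair (Spec m) (fun ψ p => hat₂ (D.c ψ) p),
        hpair (fun i : ZMod (2 ^ (m + 1)) => ¬ i = 0) (fun ψ i => hat₁ (D.d ψ) i)]
      simp only [hd', Finset.mul_sum, ← Finset.sum_add_distrib]
      refine Finset.sum_congr rfl fun ψ _ => Finset.sum_congr rfl fun ψ' _ => ?_
      by_cases h1 : ψ ∈ B0
      · by_cases h2 : ψ' ∈ B0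
        · have h := D.energy ψ h1 ψ' h2
          simp only [Finset.mul_sum] at h
          simp only [mul_left_comm _ ((a₀ ψ : ℂ) * (a₀ ψ' : ℂ)), ← Finset.mul_sum] at h ⊢
          rw [h, mul_add]
        · simp [a₀, h2]
      · simp [a₀, h1]
    have hlt := special_norm_lt ht χ
    set E : ℝ := ∑ x : centralizer ({t} : Set G),
      if t ∈ zpowers (x : G) then Complex.normSq ((χ : G → ℂ) x) else 0
    set W : ℂ := ∑ p, if Spec m p then hat₂ c₀ p * conj (hat₂ c₀ p) else 0
    rw [sum_sq₁] at hE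
    rw [← hspd, ← hspc] at *
    set sc := H36.Wreath.spread (fun p : ZMod (2 ^ m) × ZMod (2 ^ m) => cV p.1 p.2)
    set sd := H36.Wreath.spread d₀
    have hC : (0 : ℝ) < (Nat.card (centralizer ({t} : Set G)) : ℝ) := by
      exact_mod_cast Nat.card_pos
    have key : (((2 : ℤ) ^ (m + 1) * sc + 3 * 4 ^ m * sd : ℤ) : ℂ) =
        ((6 * ((4 : ℝ) ^ m * 2 ^ (m + 1)) *
          ((Nat.card (centralizer ({t} : Set G)) : ℝ)⁻¹ * E) : ℝ) : ℂ) := by
      push_cast
      rw [hE, hs, show (4 : ℂ) ^ m = ((2 : ℂ) ^ m) ^ 2 by rw [← pow_mul, mul_comm, pow_mul]; norm_num,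
        pow_succ]
      have hN : (2 : ℂ) ^ m ≠ 0 := pow_ne_zero _ two_ne_zero
      field_simp
      ring
    have key' : (((2 : ℤ) ^ (m + 1) * sc + 3 * 4 ^ m * sd : ℤ) : ℝ) <
        ((6 * (4 ^ m * 2 ^ (m + 1)) : ℤ) : ℝ) := by
      have h1 : (((2 : ℤ) ^ (m + 1) * sc + 3 * 4 ^ m * sd : ℤ) : ℝ) =
          6 * ((4 : ℝ) ^ m * 2 ^ (m + 1)) *
            ((Nat.card (centralizer ({t} : Set G)) : ℝ)⁻¹ * E) := by exact_mod_cast key
      rw [h1]
      push_cast
      refine mul_lt_of_lt_one_right (by positivity) ?_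
      rw [inv_mul_lt_iff₀ hC, mul_one]
      exact hlt
    exact_mod_cast key'
  have hdp : ∀ i, d₀ (i + (i.val * 2 ^ m : ℕ)) = d₀ i := fun i => by
    simp only [d₀]
    refine Finset.sum_congr rfl fun ψ _ => ?_
    by_cases hψ : ψ ∈ B0
    · rw [D.d_pair ψ hψ]
    · simp [a₀, hψ]
  let V : H36.Wreath.Vec m :=
    { c := cV
      d := d₀
      c_swap := fun x y => by
        show c₁ (T (y, x)) = c₁ (T (x, y))
        exact hc₁swap (T (x, y))
      c_rot := fun x y => by
        show c₁ (T (-x, y - x)) = c₁ (T (x, y))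
        rw [← hc₁rot (T (x, y))]
        congr 1
        simp only [T]
        ext <;> ring
      d_pair := hdp
      budget := hbud
      parity := ⟨(∑ x, c₁ (x, 0 - x)) - (∑ x, c₀ (x, 0 - x)), fun w => ⟨b₀ w, by
        simp only [cV]
        rw [hlineT]
        linarith [hpar w, hline w]⟩⟩ }
  have hco : ∀ i, V.co i = ∑ ψ, a₀ ψ * (D.d ψ 0 - D.d ψ i) := fun i => by
    show d₀ 0 - d₀ i = _
    simp only [d₀, ← Finset.sum_sub_distrib, mul_sub]
  refine ⟨V, fun j => ?_, ?_, ?_, ?_⟩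
  · rw [hco, ← hcoeff (f := φ j) _ 1 (D.out1 j)
      (fun ψ hψ => by rw [one_mul, D.co1 ψ hψ]), one_mul]
  · rw [hco, ← hcoeff (f := S) _ 1 D.out2 (fun ψ hψ => by rw [one_mul, D.co2 ψ hψ]), one_mul]
  · rw [hcoeff (f := Ψ) _ 2 D.out3 D.co3]
    have h1 : c₁ (half m, half m) = c₁ (0, half m) ∧ c₁ (half m, 0) = c₁ (0, half m) := by
      refine ⟨?_, hc₁swap (0, half m)⟩
      have := hc₁rot (0, half m)
      simpa [neg_half hm1] using this
    have h2 : V.coPsi = (∑ ψ, a₀ ψ * (D.d ψ 0 - D.d ψ ((2 ^ m : ℕ) : ZMod (2 ^ (m + 1))))) +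
        X c₁ := by
      show V.co _ + (cV 0 0 - cV (half m) (half m)) = _
      rw [hco]
      simp only [cV, X, hTh, show T (0, 0) = (0, 0) from by simp [T], h1.1, h1.2]
      ring
    rw [h2, hX]
    congr 1
    simp only [X, c₀, mul_add, mul_sub, Finset.sum_add_distrib, Finset.sum_sub_distrib]
  · have hs : Spec m (half m, half m) := ⟨1, one_nsmul _⟩
    have hA : (χ : G → ℂ) t = hat₂ c₀ (half m, half m) +
        ((Q - 1 : ℤ) : ℂ) * hat₁ b₀ (half m) := by
      have h := hA0 _ hs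
      rw [if_pos rfl] at h
      rw [← h]
      exact congrArg _ D.A_t.symm
    have hsign : ∀ {n : ℕ}, 1 ≤ n → ∀ x : ZMod (2 ^ n),
        ee (x * half n) = (((-1 : ℤ) ^ x.val : ℤ) : ℂ) := by
      intro n hn1 x
      have h1 : ee (half n) = -1 := by
        have h2 : ee (half n) * ee (half n) = 1 := by rw [← ee_add, half_add hn1, ee_zero]
        rcases mul_self_eq_one_iff.1 h2 with h | h
        · exfalso
          have h3 := sum_ee (half n)
          rw [if_neg (half_ne_zero hn1)] at h3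
          have h4 : ∀ y : ZMod (2 ^ n), ee (y * half n) = 1 := fun y => by
            rw [← ZMod.natCast_zmod_val y]
            induction y.val with
            | zero => simp [ee_zero]
            | succ k ih => rw [Nat.cast_succ, add_mul, one_mul, ee_add, ih, h, one_mul]
          simp [h4] at h3
        · exact h
      conv_lhs => rw [← ZMod.natCast_zmod_val x]
      generalize x.val = k
      induction k with
      | zero => simp [ee_zero]
      | succ k ih =>
        rw [Nat.cast_succ, add_mul, one_mul, ee_add, ih, h1, pow_succ]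
        push_cast
        ring
    have hvalA : hat₂ c₀ (half m, half m) = (V.valA : ℂ) := by
      rw [← hsame _ hs, H36.Wreath.Vec.valA, hat₂, ← hTbij.sum_comp, Fintype.sum_prod_type]
      push_cast
      refine Finset.sum_congr rfl fun x _ => Finset.sum_congr rfl fun y _ => ?_
      show (c₁ (T (x, y)) : ℂ) * _ = _ * (cV x y : ℂ)
      simp only [T]
      rw [show (2 * x - y) * half m + (2 * y - x) * half m = x * half m + y * half m by ring, ee_add,
        hsign hm1, hsign hm1]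
      push_cast
      simp only [cV, T]
      ring
    have hvalE : (2 : ℂ) * hat₁ b₀ (half m) = hat₂ c₀ (half m, half m) - (V.valE : ℂ) := by
      have hf : ∀ i : ZMod (2 ^ (m + 1)),
          ((-1 : ℤ) ^ ((i.val : ℕ) : ZMod (2 ^ m)).val) = (-1) ^ i.val := by
        intro i
        rw [ZMod.val_natCast, neg_one_pow_eq_pow_mod_two,
          Nat.mod_mod_of_dvd _ (dvd_pow_self 2 (by omega)), ← neg_one_pow_eq_pow_mod_two]
      have h1 : 2 * (∑ w, (-1 : ℤ) ^ w.val * b₀ w) =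
          (∑ w, (-1 : ℤ) ^ w.val * ∑ x, c₀ (x, w - x)) - V.valE := by
        rw [Finset.mul_sum]
        have : ∀ w, 2 * ((-1 : ℤ) ^ w.val * b₀ w) = (-1 : ℤ) ^ w.val * (∑ x, c₀ (x, w - x)) -
            ∑ i : ZMod (2 ^ (m + 1)) with ((i.val : ℕ) : ZMod (2 ^ m)) = w,
              (-1 : ℤ) ^ i.val * d₀ i := fun w => by
          rw [mul_left_comm, ← hpar w, mul_sub, Finset.mul_sum]
          congr 1
          rw [Finset.mul_sum]
          refine Finset.sum_congr rfl fun i hi => ?_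
          rw [← hf i, (Finset.mem_filter.1 hi).2]
        simp only [this, Finset.sum_sub_distrib]
        congr 1
        exact Finset.sum_fiberwise Finset.univ _ fun i => (-1 : ℤ) ^ i.val * d₀ i
      have h2 : hat₁ b₀ (half m) = ((∑ w, (-1 : ℤ) ^ w.val * b₀ w : ℤ) : ℂ) := by
        simp only [hat₁, hsign hm1]; push_cast
        exact Finset.sum_congr rfl fun w _ => mul_comm _ _
      have h3 : hat₂ c₀ (half m, half m) =
          ((∑ w, (-1 : ℤ) ^ w.val * ∑ x, c₀ (x, w - x) : ℤ) : ℂ) := by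
        rw [hat₂, Fintype.sum_prod_type]
        push_cast
        simp only [Finset.mul_sum]
        rw [Finset.sum_comm (f := fun w x => (-1 : ℂ) ^ w.val * (c₀ (x, w - x) : ℂ))]
        refine Finset.sum_congr rfl fun x _ => ?_
        refine (Fintype.sum_equiv (Equiv.subRight x) _ _ fun w => ?_).symm
        simp only [Equiv.subRight_apply]
        rw [← add_mul, add_sub_cancel, hsign hm1]
        push_cast
        ring
      rw [h2, h3]
      exact_mod_cast congrArg (Int.cast : ℤ → ℂ) h1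
    have hb : hat₁ b₀ (half m) = ((V.valA : ℂ) - (V.valE : ℂ)) / 2 := by
      rw [← hvalA, ← hvalE]; ring
    rw [hA, hvalA, hb, H36.Wreath.Vec.val2]
    simp only [map_add, map_mul, map_div₀, map_sub, map_intCast, map_ofNat]
    push_cast
    ring

end Cfsg.Agent.H84.WR
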