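import Mathlib

/-!
# The elimination, wreathed case: the degree is the cube

From the two quadratic equations in `P` (the ratio of the rows, and the degree identity) the
resultant is `8 E ^ 2 (E - 1) (E - Q) ^ 4 (E - Q ^ 3) (Q + 1) (Q + 2) ^ 2` for `w = -Q - 2` and
`8 E ^ 2 (E - 1) (E - Q) ^ 5 Q ^ 3 (Q + 1)` for `w = Q`.
-/

set_option autoImplicit false

namespace Cfsg.Agent.H84.WR

/-- Two quadratics with a common non-zero root. -/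
theorem resultant_eq_zero {a₂ a₁ a₀ b₂ b₁ b₀ P : ℤ} (hP : P ≠ 0)
    (ha : a₂ * P ^ 2 + a₁ * P + a₀ = 0) (hb : b₂ * P ^ 2 + b₁ * P + b₀ = 0) :
    (a₂ * b₀ - a₀ * b₂) ^ 2 - (a₂ * b₁ - a₁ * b₂) * (a₁ * b₀ - a₀ * b₁) = 0 := by
  have h1 : (a₂ * b₁ - a₁ * b₂) * P + (a₂ * b₀ - a₀ * b₂) = 0 := by
    linear_combination a₂ * hb - b₂ * ha
  have h2 : (a₂ * b₀ - a₀ * b₂) * P + (a₁ * b₀ - a₀ * b₁) = 0 := by
    refine mul_left_cancel₀ hP ?_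
    linear_combination b₀ * ha - a₀ * hb
  linear_combination (a₂ * b₀ - a₀ * b₂) * h1 - (a₂ * b₁ - a₁ * b₂) * h2

/-- The equations leave only `E = Q ^ 3`. -/
theorem eq_cube {c E P w Q : ℤ} (hQ0 : Q ≠ 0) (hQ1 : Q ≠ 1) (hQm1 : Q ≠ -1) (hQm2 : Q ≠ -2)
    (hw : w = Q ∨ w = -Q - 2) (hE0 : E ≠ 0) (hE1 : E ≠ 1) (hP0 : P ≠ 0) (hR : E - 1 - P ≠ 0)
    (h1 : c * (E - Q) ^ 2 = Q * (Q - 1) * (Q + 1) ^ 2 * (E * (E - 1)))
    (h2 : c * (P - w) ^ 2 = Q * (Q - 1) ^ 2 * (Q + 1) * (P * (P + 1)))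
    (h3 : 1 - (Q : ℚ) ^ 2 / E + (w : ℚ) ^ 2 / P +
      ((Q : ℚ) - 1 - w) ^ 2 / ((E : ℚ) - 1 - P) = 0) :
    E = Q ^ 3 ∧ w = -Q - 2 := by
  have hm : Q * (Q - 1) * (Q + 1) ≠ 0 :=
    mul_ne_zero (mul_ne_zero hQ0 (by omega)) (by omega)
  have hEQ : E - Q ≠ 0 := by
    intro h
    rw [h] at h1
    have : Q * (Q - 1) * (Q + 1) ^ 2 * (E * (E - 1)) ≠ 0 :=
      mul_ne_zero (mul_ne_zero (mul_ne_zero hQ0 (by omega)) (pow_ne_zero 2 (by omega)))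
        (mul_ne_zero hE0 (by omega))
    exact this (by linear_combination -h1)
  have hP : (Q + 1) * (E * (E - 1)) * (P - w) ^ 2 - (Q - 1) * (E - Q) ^ 2 * (P * (P + 1)) = 0 := by
    refine (mul_eq_zero.1 ?_).resolve_left hm
    linear_combination (E - Q) ^ 2 * h2 - (P - w) ^ 2 * h1
  have hY : (E - Q ^ 2) * P * (E - 1 - P) + w ^ 2 * E * (E - 1 - P) +
      (Q - 1 - w) ^ 2 * E * P = 0 := by
    have hE : (E : ℚ) ≠ 0 := by exact_mod_cast hE0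
    have hP' : (P : ℚ) ≠ 0 := by exact_mod_cast hP0
    have hR' : (E : ℚ) - 1 - P ≠ 0 := by exact_mod_cast hR
    field_simp at h3
    have h4 : (((E - Q ^ 2) * P * (E - 1 - P) + w ^ 2 * E * (E - 1 - P) +
        (Q - 1 - w) ^ 2 * E * P : ℤ) : ℚ) = 0 := by
      push_cast
      linear_combination h3
    exact_mod_cast h4
  have key := resultant_eq_zero hP0
    (a₂ := (Q + 1) * (E * (E - 1)) - (Q - 1) * (E - Q) ^ 2)
    (a₁ := -2 * w * ((Q + 1) * (E * (E - 1))) - (Q - 1) * (E - Q) ^ 2)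
    (a₀ := (Q + 1) * (E * (E - 1)) * w ^ 2)
    (b₂ := -(E - Q ^ 2))
    (b₁ := (E - Q ^ 2) * (E - 1) - w ^ 2 * E + (Q - 1 - w) ^ 2 * E)
    (b₀ := w ^ 2 * E * (E - 1))
    (by linear_combination hP) (by linear_combination hY)
  rcases hw with hw | hw <;> rw [hw] at key
  · exfalso
    have h : 8 * E ^ 2 * (E - 1) * (E - Q) ^ 5 * Q ^ 3 * (Q + 1) = 0 := by
      linear_combination key
    simp [mul_eq_zero, hE0, hEQ, hQ0, sub_eq_zero, hE1] at h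
    omega
  · have h : 8 * E ^ 2 * (E - 1) * (E - Q) ^ 4 * (E - Q ^ 3) * (Q + 1) * (Q + 2) ^ 2 = 0 := by
      linear_combination key
    refine ⟨?_, hw⟩
    simp [mul_eq_zero, hE0, hEQ, sub_eq_zero, hE1] at h
    omega

end Cfsg.Agent.H84.WR
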