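import Cfsg.Agent.H84.WR.Funs
import Cfsg.Agent.H84.WR.Resultant
import Cfsg.Agent.H36.Wreath.Rules

/-!
# The index of `C(t)`, wreathed case
-/

set_option autoImplicit false
set_option linter.unusedSectionVars false

namespace Cfsg.Agent.H84.WR

open Subgroup Cfsg

universe u

variable {G : Type u} [Group G] [Fintype G] {t : G} [Fintype (centralizer ({t} : Set G))]

/-- The index is `Q² (Q² + Q + 1)`: no local input. -/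
theorem centralizer_index [IsSimpleGroup G] (hG : ¬ IsMulCommutative G) (ht : orderOf t = 2)
    (hinv : ∀ a : centralizer ({t} : Set G), orderOf a = 2 → IsConj t (a : G)) {m : ℕ} {Q : ℤ} (hm : 2 ≤ m) (hQ4 : Q % 4 = 1)
    (hQ1 : Q ≠ 1) (F : Funs t m Q) :
    ((centralizer ({t} : Set G)).index : ℤ) = Q ^ 2 * (Q ^ 2 + Q + 1) := by
  obtain ⟨E, P, w, hw, hE0, hE1, hP0, -, hR, h1, h2, h3, -⟩ :=
    equations hG ht hinv hm hQ4 hQ1 (H36.Wreath.budgetRules hm Q) F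
  obtain ⟨hE, -⟩ := eq_cube (show Q ≠ 0 by omega) hQ1 (by omega) (by omega) hw hE0 hE1 hP0 hR h1 h2 h3
  refine index_of_cube (by omega) hQ1 (by omega) ?_
  rw [hE] at h1
  linear_combination h1

/-- The lift of `φ j` is `1 + α χ₁ + β χ₂` with signed degrees `-Q ^ 3` and `Q ^ 3 - 1`. -/
theorem phi_lift [IsSimpleGroup G] (hG : ¬ IsMulCommutative G) (ht : orderOf t = 2)
    (hinv : ∀ a : centralizer ({t} : Set G), orderOf a = 2 → IsConj t (a : G)) {m : ℕ}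
    {Q : ℤ} (hm : 2 ≤ m) (hQ4 : Q % 4 = 1)
    (hQ1 : Q ≠ 1) (F : Funs t m Q) (j : Fin (2 ^ (m - 1))) :
    ∃ χ₁ χ₂ : IrrCharacter G, ∃ α β : ℤ, (α = 1 ∨ α = -1) ∧ (β = 1 ∨ β = -1) ∧
      (χ₁ : G → ℂ) ≠ (fun _ => 1) ∧ (χ₂ : G → ℂ) ≠ (fun _ => 1) ∧ χ₂ ≠ χ₁ ∧
      SD.coeff (F.φ j) χ₁ = (α : ℂ) ∧ SD.coeff (F.φ j) χ₂ = (β : ℂ) ∧
      (∀ χ : IrrCharacter G, (χ : G → ℂ) ≠ (fun _ => 1) → χ ≠ χ₁ → χ ≠ χ₂ →
        SD.coeff (F.φ j) χ = 0) ∧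
      (α : ℂ) * (χ₁ : G → ℂ) 1 = -(Q : ℂ) ^ 3 ∧ (β : ℂ) * (χ₂ : G → ℂ) 1 = (Q : ℂ) ^ 3 - 1 := by
  obtain ⟨E, P, w, hw, hE0, hE1, hP0, -, hR, h1, h2, h3, hlift⟩ :=
    equations hG ht hinv hm hQ4 hQ1 (H36.Wreath.budgetRules hm Q) F
  obtain ⟨hE, -⟩ := eq_cube (show Q ≠ 0 by omega) hQ1 (by omega) (by omega) hw hE0 hE1 hP0 hR h1 h2 h3
  rw [hE] at hlift
  simpa only [Int.cast_pow] using hlift j

end Cfsg.Agent.H84.WR
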