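import Cfsg.Agent.H84.WR.TableShape
import Cfsg.Agent.H84.WR.Column
import Cfsg.Agent.Cores.PrincipalLambda

/-!
# The model of a centraliser covered by a group with a table, `Q ≡ 1 (mod 4)`
-/

set_option autoImplicit false
set_option linter.unusedSectionVars false
set_option linter.style.haveILetI false

namespace Cfsg.Agent.H84.WR

open Finset Subgroup Cfsg Cfsg.Agent.H36.TwoTori
open scoped ComplexConjugate

universe u v

theorem exists_nsmul_half {n : ℕ} (hn : 1 ≤ n) {x : ZMod (2 ^ n)} (hx : x ≠ 0) :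
    ∃ k : ℕ, k • x = half n := by
  obtain ⟨s, -, hs⟩ := (Nat.dvd_prime_pow Nat.prime_two).1 (addOrderOf_dvd_of_nsmul_eq_zero
    (show (2 ^ n) • x = 0 by
      have h0 : (2 : ZMod (2 ^ n)) ^ n = 0 := by
        have := ZMod.natCast_self (2 ^ n); push_cast at this; exact this
      simp [nsmul_eq_mul, h0]))
  rcases Nat.eq_zero_or_pos s with rfl | hpos
  · exact absurd (AddMonoid.addOrderOf_eq_one_iff.1 (by simpa using hs)) hx
  refine ⟨2 ^ (s - 1), (eq_half hn ?_).resolve_left fun h => ?_⟩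
  · rw [← add_nsmul, ← two_mul, ← pow_succ', show s - 1 + 1 = s by omega, ← hs,
      addOrderOf_nsmul_eq_zero]
  · have h1 := addOrderOf_dvd_of_nsmul_eq_zero h
    rw [hs, Nat.pow_dvd_pow_iff_le_right (by norm_num)] at h1
    omega

theorem spec_diag {n : ℕ} (hn : 1 ≤ n) (x : ZMod (2 ^ n)) : Spec n (x, x) ↔ x ≠ 0 := by
  refine ⟨fun h => (spec_ne_zero hn h).1, fun h => ?_⟩
  obtain ⟨k, hk⟩ := exists_nsmul_half hn h
  exact ⟨k, Prod.ext hk hk⟩

theorem dbl_half {m : ℕ} (hm : 1 ≤ m) : dbl (half m) = half (m + 1) := by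
  rw [half, dbl_natCast, half, Nat.add_sub_cancel, ← pow_succ']
  congr 2
  omega

theorem TwoLog.pow_eq_one {C : Type v} [CommGroup C] [Fintype C] {n o : ℕ} (L : TwoLog C n)
    (hcard : Nat.card C = 2 ^ n * o) {z : C} (h : L.l z = 0) : z ^ o = 1 := by
  refine orderOf_dvd_iff_pow_eq_one.1 (Nat.Coprime.dvd_of_dvd_mul_left ?_ (hcard ▸ orderOf_dvd_natCard z))
  exact Nat.Coprime.pow_right n (Nat.coprime_two_right.2 ((L.ker z).1 h))

section Section

variable {C : Type v} [CommGroup C] [Fintype C] {n o : ℕ}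

theorem exists_section (L : TwoLog C n) (ho : Odd o) (hcard : Nat.card C = 2 ^ n * o) :
    ∃ s : ZMod (2 ^ n) → C, (∀ x y, s (x + y) = s x * s y) ∧ (∀ x, L.l (s x) = x) ∧
      (∀ x, s x ^ 2 ^ n = 1) ∧ ∀ a, a ^ 2 ^ n = 1 → s (L.l a) = a := by
  obtain ⟨a₀, ha₀⟩ := L.surj 1
  set w : ℕ := o * ((two_pow_coprime (n := n) ho).unit⁻¹ : (ZMod (2 ^ n))ˣ).1.val with hw
  have hl : L.l (a₀ ^ w) = 1 := by
    rw [L.map_pow, ha₀, nsmul_eq_mul, mul_one, hw, Nat.cast_mul, ZMod.natCast_zmod_val,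
      IsUnit.mul_val_inv]
  have hN : (a₀ ^ w) ^ 2 ^ n = 1 := by
    rw [← pow_mul, hw, mul_right_comm, mul_comm o (2 ^ n), pow_mul, ← hcard, pow_card_eq_one',
      one_pow]
  have hls : ∀ x : ZMod (2 ^ n), L.l ((a₀ ^ w) ^ x.val) = x := fun x => by
    rw [L.map_pow, hl, nsmul_eq_mul, mul_one, ZMod.natCast_zmod_val]
  have hs2 : ∀ x : ZMod (2 ^ n), ((a₀ ^ w) ^ x.val) ^ 2 ^ n = 1 := fun x => by
    rw [← pow_mul, mul_comm, pow_mul, hN, one_pow]
  refine ⟨fun x => (a₀ ^ w) ^ x.val, fun x y => ?_, hls, hs2, fun a ha => ?_⟩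
  · show (a₀ ^ w) ^ (x + y).val = _
    rw [← pow_add, ZMod.val_add, ← pow_eq_pow_mod _ hN]
  · set z := a * ((a₀ ^ w) ^ (L.l a).val)⁻¹ with hz
    have h0 : L.l z = 0 := by rw [hz, L.map_mul, L.map_inv, hls, add_neg_cancel]
    have h1 : orderOf z ∣ 2 ^ n := orderOf_dvd_of_pow_eq_one (by
      rw [hz, mul_pow, ha, inv_pow, hs2, inv_one, one_mul])
    have h2 : z = 1 := orderOf_eq_one_iff.1 (Nat.Coprime.eq_one_of_dvd
      (Nat.Coprime.pow_right n (Nat.coprime_two_right.2 ((L.ker z).1 h0))) h1)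
    exact (mul_inv_eq_one.1 h2).symm

end Section

variable {H A B : Type v} [Group H] [Fintype H] [CommGroup A] [Fintype A] [CommGroup B] [Fintype B]
  {Q : ℤ} {m : ℕ} {D : Table H A B Q} (L : Logs D m)

theorem Logs.odd_oA : Odd L.oA := by
  have h := D.cardA
  rw [L.cardA] at h
  obtain ⟨r, hr⟩ := L.oddK
  have hK := L.hK
  have hN : (0 : ℤ) < 2 ^ m := by positivity
  push_cast at h
  rw [hK, ← mul_assoc, mul_comm _ ((2 : ℤ) ^ m)] at h
  have h' : (L.oA : ℤ) = D.σ * L.K := mul_left_cancel₀ hN.ne' h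
  rw [← Int.odd_coe_nat, h']
  rcases D.σ_pm with hh | hh <;> rw [hh] <;> simp [L.oddK]

/-- The transform of `d` on the doubled indices. -/
theorem Shape.dbl_eq {f : H → ℂ} (S : Shape L f) (x : ZMod (2 ^ m)) :
    hat₁ S.d (dbl x) = hat₂ S.c (x, x) - 2 * hat₁ S.β x := by
  have h1 : hat₁ S.d (dbl x) =
      hat₁ (fun w => ∑ i : ZMod (2 ^ (m + 1)) with ((i.val : ℕ) : ZMod (2 ^ m)) = w, S.d i) x := by
    simp only [hat₁, Int.cast_sum, Finset.sum_mul]
    rw [← Finset.sum_fiberwise univ (fun i : ZMod (2 ^ (m + 1)) => ((i.val : ℕ) : ZMod (2 ^ m)))]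
    refine Finset.sum_congr rfl fun w _ => Finset.sum_congr rfl fun i hi => ?_
    rw [mul_dbl, (mem_filter.1 hi).2]
  have h2 : hat₂ S.c (x, x) = hat₁ (fun w => ∑ a, S.c (a, w - a)) x := by
    simp only [hat₁, hat₂, Fintype.sum_prod_type, Int.cast_sum, Finset.sum_mul]
    rw [Finset.sum_comm (γ := ZMod (2 ^ m)) (f := fun w a => (S.c (a, w - a) : ℂ) * ee (w * x))]
    refine Finset.sum_congr rfl fun a _ => ?_
    refine (Fintype.sum_equiv (Equiv.subRight a) _ _ fun w => ?_).symm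
    simp only [Equiv.subRight_apply]
    congr 2
    ring
  rw [h1, h2]
  simp only [hat₁, Finset.mul_sum, ← Finset.sum_sub_distrib]
  refine Finset.sum_congr rfl fun w _ => ?_
  rw [show (∑ i : ZMod (2 ^ (m + 1)) with ((i.val : ℕ) : ZMod (2 ^ m)) = w, S.d i) =
    (∑ a, S.c (a, w - a)) - 2 * S.β w by linarith [S.parity w]]
  push_cast
  ring

theorem uni_zpowers {e a : A} (he : e * e = 1) :
    D.T (e, e) ∈ zpowers (D.T (a, a) * D.uni) ↔ D.T (e, e) ∈ zpowers (D.T (a, a)) := by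
  have hc : Commute (D.T (a, a)) D.uni :=
    ((Subgroup.mem_center_iff.1 (D.T_center a)) D.uni).symm
  have hz : D.T (e, e) ^ Q.natAbs = D.T (e, e) := by
    obtain ⟨r, hr⟩ := Int.natAbs_odd.2 D.odd_Q
    rw [hr, pow_succ, pow_mul, ← map_pow, ← map_pow]
    rw [show ((e, e) : A × A) ^ 2 = 1 by rw [sq]; exact Prod.ext he he, one_pow, map_one, one_mul]
  constructor <;> intro h <;> rw [← mem_powers_iff_mem_zpowers] at h <;> obtain ⟨k, hk⟩ := h <;>
    rw [← mem_powers_iff_mem_zpowers] <;> refine ⟨k * Q.natAbs, ?_⟩ <;> dsimp only at hk ⊢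
  · rw [hc.mul_pow] at hk
    have h2 := congrArg (fun g => g ^ Q.natAbs) hk
    simp only [(hc.pow_pow k k).mul_pow, ← pow_mul] at h2
    rw [mul_comm k, pow_mul (D.uni), D.uni_pow, one_pow, mul_one, hz, mul_comm] at h2
    exact h2
  · rw [hc.mul_pow, mul_comm k, pow_mul (D.uni), D.uni_pow, one_pow, mul_one, mul_comm,
      pow_mul, hk, hz]

variable {e : A} (he : orderOf e = 2)

include he in
theorem T_mem_iff (a b : A) :
    D.T (e, e) ∈ zpowers (D.T (a, b)) ↔ Spec m (L.LA.l a, L.LA.l b) := by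
  have hh := L.neg_one he
  have h2 : e ^ 2 = 1 := orderOf_dvd_iff_pow_eq_one.1 (dvd_of_eq he)
  constructor
  · intro h
    rw [← mem_powers_iff_mem_zpowers] at h
    obtain ⟨k, hk⟩ := h
    dsimp only at hk
    rw [← map_pow] at hk
    have hp := D.T_injective hk
    refine ⟨k, ?_⟩
    rw [Prod.pow_mk, Prod.mk.injEq] at hp
    rw [Prod.smul_mk, ← L.LA.map_pow, ← L.LA.map_pow, hp.1, hp.2, hh]
  · rintro ⟨k, hk⟩
    rw [Prod.smul_mk, Prod.mk.injEq, ← L.LA.map_pow, ← L.LA.map_pow] at hk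
    have hkey : ∀ c : A, L.LA.l (c ^ k) = half m → c ^ (k * L.oA) = e := fun c hc => by
      have h0 := L.LA.pow_eq_one L.cardA (z := c ^ k * e) (by
        rw [L.LA.map_mul, hc, hh, half_add (le_trans (by norm_num) L.two_le)])
      obtain ⟨r, hr⟩ := L.odd_oA
      have he1 : e ^ L.oA = e := by rw [hr, pow_succ, pow_mul, h2, one_pow, one_mul]
      rw [mul_pow, ← pow_mul, he1] at h0
      rw [eq_inv_of_mul_eq_one_left h0]
      exact inv_eq_of_mul_eq_one_left (by rw [← sq, h2])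
    rw [← mem_powers_iff_mem_zpowers]
    exact ⟨k * L.oA, by
      show D.T (a, b) ^ (k * L.oA) = _
      rw [← map_pow, Prod.pow_mk, hkey a hk.1, hkey b hk.2]⟩

include he in
theorem S_mem_iff (y : B) : D.T (e, e) ∈ zpowers (D.S y) ↔ L.LB.l y ≠ 0 := by
  have hh := L.neg_one he
  have hm : 1 ≤ m := le_trans (by norm_num) L.two_le
  have hmid : L.LB.l (D.incl e) = half (m + 1) := by rw [L.incl, hh, dbl_half hm]
  have h2 : D.incl e * D.incl e = 1 := by
    rw [← map_mul, ← sq, orderOf_dvd_iff_pow_eq_one.1 (dvd_of_eq he), map_one]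
  constructor
  · intro h hy
    rw [← mem_powers_iff_mem_zpowers] at h
    obtain ⟨k, hk⟩ := h
    dsimp only at hk
    rw [← map_pow, ← D.S_incl] at hk
    have h1 := congrArg L.LB.l (D.S_injective hk)
    rw [L.LB.map_pow, hy, smul_zero, hmid] at h1
    exact half_ne_zero (by omega) h1.symm
  · intro hy
    obtain ⟨k, hk⟩ := exists_nsmul_half (n := m + 1) (by omega) hy
    have h0 := L.LB.pow_eq_one L.cardB (z := y ^ k * D.incl e) (by
      rw [L.LB.map_mul, L.LB.map_pow, hk, hmid, half_add (by omega)])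
    have ho : Odd L.oB := by
      rw [← Nat.not_even_iff_odd]
      intro hev
      obtain ⟨r, hr⟩ := hev
      have h := D.cardB
      rw [L.cardB, hr] at h
      obtain ⟨a, ha⟩ := L.oddK
      have hK := L.hK
      obtain ⟨b, hb⟩ : Odd ((Q + 1) / 2) := by
        rw [Int.odd_iff]
        have h4 : (4 : ℤ) ∣ Q - 1 := by
          rw [hK]
          exact Dvd.dvd.mul_left (by
            simpa using pow_dvd_pow (2 : ℤ) L.two_le) _
        omega
      have hQ1 : Q + 1 = 2 * (2 * b + 1) := by rw [← hb]; have := D.odd_Q; obtain ⟨c, hc⟩ := this; omega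
      push_cast at h
      rw [show Q ^ 2 - 1 = (Q - 1) * (Q + 1) by ring, hK, hQ1, ha, pow_succ] at h
      have h' : (r : ℤ) + r = (2 * a + 1) * (2 * b + 1) := mul_left_cancel₀
        (show (2 : ℤ) ^ m * 2 ≠ 0 by positivity) (by linear_combination h)
      have h'' : (r : ℤ) + r = 2 * (2 * a * b + a + b) + 1 := by linear_combination h'
      omega
    obtain ⟨r, hr⟩ := ho
    have he1 : D.incl e ^ L.oB = D.incl e := by
      rw [hr, pow_succ, pow_mul, sq, h2, one_pow, one_mul]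
    rw [mul_pow, ← pow_mul, he1] at h0
    rw [← mem_powers_iff_mem_zpowers]
    refine ⟨k * L.oB, ?_⟩
    show D.S y ^ (k * L.oB) = _
    rw [← map_pow, ← D.S_incl, eq_inv_of_mul_eq_one_left h0, inv_eq_of_mul_eq_one_left h2]

open scoped Classical in
include he in
/-- The inner product on the special part of the table group. -/
theorem special_inner {f g : H → ℂ} (hf : IsClassFunction H f) (hg : IsClassFunction H g)
    (Sf : Shape L f) (Sg : Shape L g) :
    classInner (fun x => if D.T (e, e) ∈ zpowers x then f x * conj (g x) else 0) (fun _ => 1) =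
      (2 * (2 ^ m : ℂ) ^ 2)⁻¹ *
          (∑ p, if Spec m p then hat₂ Sf.c p * conj (hat₂ Sg.c p) else 0) +
        (4 * (2 ^ m : ℂ))⁻¹ *
          (∑ i, if i = 0 then 0 else hat₁ Sf.d i * conj (hat₁ Sg.d i)) := by
  have hm : 1 ≤ m := le_trans (by norm_num) L.two_le
  set P : ZMod (2 ^ m) × ZMod (2 ^ m) → ℂ :=
    fun p => if Spec m p then hat₂ Sf.c p * conj (hat₂ Sg.c p) else 0 with hP
  set R : ZMod (2 ^ (m + 1)) → ℂ :=
    fun i => if i = 0 then 0 else hat₁ Sf.d i * conj (hat₁ Sg.d i) with hR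
  set F : H → ℂ := fun x => if D.T (e, e) ∈ zpowers x then f x * conj (g x) else 0 with hF
  have hcl : IsClassFunction H F := fun x y => by
    have hiff : D.T (e, e) ∈ zpowers (y * x * y⁻¹) ↔ D.T (e, e) ∈ zpowers x := by
      simp only [mem_zpowers_iff, conj_zpow]
      refine exists_congr fun k => ?_
      rw [mul_inv_eq_iff_eq_mul, ← (Subgroup.mem_center_iff.1 (D.T_center e)) y, mul_right_inj]
    simp only [hF, hf x y, hg x y, hiff]
  have hT : ∀ a b, a ≠ b → F (D.T (a, b)) = P (L.LA.l a, L.LA.l b) := fun a b h => by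
    simp only [hF, hP, T_mem_iff L he, Sf.onT a b h, Sg.onT a b h]
  have hS : ∀ y, y ∉ D.incl.range → F (D.S y) = R (L.LB.l y) := fun y h => by
    simp only [hF, hR, S_mem_iff L he, Sf.onS y h, Sg.onS y h]
    split_ifs <;> first | rfl | simp_all
  have hZ : ∀ a, F (D.T (a, a)) + ((Q : ℂ) ^ 2 - 1) * F (D.T (a, a) * D.uni) =
      (Q : ℂ) * ((Q : ℂ) + 1) / 2 * P (L.LA.l a, L.LA.l a) +
        (Q : ℂ) * ((Q : ℂ) - 1) / 2 * R (dbl (L.LA.l a)) := fun a => by
    have he2 : e * e = 1 := by rw [← sq, orderOf_dvd_iff_pow_eq_one.1 (dvd_of_eq he)]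
    simp only [hF, hP, hR, uni_zpowers he2, T_mem_iff L he, spec_diag hm, Sf.onZ, Sg.onZ, Sf.onU,
      Sg.onU, Sf.dbl_eq, Sg.dbl_eq]
    by_cases h0 : L.LA.l a = 0
    · rw [if_neg (not_not.2 h0), if_neg (not_not.2 h0), if_neg (not_not.2 h0), h0, dbl_zero,
        if_pos rfl]
      ring
    · rw [if_pos h0, if_pos h0, if_pos h0, if_neg (fun h => h0 (dbl_injective (h.trans dbl_zero.symm)))]
      simp only [map_sub, map_add, map_mul, map_intCast, map_ofNat, map_one]
      ring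
  have h1 : ∀ v : A × A → ℂ, ∑ p : A × A, (if p.1 = p.2 then 0 else v p) =
      ∑ p : A × A, v p - ∑ a : A, v (a, a) := fun v => by
    rw [eq_sub_iff_add_eq]
    have hd : ∑ a : A, v (a, a) = ∑ p : A × A, if p.1 = p.2 then v p else 0 := by
      simp [Fintype.sum_prod_type]
    rw [hd, ← Finset.sum_add_distrib]
    exact Finset.sum_congr rfl fun p _ => by split_ifs <;> simp
  have h2 : ∀ v : B → ℂ, ∑ y : B, (if y ∈ D.incl.range then 0 else v y) =
      ∑ y : B, v y - ∑ a : A, v (D.incl a) := fun v => by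
    rw [eq_sub_iff_add_eq]
    have hd : ∑ a : A, v (D.incl a) = ∑ y : B, if y ∈ D.incl.range then v y else 0 := by
      rw [← Finset.sum_filter]
      refine Finset.sum_bij (fun a _ => D.incl a) (fun a _ => by simp)
        (fun a _ b _ h => D.incl_injective h) (fun y hy => ?_) (fun a _ => rfl)
      obtain ⟨a, ha⟩ := (mem_filter.1 hy).2
      exact ⟨a, mem_univ a, ha⟩
    rw [hd, ← Finset.sum_add_distrib]
    exact Finset.sum_congr rfl fun p _ => by split_ifs <;> simp
  -- the sums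
  have hA1 : ∀ v : ZMod (2 ^ m) → ℂ, ∑ a, v (L.LA.l a) = (L.oA : ℂ) * ∑ x, v x := fun v => by
    rw [L.LA.sum_comp v L.cardA, nsmul_eq_mul]
  have hAA : ∑ p : A × A, P (L.LA.l p.1, L.LA.l p.2) = (L.oA : ℂ) ^ 2 * ∑ p, P p := by
    rw [Fintype.sum_prod_type, Finset.sum_congr rfl fun a _ => hA1 fun y => P (L.LA.l a, y),
      hA1 fun x => (L.oA : ℂ) * ∑ y, P (x, y), ← Finset.mul_sum, Fintype.sum_prod_type]
    ring
  have hBB : ∑ y : B, R (L.LB.l y) = (L.oB : ℂ) * ∑ i, R i := by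
    rw [L.LB.sum_comp R L.cardB, nsmul_eq_mul]
  have key : ∑ x, F x = (Q : ℂ) * ((Q : ℂ) + 1) / 2 * ((L.oA : ℂ) ^ 2 * ∑ p, P p) +
      (Q : ℂ) * ((Q : ℂ) - 1) / 2 * ((L.oB : ℂ) * ∑ i, R i) := by
    rw [D.sum_eq F hcl, ← hAA, ← hBB]
    have e1 : ∑ p : A × A, (if p.1 = p.2 then 0 else F (D.T p)) =
        ∑ p : A × A, (if p.1 = p.2 then 0 else P (L.LA.l p.1, L.LA.l p.2)) :=
      Finset.sum_congr rfl fun p _ => by
        split_ifs with h
        · rfl
        · exact hT p.1 p.2 h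
    have e2 : ∑ y : B, (if y ∈ D.incl.range then 0 else F (D.S y)) =
        ∑ y : B, (if y ∈ D.incl.range then 0 else R (L.LB.l y)) :=
      Finset.sum_congr rfl fun y _ => by
        split_ifs with h
        · rfl
        · exact hS y h
    rw [e1, e2, Finset.sum_congr rfl fun a _ => hZ a, h1, h2, Finset.sum_add_distrib,
      ← Finset.mul_sum, ← Finset.mul_sum]
    simp only [L.incl]
    ring
  have hcard : (Nat.card H : ℂ) = (Q : ℂ) * ((Q : ℂ) + 1) * ((Q : ℂ) - 1) ^ 2 := by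
    have h := D.sum_eq (fun _ => 1) fun _ _ => rfl
    rw [h1, h2] at h
    simp only [Finset.sum_const, card_univ, Fintype.card_prod, nsmul_eq_mul, mul_one] at h
    have hcA : (Fintype.card A : ℂ) ^ 2 = ((Q : ℂ) - 1) ^ 2 := by
      have h' := congrArg (fun z : ℤ => z ^ 2) D.cardA
      simp only [Nat.card_eq_fintype_card, mul_pow] at h'
      rw [show D.σ ^ 2 = 1 by rcases D.σ_pm with hh | hh <;> rw [hh] <;> norm_num, one_mul] at h'
      exact_mod_cast congrArg (Int.cast : ℤ → ℂ) h'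
    have hcB : (Fintype.card B : ℂ) = (Q : ℂ) ^ 2 - 1 := by
      have h' := D.cardB
      rw [Nat.card_eq_fintype_card] at h'
      exact_mod_cast congrArg (Int.cast : ℤ → ℂ) h'
    rw [Nat.card_eq_fintype_card, h]
    push_cast
    linear_combination ((Q : ℂ) * ((Q : ℂ) + 1) / 2) * hcA + ((Q : ℂ) * ((Q : ℂ) - 1) / 2) * hcB
  rw [CharBasic.classInner_def]
  simp only [map_one, mul_one]
  rw [key]
  have hQ : (Q : ℂ) ≠ 0 ∧ (Q : ℂ) + 1 ≠ 0 ∧ (Q : ℂ) - 1 ≠ 0 := by
    have h3 := D.three_le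
    have : Q ≠ 0 ∧ Q + 1 ≠ 0 ∧ Q - 1 ≠ 0 := by
      rcases D.σ_pm with hh | hh <;> rw [hh] at h3 <;> omega
    exact ⟨by exact_mod_cast this.1, by exact_mod_cast this.2.1, by exact_mod_cast this.2.2⟩
  have hoA : ((2 : ℂ) ^ m) ^ 2 * (L.oA : ℂ) ^ 2 = ((Q : ℂ) - 1) ^ 2 := by
    have h' := congrArg (fun z : ℤ => z ^ 2) D.cardA
    simp only [L.cardA, mul_pow] at h'
    rw [show D.σ ^ 2 = 1 by rcases D.σ_pm with hh | hh <;> rw [hh] <;> norm_num, one_mul] at h'
    have := congrArg (Int.cast : ℤ → ℂ) h'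
    push_cast at this
    linear_combination this
  have hoB : 2 * (2 : ℂ) ^ m * (L.oB : ℂ) = ((Q : ℂ) + 1) * ((Q : ℂ) - 1) := by
    have h' := congrArg (Int.cast : ℤ → ℂ) D.cardB
    rw [L.cardB] at h'
    push_cast at h'
    rw [pow_succ] at h'
    linear_combination h'
  have hN : (2 : ℂ) ^ m ≠ 0 := pow_ne_zero _ two_ne_zero
  rw [hcard]
  obtain ⟨hQ0, hQ1, hQ2⟩ := hQ
  field_simp
  generalize hSP : ∑ p, P p = SP
  generalize hSR : ∑ i, R i = SR
  linear_combination (4 * ((Q : ℂ) + 1) * SP) * hoA + (2 * 2 ^ m * ((Q : ℂ) - 1) * SR) * hoB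

/-- A function on the image with odd kernel: the regular elements. -/
theorem regular_image {C : Type u} [Group C] [Finite C] (π : H →* C) (hKodd : Odd (Nat.card π.ker))
    (x : H) : ¬ 2 ∣ orderOf (π x) ↔ ¬ 2 ∣ orderOf x := by
  refine ⟨fun h h2 => ?_, fun h h2 => h (h2.trans (orderOf_map_dvd π x))⟩
  have hd : orderOf x ∣ orderOf (π x) * Nat.card π.ker := by
    refine orderOf_dvd_of_pow_eq_one ?_
    have hk : x ^ orderOf (π x) ∈ π.ker := by
      rw [MonoidHom.mem_ker, map_pow, pow_orderOf_eq_one]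
    rw [pow_mul]
    exact congrArg Subtype.val (pow_card_eq_one' (G := π.ker) (x := ⟨_, hk⟩))
  rcases (Nat.prime_two.dvd_mul).1 (h2.trans hd) with h' | h'
  · exact h h'
  · exact Nat.not_even_iff_odd.2 hKodd (even_iff_two_dvd.2 h')

/-- The principal blocks correspond. -/
theorem mem_principal_image {C : Type u} [Group C] [Fintype C] {M : Ideal AlgInt}
    (hM : IsPModular 2 M) (π : H →* C) (hπ : Function.Surjective π) (hKodd : Odd (Nat.card π.ker))
    (ψ : IrrCharacter C) :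
    ψ ∈ principalBlock M C ↔
      (⟨fun x => (ψ : C → ℂ) (π x), CharInduce.IsIrr.comp ψ.2 π hπ⟩ : IrrCharacter H) ∈
        principalBlock M H := by
  classical
  haveI : Fact (Nat.Prime 2) := ⟨Nat.prime_two⟩
  rw [Cores.mem_principalBlock_iff_sum_regular hM, Cores.mem_principalBlock_iff_sum_regular hM]
  have h := CharInduce.classInner_comp_surjective π hπ
    (fun x => if ¬ 2 ∣ orderOf x then (ψ : C → ℂ) x else 0) (fun _ => 1)
  simp only [CharBasic.classInner_def, map_one, mul_one, regular_image π hKodd,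
    ← Finset.sum_filter] at h
  show _ ↔ (∑ x : H with ¬ 2 ∣ orderOf x, (ψ : C → ℂ) (π x)) ≠ 0
  rw [Ne, Ne, not_iff_not, ← mul_eq_zero_iff_left (a := (Nat.card C : ℂ)⁻¹)
    (inv_ne_zero (Nat.cast_ne_zero.2 Nat.card_pos.ne')), ← h, mul_eq_zero_iff_left
    (inv_ne_zero (Nat.cast_ne_zero.2 Nat.card_pos.ne'))]

/-- The functions are orthogonal to the other blocks. -/
theorem fn_perp {M : Ideal AlgInt} (hM : IsPModular 2 M) (ψ : IrrCharacter H)
    (hψ : ψ ∉ principalBlock M H) :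
    (∀ j, classInner (fnA L j) (ψ : H → ℂ) = 0) ∧ classInner (fnB L) (ψ : H → ℂ) = 0 ∧
      classInner (fnC L) (ψ : H → ℂ) = 0 := by
  have hs : ∀ {f : H → ℂ}, IsIrrCharacter H ((D.σ : ℂ) • f) →
      (∀ χ : IrrCharacter H, (χ : H → ℂ) = (D.σ : ℂ) • f → χ ∈ principalBlock M H) →
      classInner f (ψ : H → ℂ) = 0 := by
    intro f hf hmem
    have h := CharBasic.classInner_irr_of_ne hf ψ.2 fun e => hψ (hmem ψ e.symm)
    rw [CharBasic.classInner_smul_left, mul_eq_zero] at h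
    exact h.resolve_left D.sigma_ne
  have h1 : OddTriv (1 : A →* ℂˣ) := fun _ _ => rfl
  have hν := L.LA.chr_oddTriv (half m)
  have hlin : ∀ α, OddTriv α → classInner (D.lin α) (ψ : H → ℂ) = 0 := fun α hα =>
    CharBasic.classInner_irr_of_ne (D.irr_lin α) ψ.2 fun e =>
      hψ ((D.block M hM ψ).2 (Or.inl ⟨α, hα, e.symm⟩))
  have hst : ∀ α, OddTriv α → classInner (D.st α) (ψ : H → ℂ) = 0 := fun α hα =>
    hs (D.irr_st α) fun χ e => (D.block M hM χ).2 (Or.inr (Or.inl ⟨α, hα, e⟩))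
  refine ⟨fun j => ?_, ?_, ?_⟩
  · rw [fnA, CharBasic.classInner_add_left, CharBasic.classInner_sub_left, hlin 1 h1, hst 1 h1,
      hs (D.irr_cu _ (moved_rep j)) fun χ e => (D.block M hM χ).2 (Or.inr (Or.inr (Or.inr
        ⟨_, L.LB.chr_oddTriv _, moved_rep j, e⟩)))]
    simp
  · rw [fnB, CharBasic.classInner_sub_left, CharBasic.classInner_sub_left,
      CharBasic.classInner_sub_left, hlin 1 h1, hlin _ hν, hst 1 h1, hst _ hν]
    simp
  · rw [fnC, CharBasic.classInner_sub_left, CharBasic.classInner_add_left, hlin 1 h1, hst _ hν,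
      hs (D.irr_ps _ _ chr_one_ne_half) fun χ e => (D.block M hM χ).2 (Or.inr (Or.inr (Or.inl
        ⟨_, _, h1, hν, chr_one_ne_half, e⟩)))]
    simp

variable {G : Type u} [Group G] [Fintype G] {t : G} [Fintype (centralizer ({t} : Set G))]

open scoped Classical in
include he in
/-- The model. -/
theorem exists_model {M : Ideal AlgInt} (hM : IsPModular 2 M)
    (π : H →* centralizer ({t} : Set G)) (hπ : Function.Surjective π)
    (hKodd : Odd (Nat.card π.ker)) (hπt : (π (D.T (e, e)) : G) = t)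
    (hfused : ∃ g : G, ∀ a b : A, a ^ 2 ^ m = 1 → b ^ 2 ^ m = 1 →
      g * (π (D.T (a, b)) : G) * g⁻¹ = π (D.T (a⁻¹, b * a⁻¹)))
    {φ : Fin (2 ^ (m - 1)) → centralizer ({t} : Set G) → ℂ}
    {S Ψ : centralizer ({t} : Set G) → ℂ}
    (hφ : ∀ j x, φ j (π x) = fnA L j x) (hS : ∀ x, S (π x) = fnB L x)
    (hΨ : ∀ x, Ψ (π x) = fnC L x) : Nonempty (Model t M m Q φ S Ψ) := by
  obtain ⟨s, hsadd, hls, hsN, hsl⟩ := exists_section L.LA L.odd_oA L.cardA
  have hm : 1 ≤ m := le_trans (by norm_num) L.two_le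
  have he2 : e * e = 1 := by rw [← sq, orderOf_dvd_iff_pow_eq_one.1 (dvd_of_eq he)]
  have hse : s (half m) = e := by
    rw [← L.neg_one he]
    exact hsl e (by
      obtain ⟨r, hr⟩ : 2 ∣ 2 ^ m := dvd_pow_self 2 (by omega)
      rw [hr, pow_mul, sq, he2, one_pow])
  have hs0 : s 0 = 1 := by have h := hsadd 0 0; rw [add_zero] at h; exact left_eq_mul.1 h
  have hsneg : ∀ x, s (-x) = (s x)⁻¹ := fun x => eq_inv_of_mul_eq_one_left (by
    rw [← hsadd, neg_add_cancel, hs0])
  let pull : IrrCharacter (centralizer ({t} : Set G)) → IrrCharacter H := fun ψ =>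
    ⟨fun x => (ψ : centralizer ({t} : Set G) → ℂ) (π x), CharInduce.IsIrr.comp ψ.2 π hπ⟩
  have hblock : ∀ ψ, ψ ∈ principalBlock M (centralizer ({t} : Set G)) ↔
      pull ψ ∈ principalBlock M H := fun ψ => mem_principal_image hM π hπ hKodd ψ
  have hinner : ∀ {f : centralizer ({t} : Set G) → ℂ} {g : H → ℂ}, (∀ x, f (π x) = g x) →
      ∀ ψ : IrrCharacter (centralizer ({t} : Set G)),
        classInner f (ψ : _ → ℂ) = classInner g (pull ψ : H → ℂ) := by
    intro f g hfg ψ
    rw [← CharInduce.classInner_comp_surjective π hπ]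
    simp only [hfg, pull]
  have hz : ∀ x : H, t ∈ zpowers (π x : G) ↔ D.T (e, e) ∈ zpowers x := by
    intro x
    constructor
    · intro h
      obtain ⟨k, hk⟩ := mem_zpowers_iff.1 h
      have hk' : π (x ^ k) = π (D.T (e, e)) := by
        apply Subtype.ext
        rw [map_zpow, Subgroup.coe_zpow, hk, hπt]
      have hmem : (D.T (e, e))⁻¹ * x ^ k ∈ π.ker := by
        rw [MonoidHom.mem_ker, map_mul, map_inv, hk', inv_mul_cancel]
      refine mem_zpowers_iff.2 ⟨k * (Nat.card π.ker : ℤ), ?_⟩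
      rw [zpow_mul, zpow_natCast,
        show x ^ k = D.T (e, e) * ((D.T (e, e))⁻¹ * x ^ k) from (mul_inv_cancel_left _ _).symm,
        (show Commute (D.T (e, e)) _ from
          ((Subgroup.mem_center_iff.1 (D.T_center e)) _).symm).mul_pow,
        show ((D.T (e, e))⁻¹ * x ^ k) ^ Nat.card π.ker = 1 from
          congrArg Subtype.val (pow_card_eq_one' (G := π.ker) (x := ⟨_, hmem⟩)), mul_one]
      obtain ⟨r, hr⟩ := hKodd
      rw [hr, pow_succ, pow_mul, ← map_pow, show ((e, e) : A × A) ^ 2 = 1 by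
        rw [sq]; exact Prod.ext he2 he2, map_one, one_pow, one_mul]
    · intro h
      obtain ⟨k, hk⟩ := mem_zpowers_iff.1 h
      exact mem_zpowers_iff.2 ⟨k, by rw [← Subgroup.coe_zpow, ← map_zpow, hk, hπt]⟩
  have Sh := fun (ψ : IrrCharacter (centralizer ({t} : Set G)))
    (h : ψ ∈ principalBlock M (centralizer ({t} : Set G))) =>
      exists_shape L hM (pull ψ) ((hblock ψ).1 h)
  let A' : Multiplicative (ZMod (2 ^ m) × ZMod (2 ^ m)) →* centralizer ({t} : Set G) :=
    π.comp (D.T.comp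
      { toFun := fun p => (s p.toAdd.1, s p.toAdd.2)
        map_one' := by simp [hs0]
        map_mul' := fun p q => by simp [hsadd] })
  have hA' : ∀ p : ZMod (2 ^ m) × ZMod (2 ^ m),
      A' (Multiplicative.ofAdd p) = π (D.T (s p.1, s p.2)) := fun _ => rfl
  let cc : IrrCharacter (centralizer ({t} : Set G)) → ZMod (2 ^ m) × ZMod (2 ^ m) → ℤ := fun ψ =>
    if h : ψ ∈ principalBlock M (centralizer ({t} : Set G)) then (Sh ψ h).some.c else 0
  let dd : IrrCharacter (centralizer ({t} : Set G)) → ZMod (2 ^ (m + 1)) → ℤ := fun ψ =>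
    if h : ψ ∈ principalBlock M (centralizer ({t} : Set G)) then (Sh ψ h).some.d else 0
  let bb : IrrCharacter (centralizer ({t} : Set G)) → ZMod (2 ^ m) → ℤ := fun ψ =>
    if h : ψ ∈ principalBlock M (centralizer ({t} : Set G)) then (Sh ψ h).some.β else 0
  refine ⟨{
    A := A', A_t := ?At, swap := ?swap, fused := ?fused, K := L.K, hK := L.hK
    c := cc, d := dd, β := bb
    d_pair := ?dpair, eval := ?eval, parity := ?parity, co1 := ?co1, co2 := ?co2, co3 := ?co3
    out1 := ?out1, out2 := ?out2, out3 := ?out3, energy := ?energy }⟩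
  case At => rw [hA', hse, hπt]
  case swap =>
    obtain ⟨w, hw⟩ := D.swapT
    exact ⟨π w, fun p => by rw [hA', hA', ← map_inv, ← map_mul, ← map_mul, hw]⟩
  case fused =>
    obtain ⟨g, hg⟩ := hfused
    refine ⟨g, fun p => ?_⟩
    rw [hA', hA', hg _ _ (hsN _) (hsN _)]
    simp only [rot, hsneg, sub_eq_add_neg, hsadd]
  case dpair =>
    intro ψ h i
    simp only [dd, dif_pos h]
    exact (Sh ψ h).some.d_pair i
  case eval =>
    intro ψ h p hp
    simp only [cc, bb, dif_pos h, hA']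
    show (pull ψ : H → ℂ) (D.T (s p.1, s p.2)) = _
    obtain ⟨a, b⟩ := p
    by_cases hab : a = b
    · subst hab
      rw [(Sh ψ h).some.onZ, hls, if_pos rfl]
      push_cast
      rfl
    · rw [(Sh ψ h).some.onT _ _ (fun e' => hab (by rw [← hls a, ← hls b, e'])), hls, hls,
        if_neg hab, add_zero]
  case parity =>
    intro ψ h w
    simp only [cc, dd, bb, dif_pos h]
    exact (Sh ψ h).some.parity w
  case co1 =>
    intro ψ h j
    rw [hinner (hφ j)]
    simp only [dd, dif_pos h]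
    exact (Sh ψ h).some.co1 j
  case co2 =>
    intro ψ h
    rw [hinner hS]
    simp only [dd, dif_pos h]
    exact (Sh ψ h).some.co2
  case co3 =>
    intro ψ h
    rw [hinner hΨ]
    simp only [cc, dd, dif_pos h]
    exact (Sh ψ h).some.co3
  case out1 =>
    intro j ψ h
    rw [hinner (hφ j)]
    exact (fn_perp L hM _ fun h' => h ((hblock ψ).2 h')).1 j
  case out2 =>
    intro ψ h
    rw [hinner hS]
    exact (fn_perp L hM _ fun h' => h ((hblock ψ).2 h')).2.1
  case out3 =>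
    intro ψ h
    rw [hinner hΨ]
    exact (fn_perp L hM _ fun h' => h ((hblock ψ).2 h')).2.2
  case energy =>
    intro ψ h ψ' h'
    simp only [cc, dd, dif_pos h, dif_pos h']
    rw [← special_inner L he (CharBasic.IsIrr.isClassFunction (pull ψ).2)
      (CharBasic.IsIrr.isClassFunction (pull ψ').2) (Sh ψ h).some (Sh ψ' h').some]
    have e1 : (fun x : H => if D.T (e, e) ∈ zpowers x then
        (pull ψ : H → ℂ) x * conj ((pull ψ' : H → ℂ) x) else 0) =
        fun x => (fun y : centralizer ({t} : Set G) => if t ∈ zpowers (y : G) then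
          (ψ : _ → ℂ) y * conj ((ψ' : _ → ℂ) y) else 0) (π x) :=
      funext fun x => if_congr (hz x).symm rfl rfl
    rw [e1]
    have h1 := CharInduce.classInner_comp_surjective π hπ
      (fun y : centralizer ({t} : Set G) => if t ∈ zpowers (y : G) then
        (ψ : _ → ℂ) y * conj ((ψ' : _ → ℂ) y) else 0) (fun _ => 1)
    rw [h1, CharBasic.classInner_def]
    simp only [map_one, mul_one]

end Cfsg.Agent.H84.WR
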