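import Cfsg.Agent.H3.SDOrder.TableProvider
import Cfsg.Agent.H84.WR.TableModel
import Cfsg.Agent.H84.WR.Index

/-!
# The order formula, wreathed case, for a centraliser covered by a group with a table
-/

set_option autoImplicit false
set_option linter.unusedSectionVars false
set_option linter.style.haveILetI false

namespace Cfsg.Agent.H84.WR

open Subgroup Cfsg Cfsg.Agent.H36.TwoTori
open Cfsg.Agent.H3.SDOrder
open scoped ComplexConjugate

universe u v

variable {H A B : Type v} [Group H] [Fintype H] [CommGroup A] [Fintype A] [CommGroup B] [Fintype B]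
  {Q : ℤ} {m : ℕ} {D : Table H A B Q}
variable {G : Type u} [Group G] [Fintype G] {t : G} [Fintype (centralizer ({t} : Set G))]

theorem phiW_ofLogs (L : Logs D m) (j : Fin (2 ^ (m - 1))) :
    (Wr.ofLogs L).phiW j = fnA L j := by
  rw [Wr.Log.phiW, Wr.ofLogs_bChar, fnA]

theorem sW_ofLogs (L : Logs D m) : (Wr.ofLogs L).sW = fnB L := by
  rw [Wr.Log.sW, Wr.ofLogs_sgnChar, fnB]
  abel

theorem psiW_ofLogs (L : Logs D m) : (Wr.ofLogs L).psiW = fnC L := by
  rw [Wr.Log.psiW, Wr.ofLogs_sgnChar, fnC]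

/-- All the data of the formula, the functions named. -/
theorem exists_funs_eq (L : Logs D m) (ht : orderOf t = 2) {π : H →* centralizer ({t} : Set G)}
    (hπ : Function.Surjective π) (hK : π.ker ≤ center H) (hKodd : Odd (Nat.card π.ker)) {e : A}
    (he : orderOf e = 2) (hπt : (π (D.T (e, e)) : G) = t)
    (hfused : ∃ g : G, ∀ a b : A, a ^ 2 ^ m = 1 → b ^ 2 ^ m = 1 →
      g * (π (D.T (a, b)) : G) * g⁻¹ = π (D.T (a⁻¹, b * a⁻¹))) :
    ∃ F : Funs t m Q, (∀ j x, F.φ j (π x) = fnA L j x) ∧ (∀ x, F.S (π x) = fnB L x) ∧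
      ∀ x, F.Ψ (π x) = fnC L x := by
  have hc : Descent.OddCover π := Descent.oddCover_table D hπ hK hKodd
  set P := Wr.ofLogs L with hPdef
  have hπt' : (π P.invH : G) = t := by rw [Wr.Log.invH, ← P.eq_invA_of_orderOf he, hπt]
  have m1 : ∀ j, P.IsFun (P.phiW j) := fun j => Or.inl ⟨j, rfl⟩
  have m2 : P.IsFun P.sW := Or.inr (Or.inl rfl)
  have m3 : P.IsFun P.psiW := Or.inr (Or.inr rfl)
  have a1 : ∀ j x, Descent.push hc (P.phiW j) (π x) = fnA L j x := fun j x => by
    rw [Descent.push_apply hc (P.invariant (m1 j)), hPdef, phiW_ofLogs]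
  have a2 : ∀ x, Descent.push hc P.sW (π x) = fnB L x := fun x => by
    rw [Descent.push_apply hc (P.invariant m2), hPdef, sW_ofLogs]
  have a3 : ∀ x, Descent.push hc P.psiW (π x) = fnC L x := fun x => by
    rw [Descent.push_apply hc (P.invariant m3), hPdef, psiW_ofLogs]
  have hsp : ∀ {f}, P.IsFun f → H84.SD.Special (Descent.push hc f) := fun hf =>
    Descent.special_push hc (P.invariant hf) hπt' fun g hg => P.special hf hg
  obtain ⟨M, hM⟩ := BlockBasic.exists_isPModular Nat.prime_two
  obtain ⟨Mo⟩ := exists_model L he (t := t) hM π hπ hKodd hπt hfused a1 a2 a3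
  have hone : ∀ {f}, P.IsFun f → classInner (Descent.push hc f) (fun _ => 1) =
      classInner f (fun _ => 1) := fun hf => Descent.inner_push hc (P.invariant hf) _
  obtain ⟨g11, g12, gss, gsp, gpp, gpf, gps⟩ := P.gram
  have ht' : π P.invH = ⟨t, mem_centralizer_singleton_iff.2 rfl⟩ := Subtype.ext hπt'
  refine ⟨{
    φ := fun j => Descent.push hc (P.phiW j), S := Descent.push hc P.sW
    Ψ := Descent.push hc P.psiW
    gen1 := fun j => Descent.isGen_push hc (P.invariant (m1 j)) (P.isGen (m1 j))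
    gen2 := Descent.isGen_push hc (P.invariant m2) (P.isGen m2)
    gen3 := Descent.isGen_push hc (P.invariant m3) (P.isGen m3)
    sp1 := fun j => hsp (m1 j), sp2 := hsp m2, sp3 := hsp m3
    g11 := fun j => by rw [Descent.inner_push_push hc (P.invariant (m1 j)) (P.invariant (m1 j)), g11]
    g12 := fun j k h => by
      rw [Descent.inner_push_push hc (P.invariant (m1 j)) (P.invariant (m1 k)), g12 j k h]
    gss := by rw [Descent.inner_push_push hc (P.invariant m2) (P.invariant m2), gss]
    gsp := fun j => by rw [Descent.inner_push_push hc (P.invariant m2) (P.invariant (m1 j)), gsp]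
    gpp := by rw [Descent.inner_push_push hc (P.invariant m3) (P.invariant m3), gpp]
    gpf := fun j => by rw [Descent.inner_push_push hc (P.invariant m3) (P.invariant (m1 j)), gpf]
    gps := by rw [Descent.inner_push_push hc (P.invariant m3) (P.invariant m2), gps]
    one1 := fun j => by rw [hone (m1 j), P.inner_one.1]
    one2 := by rw [hone m2, P.inner_one.2.1]
    one3 := by rw [hone m3, P.inner_one.2.2]
    at1 := fun j => by rw [Descent.push_at hc (P.invariant (m1 j)) ht', P.at_invH.1]
    at2 := by rw [Descent.push_at hc (P.invariant m2) ht', P.at_invH.2.1]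
    at3 := by rw [Descent.push_at hc (P.invariant m3) ht', P.at_invH.2.2]
    pair1 := fun j => ?_, pair2 := ?_, pair3 := ?_
    vec := fun χ hχ => Mo.exists_vec hM ht L.two_le (fun j => hsp (m1 j)) (hsp m2) (hsp m3) χ hχ },
    a1, a2, a3⟩
  · rw [Descent.pairs_push hc (P.invariant (m1 j))]
    exact (congrArg conj (P.pairSums.1 j)).trans (map_intCast _ _)
  · rw [Descent.pairs_push hc (P.invariant m2)]
    exact (congrArg conj P.pairSums.2.1).trans (map_zero _)
  · rw [Descent.pairs_push hc (P.invariant m3)]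
    exact (congrArg conj P.pairSums.2.2).trans (map_intCast _ _)

/-- The index in a simple group with one class of involutions. -/
theorem centralizer_index_table [IsSimpleGroup G] (hG : ¬ IsMulCommutative G) (ht : orderOf t = 2)
    (hinv : ∀ a : centralizer ({t} : Set G), orderOf a = 2 → IsConj t (a : G))
    (D : Table H A B Q) (h4 : Q % 4 = 1) {π : H →* centralizer ({t} : Set G)}
    (hπ : Function.Surjective π) (hK : π.ker ≤ center H) (hKodd : Odd (Nat.card π.ker)) {e : A}
    (he : orderOf e = 2) (hπt : (π (D.T (e, e)) : G) = t)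
    (hfused : ∃ g : G, ∀ a b : A, (∃ n, a ^ 2 ^ n = 1) → (∃ n, b ^ 2 ^ n = 1) →
      g * (π (D.T (a, b)) : G) * g⁻¹ = π (D.T (a⁻¹, b * a⁻¹))) :
    ((centralizer ({t} : Set G)).index : ℤ) = Q ^ 2 * (Q ^ 2 + Q + 1) := by
  obtain ⟨m, ⟨L⟩⟩ := exists_logs D h4
  obtain ⟨g, hg⟩ := hfused
  obtain ⟨F, -⟩ := exists_funs_eq L ht hπ hK hKodd he hπt
    ⟨g, fun a b ha hb => hg a b ⟨m, ha⟩ ⟨m, hb⟩⟩
  have h3 := D.three_le
  refine centralizer_index hG ht hinv L.two_le h4 ?_ F
  rcases D.σ_pm with h | h <;> rw [h] at h3 <;> omega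

end Cfsg.Agent.H84.WR
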