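import Cfsg.Agent.H84.WR.Axes
import Cfsg.Agent.H84.WR.TableIndex
import Cfsg.Agent.H36.TwoTori.GL
import Cfsg.Agent.H26.LThree.OneClass

/-!
# The order formula for a simple group with an involution centraliser `GL₂(q)/Z`, `q ≡ 1 (mod 4)`
-/

set_option autoImplicit false
set_option linter.unusedSectionVars false
set_option linter.unusedSimpArgs false
set_option linter.style.haveILetI false

namespace Cfsg.Agent.H84.WR

open Matrix Cfsg.Agent.H35.Semi Cfsg.Agent.H36.TwoTori Cfsg.Agent.H3.SDOrder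

universe u v

theorem eq_one_of_odd_two_pow {M : Type*} [Monoid M] {x : M} (ho : Odd (orderOf x)) {k : ℕ}
    (h : x ^ 2 ^ k = 1) : x = 1 :=
  orderOf_eq_one_iff.1 (Nat.eq_one_of_dvd_coprimes
    ((Nat.coprime_two_right.2 ho).pow_right k) dvd_rfl (orderOf_dvd_of_pow_eq_one h))

/-- The two-part of a cyclic group, parametrised by the residues. -/
theorem exists_twoPart {C : Type v} [CommGroup C] [Finite C] {n o : ℕ} (L : TwoLog C n)
    (ho : Odd o) (hcard : Nat.card C = 2 ^ n * o) :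
    ∃ zp : ZMod (2 ^ n) → C, (∀ i j, zp (i + j) = zp i * zp j) ∧ (∀ i, L.l (zp i) = i) ∧
      (∀ i, zp i ^ 2 ^ n = 1) ∧ ∀ a, (∃ k, a ^ 2 ^ k = 1) → a = zp (L.l a) := by
  haveI : NeZero (2 ^ n) := ⟨(Nat.two_pow_pos n).ne'⟩
  obtain ⟨z, hz⟩ := L.surj ((two_pow_coprime (n := n) ho).unit⁻¹ : (ZMod (2 ^ n))ˣ)
  have hzN : (z ^ o) ^ 2 ^ n = 1 := by rw [← pow_mul, mul_comm, ← hcard, pow_card_eq_one']
  have hl : L.l (z ^ o) = 1 := by
    rw [L.map_pow, hz, nsmul_eq_mul]
    exact (two_pow_coprime (n := n) ho).mul_val_inv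
  have hlN : ∀ i : ZMod (2 ^ n), L.l ((z ^ o) ^ i.val) = i := fun i => by
    rw [L.map_pow, hl, nsmul_eq_mul, mul_one, ZMod.natCast_zmod_val]
  have hN : ∀ i : ZMod (2 ^ n), ((z ^ o) ^ i.val) ^ 2 ^ n = 1 := fun i => by
    rw [← pow_mul, mul_comm, pow_mul, hzN, one_pow]
  refine ⟨fun i => (z ^ o) ^ i.val, fun i j => ?_, hlN, hN, fun a ⟨k, hk⟩ => ?_⟩
  · simp only
    rw [← pow_add, ZMod.val_add, pow_eq_pow_mod (i.val + j.val) hzN]
  · refine div_eq_one.1 (eq_one_of_odd_two_pow ((L.ker _).1 ?_) (k := k + n) ?_)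
    · rw [div_eq_mul_inv, L.map_mul, L.map_inv, hlN, add_neg_cancel]
    · rw [div_pow, pow_add, pow_mul, hk, one_pow, one_div, mul_comm, pow_mul, hN, one_pow, inv_one]

theorem splitHom_eq_tor {F : Type*} [Field F] (a b : Fˣ) :
    (splitHom (a, b) : GL (Fin 2) F) = tor a b :=
  Units.ext (by rw [coe_splitHom, coe_tor])

variable {G : Type u} [Group G] [Finite G] {F : Type v} [Field F] [Finite F] {t : G}
variable (S : Setting G F t)

include S in
theorem commute_of_mem_D {a b : G} (ha : a ∈ S.D) (hb : b ∈ S.D) : Commute a b := by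
  obtain ⟨p, q, rfl⟩ := S.mem_D.1 ha
  obtain ⟨r, w, rfl⟩ := S.mem_D.1 hb
  show _ = _
  rw [← map_mul, ← map_mul, tor_mul, tor_mul, mul_comm p, mul_comm q]

include S in
/-- After an automorphism of `GL₂(q)` fixing the determinant one part, the fusion is the standard
one. -/
theorem exists_cover {m o : ℕ} (hm : 1 ≤ m) (ho : Odd o) [Fintype F] (L : TwoLog Fˣ m)
    (hcard : Nat.card Fˣ = 2 ^ m * o) :
    ∃ π : GL (Fin 2) F →* Subgroup.centralizer ({t} : Set G),
      Function.Surjective π ∧ π.ker ≤ Subgroup.center (GL (Fin 2) F) ∧ Odd (Nat.card π.ker) ∧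
      (π (tor (-1) (-1)) : G) = t ∧
      ∃ g : G, ∀ a b : Fˣ, (∃ n, a ^ 2 ^ n = 1) → (∃ n, b ^ 2 ^ n = 1) →
        g * (π (tor a b) : G) * g⁻¹ = π (tor a⁻¹ (b * a⁻¹)) := by
  haveI : NeZero (2 ^ m) := ⟨(Nat.two_pow_pos m).ne'⟩
  obtain ⟨zp, zadd, zl, zN, zeq⟩ := exists_twoPart L ho hcard
  have zzero : zp 0 = 1 := by
    have := zadd 0 0
    rwa [add_zero, left_eq_mul] at this
  set P : ZMod (2 ^ m) × ZMod (2 ^ m) → G := fun v => S.ι (tor (zp v.1) (zp v.2)) with hP
  have Padd : ∀ v w, P (v + w) = P v * P w := fun v w => by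
    simp only [hP, Prod.fst_add, Prod.snd_add, zadd, ← map_mul, tor_mul]
  have Pone : ∀ v, P v = 1 → v = 0 := fun v hv => by
    obtain ⟨a, ha, hao⟩ := S.ker_scalar hv
    obtain ⟨e1, e2⟩ := tor_injective ha
    exact Prod.ext (by rw [← zl v.1, e1, (L.ker a).2 hao]; rfl)
      (by rw [← zl v.2, e2, (L.ker a).2 hao]; rfl)
  have Pinj : Function.Injective P := fun v w h => sub_eq_zero.1 (Pone _ (by
    have h1 := Padd (v - w) w
    rw [sub_add_cancel, h] at h1
    exact right_eq_mul.1 h1))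
  have PD : ∀ v, P v ∈ S.D := fun v => S.mem_D.2 ⟨_, _, rfl⟩
  have Pmem : ∀ d ∈ S.D, d ^ 2 ^ m = 1 → ∃ v, d = P v := by
    intro d hd hdN
    obtain ⟨x, y, rfl⟩ := S.mem_D.1 hd
    refine ⟨(L.l x, L.l y), ?_⟩
    set x₀ := x / zp (L.l x) with hx₀
    set y₀ := y / zp (L.l y) with hy₀
    have hsplit : S.ι (tor x y) = P (L.l x, L.l y) * S.ι (tor x₀ y₀) := by
      rw [hP, ← map_mul, tor_mul, hx₀, hy₀, mul_div_cancel, mul_div_cancel]
    have hodd : ∀ w : Fˣ, Odd (orderOf (w / zp (L.l w))) := fun w => (L.ker _).1 (by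
      rw [div_eq_mul_inv, L.map_mul, L.map_inv, zl, add_neg_cancel])
    have he : Odd (orderOf (S.ι (tor x₀ y₀))) := by
      refine Odd.of_dvd_nat ?_ (orderOf_map_dvd (S.ι.comp torHom) (x₀, y₀))
      rw [Prod.orderOf]
      exact ((hodd x).mul (hodd y)).of_dvd_nat (Nat.lcm_dvd_mul _ _)
    have hN : S.ι (tor x₀ y₀) ^ 2 ^ m = 1 := by
      rw [hsplit, (commute_of_mem_D S (PD _) (S.mem_D.2 ⟨_, _, rfl⟩)).mul_pow, hP, ← map_pow,
        show tor (zp (L.l x)) (zp (L.l y)) = torHom (zp (L.l x), zp (L.l y)) from rfl,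
        ← map_pow (torHom (F := F)), Prod.pow_mk, zN, zN, Prod.mk_one_one, map_one, map_one,
        one_mul] at hdN
      exact hdN
    rw [hsplit, eq_one_of_odd_two_pow he hN, mul_one]
  have Ppow : ∀ v, P v ^ 2 ^ m = 1 := fun v => by
    rw [← map_smul_pow Padd, ZMod.natCast_self, zero_smul]
    simp [hP, zzero, show (tor 1 1 : GL (Fin 2) F) = 1 from map_one torHom]
  -- the central involution and the second one
  set h := half m with hh
  have zh : zp h = -1 := by
    have h2 : zp h * zp h = 1 := by rw [← zadd, half_add hm, zzero]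
    rcases mul_self_eq_one_iff.1 (show (zp h : F) * zp h = 1 by rw [← Units.val_mul, h2]; rfl)
      with e | e
    · refine absurd ?_ (half_ne_zero hm)
      rw [← hh, ← zl h, show zp h = 1 from Units.ext e, L.map_one]
    · exact Units.ext e
  have Pt : P (h, h) = t := by simp only [hP, zh]; exact S.ι_neg
  have Pu : P (h, 0) = S.u := by simp only [hP, zh, zzero]; rfl
  obtain ⟨⟨x, y⟩, hxy⟩ := Pmem _ (S.g_conj_D.2 (PD (1, 1))) (by
    rw [conj_pow, Ppow, mul_one, mul_inv_cancel])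
  obtain ⟨ex, ey⟩ : h * x = h ∧ h * y = 0 := by
    have h1 := conj_smul Padd hxy h
    simp only [Prod.smul_mk, smul_eq_mul, mul_one] at h1
    rw [Pt, S.g_t, ← Pu] at h1
    exact ⟨(Prod.ext_iff.1 (Pinj h1)).1.symm, (Prod.ext_iff.1 (Pinj h1)).2.symm⟩
  have hxy1 : h * (x - y) = h := by rw [mul_sub, ex, ey, sub_zero]
  have hne : h ≠ 0 := half_ne_zero hm
  obtain ⟨u, hu⟩ := isUnit_of_half hm (show h * (x - y) ≠ 0 by rwa [hxy1])
  set k : ZMod (2 ^ m) := y * ((u⁻¹ : (ZMod (2 ^ m))ˣ) : ZMod (2 ^ m)) with hk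
  have hky : k * (x - y) = y := by rw [hk, ← hu, mul_assoc, u.inv_mul, mul_one]
  have hk2 : IsUnit (1 + 2 * k) := by
    refine isUnit_of_half hm (show h * (1 + 2 * k) ≠ 0 from ?_)
    rwa [mul_add, mul_one, ← mul_assoc, mul_two, half_add hm, zero_mul, add_zero]
  -- the automorphism
  let θ : GL (Fin 2) F →* GL (Fin 2) F :=
    { toFun := fun M => M * tor (zp (k * L.l (GeneralLinearGroup.det M)))
        (zp (k * L.l (GeneralLinearGroup.det M)))
      map_one' := by
        rw [map_one, L.map_one, mul_zero, zzero, one_mul]; exact map_one torHom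
      map_mul' := fun M N => by
        simp only [map_mul, L.map_mul, mul_add, zadd, ← tor_mul]
        rw [mul_assoc M, ← mul_assoc N, Subgroup.mem_center_iff.1 (scalar_mem_center _) N]
        simp only [mul_assoc] }
  have θapp : ∀ M, θ M = M * tor (zp (k * L.l (GeneralLinearGroup.det M)))
        (zp (k * L.l (GeneralLinearGroup.det M))) := fun M => rfl
  have θinj : Function.Injective θ := by
    refine (injective_iff_map_eq_one θ).2 fun M hM => ?_
    rw [θapp] at hM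
    set i := k * L.l (GeneralLinearGroup.det M) with hi
    have hMi := eq_inv_of_mul_eq_one_left hM
    rw [tor_inv] at hMi
    have h1 : i = k * L.l ((zp i)⁻¹ * (zp i)⁻¹) := by rw [hi, ← det_tor, ← hMi]
    rw [L.map_mul, L.map_inv, zl] at h1
    have h2 : i = 0 := hk2.mul_right_eq_zero.1 (by linear_combination h1)
    rw [hMi, h2, zzero, inv_one]
    exact map_one torHom
  have θbij : Function.Bijective θ := Finite.injective_iff_bijective.1 θinj
  have θtor : ∀ i j : ZMod (2 ^ m), θ (tor (zp i) (zp j)) =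
      tor (zp (i + k * (i + j))) (zp (j + k * (i + j))) := fun i j => by
    rw [θapp, det_tor, L.map_mul, zl, zl, tor_mul, ← zadd, ← zadd]
  let π : GL (Fin 2) F →* Subgroup.centralizer ({t} : Set G) :=
    (S.ι.comp θ).codRestrict _ fun M =>
      Subgroup.mem_centralizer_singleton_iff.2 (S.commute_image _).eq
  have πcoe : ∀ M, (π M : G) = S.ι (θ M) := fun M => rfl
  set R : ZMod (2 ^ m) × ZMod (2 ^ m) → G :=
    fun v => P (v.1 + k * (v.1 + v.2), v.2 + k * (v.1 + v.2)) with hR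
  have πR : ∀ i j, (π (tor (zp i) (zp j)) : G) = R (i, j) := fun i j => by rw [πcoe, θtor]
  have Radd : ∀ v w, R (v + w) = R v * R w := fun v w => by
    simp only [hR, ← Padd, Prod.mk_add_mk, Prod.fst_add, Prod.snd_add]
    congr 1
    exact Prod.ext (by simp only; ring) (by simp only; ring)
  have Rinj : Function.Injective R := fun v w hvw => by
    obtain ⟨e1, e2⟩ := Prod.ext_iff.1 (Pinj hvw)
    simp only at e1 e2
    have hs : v.1 + v.2 = w.1 + w.2 := hk2.mul_left_cancel (by linear_combination e1 + e2)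
    exact Prod.ext (by linear_combination e1 - k * hs) (by linear_combination e2 - k * hs)
  have RD : ∀ v, R v ∈ S.D := fun v => PD _
  have h1 : S.g * R (1, 1) * S.g⁻¹ = R ((1 + 2 * k) * (x - y), 0) := by
    have h2 := conj_smul Padd hxy (1 + 2 * k)
    simp only [Prod.smul_mk, smul_eq_mul, mul_one] at h2
    have e1 : R (1, 1) = P (1 + 2 * k, 1 + 2 * k) :=
      congrArg P (Prod.ext (by simp only; ring) (by simp only; ring))
    have e2 : R ((1 + 2 * k) * (x - y), 0) = P ((1 + 2 * k) * x, (1 + 2 * k) * y) :=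
      congrArg P (Prod.ext (by simp only; linear_combination (1 + 2 * k) * hky)
        (by simp only; linear_combination (1 + 2 * k) * hky))
    rw [e1, e2]
    exact h2
  have hsq : S.g * (S.g * R (1, 1) * S.g⁻¹) * S.g⁻¹ = R (1, 1) := by
    rw [show S.g * (S.g * R (1, 1) * S.g⁻¹) * S.g⁻¹ = S.g * S.g * R (1, 1) * (S.g * S.g)⁻¹ by group]
    exact mul_inv_eq_iff_eq_mul.2
      (commute_of_mem_D S (S.mem_D_iff.2 S.g_mul_g) (RD _)).eq
  have hswap : ∀ i j, S.ι swap * R (i, j) * (S.ι swap)⁻¹ = R (j, i) := fun i j => by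
    simp only [hR, hP, ← map_inv, ← map_mul, swap_conj_tor]
    rw [add_comm j i]
  have hcube : (S.ι swap * S.g) ^ 3 * R (0, 1) * ((S.ι swap * S.g) ^ 3)⁻¹ = R (0, 1) := by
    have cj : ∀ {a b c : G}, S.g * a * S.g⁻¹ = b → S.ι swap * b * (S.ι swap)⁻¹ = c →
        S.ι swap * S.g * a * (S.ι swap * S.g)⁻¹ = c := fun {a b c} e1 e2 => by
      rw [← e2, ← e1]; group
    have st : S.ι swap * t * (S.ι swap)⁻¹ = t := mul_inv_eq_iff_eq_mul.2 (S.commute_image _).eq
    have c1 := cj S.g_t S.swap_conj_u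
    have c2 := cj S.g_tu S.swap_conj_tu
    have c3 := cj S.g_u st
    have e : ∀ a : G, (S.ι swap * S.g) ^ 3 * a * ((S.ι swap * S.g) ^ 3)⁻¹ =
        S.ι swap * S.g * (S.ι swap * S.g * (S.ι swap * S.g * a * (S.ι swap * S.g)⁻¹) *
          (S.ι swap * S.g)⁻¹) * (S.ι swap * S.g)⁻¹ := fun a => by
      simp only [pow_succ, pow_zero, one_mul, _root_.mul_inv_rev, mul_assoc]
    have hD : (S.ι swap * S.g) ^ 3 ∈ S.D := S.mem_D_iff.2
      ⟨mul_inv_eq_iff_eq_mul.1 (by rw [e, c1, c2, c3]),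
        mul_inv_eq_iff_eq_mul.1 (by rw [e, c3, c1, c2])⟩
    exact mul_inv_eq_iff_eq_mul.2 (commute_of_mem_D S hD (RD _)).eq
  have hfus := fused_of_axes Radd Rinj (hk2.mul (⟨u, hu⟩ : IsUnit (x - y))) h1 hsq hswap hcube
  refine ⟨π, fun c => ?_, fun M hM => ?_, ?_, ?_, S.g, fun a b ha hb => ?_⟩
  · obtain ⟨M, hM⟩ := S.exists_preimage
      (Subgroup.mem_centralizer_singleton_iff.1 c.2 : Commute (c : G) t)
    obtain ⟨N, rfl⟩ := θbij.2 M
    exact ⟨N, Subtype.ext hM⟩
  · have h2 : θ M ∈ S.ι.ker := congrArg Subtype.val hM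
    rw [show M = θ M * (tor (zp (k * L.l (GeneralLinearGroup.det M)))
      (zp (k * L.l (GeneralLinearGroup.det M))))⁻¹ by rw [θapp, mul_inv_cancel_right]]
    exact mul_mem (S.ker_center h2) (inv_mem (scalar_mem_center _))
  · have e : Nat.card π.ker = Nat.card S.ι.ker :=
      Nat.card_congr (Equiv.subtypeEquiv (Equiv.ofBijective θ θbij) fun M =>
        (Subtype.ext_iff (a1 := π M) (a2 := 1)).trans Iff.rfl)
    rw [e]
    exact S.ker_odd
  · rw [πcoe, θapp, det_tor, neg_mul_neg, one_mul, L.map_one, mul_zero, zzero]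
    rw [show (tor 1 1 : GL (Fin 2) F) = 1 from map_one torHom, mul_one]
    exact S.ι_neg
  · have ea := zeq a ha
    have eb := zeq b hb
    have ei : a⁻¹ = zp (-L.l a) := inv_eq_of_mul_eq_one_right (by
      nth_rw 1 [ea]
      rw [← zadd, add_neg_cancel, zzero])
    have ej : b * a⁻¹ = zp (L.l b - L.l a) := by
      rw [sub_eq_add_neg, zadd, ← ei, ← eb]
    rw [ej, ei, πR]
    conv_lhs => rw [ea, eb, πR]
    exact hfus _ _

include S in
/-- The order formula. -/
theorem index_wreathed (hq : Nat.card F % 4 = 1) :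
    ((Subgroup.centralizer ({t} : Set G)).index : ℤ) =
      (Nat.card F : ℤ) ^ 2 * ((Nat.card F : ℤ) ^ 2 + Nat.card F + 1) := by
  classical
  haveI := Fintype.ofFinite G
  haveI := Fintype.ofFinite F
  haveI := S.simple
  rw [Nat.card_eq_fintype_card] at hq ⊢
  obtain ⟨δ, hδ⟩ := FiniteField.exists_nonsquare (F := F) fun h => by
    haveI : CharP F 2 := h ▸ ringChar.charP F
    exact S.two_ne CharTwo.two_eq_zero
  haveI : Fintype (Quad δ)ˣ := Fintype.ofFinite _
  have h1 : Fintype.card F - 1 ≠ 0 := by have := Fintype.one_lt_card (α := F); omega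
  obtain ⟨m, o, ho, hmo⟩ := Nat.exists_eq_two_pow_mul_odd h1
  have hm : 1 ≤ m := by
    by_contra hlt
    obtain ⟨r, rfl⟩ := ho
    rw [show m = 0 by omega] at hmo
    omega
  have hcard : Nat.card Fˣ = 2 ^ m * o := by
    rw [Nat.card_eq_fintype_card, Fintype.card_units, hmo]
  obtain ⟨L⟩ := exists_twoLog (inferInstance : IsCyclic Fˣ) ho hcard
  obtain ⟨π, hπ, hK, hKo, hπt, g, hg⟩ := exists_cover S hm ho L hcard
  have hne : ¬ IsMulCommutative G := fun h => by
    obtain ⟨a, ha⟩ := S.exists_noncommute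
    exact ha (mul_comm' a t)
  refine centralizer_index_table (D := glTable hδ) (e := (-1 : Fˣ)) hne S.invol
    (fun a ha => isConj_iff.2 (H26.LThree.orderOf_two_conj S (Subgroup.orderOf_coe a ▸ ha)))
    (by omega) hπ hK hKo (orderOf_eq_prime (by rw [neg_one_sq]) S.neg_one_ne) ?_ ⟨g, ?_⟩
  · show (π (splitHom (-1, -1)) : G) = t
    rw [splitHom_eq_tor]
    exact hπt
  · intro a b ha hb
    show g * (π (splitHom (a, b)) : G) * g⁻¹ = π (splitHom (a⁻¹, b * a⁻¹))
    rw [splitHom_eq_tor, splitHom_eq_tor]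
    exact hg a b ha hb

end Cfsg.Agent.H84.WR
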