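import Cfsg.Agent.H84.WR.TableLog
import Cfsg.Agent.H84.WR.TableInner
import Cfsg.Agent.H84.WR.Column

/-!
# The vectors of the principal characters of a table

`Shape D L f` holds the vectors `c`, `d`, `β` of `f` with its values on the four kinds of classes and
its products with the functions `fnA j = 1 - St + X`, `fnB = (1 - ν) (1 - St)`, `fnC = 1 + ν St - R`.
-/

set_option autoImplicit false
set_option linter.unusedSectionVars false

namespace Cfsg.Agent.H84.WR

open Finset Cfsg Cfsg.Agent.H36.TwoTori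
open scoped ComplexConjugate

universe v

variable {H A B : Type v} [Group H] [Fintype H] [CommGroup A] [Fintype A] [CommGroup B] [Fintype B]
  {Q : ℤ} {m : ℕ}

theorem hat₁_single {N : ℕ} [NeZero N] (a z : ZMod N) :
    hat₁ (fun w => if w = a then (1 : ℤ) else 0) z = ee (a * z) := by
  simp [hat₁, ite_mul]

theorem hat₂_single {N : ℕ} [NeZero N] (a p : ZMod N × ZMod N) :
    hat₂ (fun k => if k = a then (1 : ℤ) else 0) p = ee (a.1 * p.1 + a.2 * p.2) := by
  simp [hat₂, ite_mul]

/-- The index of `α ∘ norm` on the cyclic torus. -/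
def jidx (m : ℕ) (k : ZMod (2 ^ m)) : ZMod (2 ^ (m + 1)) :=
  ((k.val * (2 + 2 ^ m) : ℕ) : ZMod _)

/-- The Frobenius on the indices. -/
def frobI (m : ℕ) (i : ZMod (2 ^ (m + 1))) : ZMod (2 ^ (m + 1)) := i + (i.val * 2 ^ m : ℕ)

theorem two_pow_succ_eq_zero (m : ℕ) : (2 : ZMod (2 ^ (m + 1))) * 2 ^ m = 0 := by
  have := ZMod.natCast_self (2 ^ (m + 1))
  push_cast at this
  rw [← pow_succ']
  exact this

theorem sq_pow_eq_zero {m : ℕ} (hm : 1 ≤ m) : (2 : ZMod (2 ^ (m + 1))) ^ m * 2 ^ m = 0 := by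
  have h := two_pow_succ_eq_zero m
  have e : (2 : ZMod (2 ^ (m + 1))) ^ m = 2 ^ (m - 1) * 2 := by
    rw [← pow_succ, Nat.sub_add_cancel hm]
  nth_rw 1 [e]
  rw [mul_assoc, h, mul_zero]

theorem frobI_eq {m : ℕ} (i : ZMod (2 ^ (m + 1))) : frobI m i = i * (1 + 2 ^ m) := by
  rw [frobI]; push_cast; rw [ZMod.natCast_zmod_val]; ring

theorem frobI_frobI {m : ℕ} (hm : 1 ≤ m) (i : ZMod (2 ^ (m + 1))) : frobI m (frobI m i) = i := by
  rw [frobI_eq, frobI_eq]
  linear_combination i * sq_pow_eq_zero hm + i * two_pow_succ_eq_zero m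

theorem jidx_eq {m : ℕ} (k : ZMod (2 ^ m)) :
    jidx m k = (k.val : ZMod (2 ^ (m + 1))) * (2 + 2 ^ m) := by
  rw [jidx]; push_cast; rfl

theorem frobI_jidx {m : ℕ} (hm : 1 ≤ m) (k : ZMod (2 ^ m)) : frobI m (jidx m k) = jidx m k := by
  rw [frobI_eq, jidx_eq]
  linear_combination (k.val : ZMod (2 ^ (m + 1))) *
    (two_pow_succ_eq_zero m + sq_pow_eq_zero hm)

theorem cast_eq {m : ℕ} (i : ZMod (2 ^ (m + 1))) :
    ((i.val : ℕ) : ZMod (2 ^ m)) = ZMod.castHom (dvd_of_mul_right_eq 2 (pow_succ 2 m).symm) _ i := by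
  rw [ZMod.natCast_val, ZMod.castHom_apply]

theorem cast_jidx {m : ℕ} (k : ZMod (2 ^ m)) :
    (((jidx m k).val : ℕ) : ZMod (2 ^ m)) = k + k := by
  rw [cast_eq, jidx, map_natCast, Nat.cast_mul, Nat.cast_add, ZMod.natCast_self, add_zero,
    ZMod.natCast_zmod_val]
  push_cast
  ring

theorem cast_frobI {m : ℕ} (i : ZMod (2 ^ (m + 1))) :
    (((frobI m i).val : ℕ) : ZMod (2 ^ m)) = ((i.val : ℕ) : ZMod (2 ^ m)) := by
  rw [cast_eq, cast_eq, frobI, map_add, map_natCast, Nat.cast_mul, ZMod.natCast_self, mul_zero,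
    add_zero]

theorem cast_rep {m : ℕ} (j : Fin (2 ^ (m - 1))) (hm : 1 ≤ m) :
    (((rep m j).val : ℕ) : ZMod (2 ^ m)) ≠ 0 := by
  rw [rep_val hm, Ne, ZMod.natCast_eq_zero_iff]
  intro h
  have : 2 ∣ 2 * j.val + 1 := (dvd_pow_self 2 (by omega)).trans h
  omega

theorem rep_odd {m : ℕ} (hm : 1 ≤ m) (j : Fin (2 ^ (m - 1))) : Odd (rep m j).val :=
  ⟨j.val, rep_val hm j⟩

theorem frobI_of_odd {m : ℕ} {i : ZMod (2 ^ (m + 1))} (hi : Odd i.val) :
    frobI m i = i + ((2 ^ m : ℕ) : ZMod (2 ^ (m + 1))) := by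
  obtain ⟨r, hr⟩ := hi
  rw [frobI, hr]
  push_cast
  linear_combination (r : ZMod (2 ^ (m + 1))) * two_pow_succ_eq_zero m

theorem frobI_of_even {m : ℕ} {i : ZMod (2 ^ (m + 1))} (hi : ¬ Odd i.val) : frobI m i = i := by
  obtain ⟨r, hr⟩ := Nat.not_odd_iff_even.1 hi
  rw [frobI, hr]
  push_cast
  linear_combination (r : ZMod (2 ^ (m + 1))) * two_pow_succ_eq_zero m

theorem even_of_jidx {m : ℕ} (hm : 1 ≤ m) (k : ZMod (2 ^ m)) : ¬ Odd (jidx m k).val := by
  rw [jidx, ZMod.val_natCast, Nat.not_odd_iff_even, Nat.even_iff,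
    Nat.mod_mod_of_dvd _ (dvd_pow_self 2 (by omega)), ← Nat.even_iff]
  exact (even_two.add (Nat.even_pow.2 ⟨even_two, by omega⟩)).mul_left _

theorem jidx_half {m : ℕ} (hm : 2 ≤ m) :
    jidx m (half m) = ((2 ^ m : ℕ) : ZMod (2 ^ (m + 1))) := by
  have hv : (half m).val = 2 ^ (m - 1) :=
    ZMod.val_natCast_of_lt (Nat.pow_lt_pow_right (by norm_num) (by omega))
  rw [jidx, hv, mul_add, show 2 ^ (m - 1) * 2 = 2 ^ m by rw [← pow_succ]; congr 1; omega,
    Nat.cast_add, ← pow_add, show m - 1 + m = (m - 2) + (m + 1) by omega, pow_add 2 (m - 2) (m + 1),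
    Nat.cast_mul,
    ZMod.natCast_self, mul_zero, add_zero]

theorem jidx_zero (m : ℕ) : jidx m 0 = 0 := by simp [jidx]

theorem mid_ne_zero' (m : ℕ) : ((2 ^ m : ℕ) : ZMod (2 ^ (m + 1))) ≠ 0 :=
  half_ne_zero (m := m + 1) (by omega)

theorem jidx_eq_zero {m : ℕ} (hm : 2 ≤ m) {k : ZMod (2 ^ m)} : jidx m k = 0 ↔ k = 0 := by
  refine ⟨fun h => ?_, fun h => h ▸ jidx_zero m⟩
  have h1 := cast_jidx k
  rw [h, ZMod.val_zero, Nat.cast_zero] at h1
  refine (eq_half (by omega) h1.symm).resolve_right fun hk => ?_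
  rw [hk, jidx_half hm] at h
  exact mid_ne_zero' m h

theorem jidx_eq_mid {m : ℕ} (hm : 2 ≤ m) {k : ZMod (2 ^ m)} :
    jidx m k = ((2 ^ m : ℕ) : ZMod (2 ^ (m + 1))) ↔ k = half m := by
  refine ⟨fun h => ?_, fun h => h ▸ jidx_half hm⟩
  have h1 := cast_jidx k
  rw [h, cast_eq, map_natCast, ZMod.natCast_self] at h1
  refine (eq_half (by omega) h1.symm).resolve_left fun hk => ?_
  rw [hk, jidx_zero] at h
  exact mid_ne_zero' m h.symm

variable {D : Table H A B Q} (L : Logs D m)

theorem chr_norm (k : ZMod (2 ^ m)) (y : B) :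
    (L.LA.chr k (D.norm y) : ℂ) = ee (jidx m k * L.LB.l y) := by
  have h := mul_dbl ((k.val : ℕ) : ZMod (2 ^ (m + 1))) (L.LA.l (D.norm y))
  rw [ZMod.val_natCast_of_lt (k.val_lt.trans (Nat.pow_lt_pow_right (by norm_num) (by omega))),
    ZMod.natCast_zmod_val] at h
  rw [TwoLog.chr_apply, ← h, L.norm, jidx_eq]
  congr 1
  push_cast
  rw [ZMod.natCast_zmod_val]
  ring

theorem chr_incl (i : ZMod (2 ^ (m + 1))) (a : A) :
    (L.LB.chr i (D.incl a) : ℂ) = ee (((i.val : ℕ) : ZMod (2 ^ m)) * L.LA.l a) := by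
  rw [TwoLog.chr_apply, L.incl, mul_dbl]

theorem chr_frob (i : ZMod (2 ^ (m + 1))) (y : B) :
    (L.LB.chr i (y ^ Q) : ℂ) = ee (frobI m i * L.LB.l y) := by
  rw [TwoLog.chr_apply, L.frob, frobI_eq]
  congr 1
  push_cast
  rw [ZMod.natCast_zmod_val]
  ring

theorem exists_moved_iff (i : ZMod (2 ^ (m + 1))) :
    (∃ y, L.LB.chr i (y ^ Q) ≠ L.LB.chr i y) ↔ Odd i.val := by
  constructor
  · rintro ⟨y, hy⟩
    by_contra hi
    exact hy (Units.ext (by rw [chr_frob, frobI_of_even hi, TwoLog.chr_apply]))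
  · intro hi
    obtain ⟨y, hy⟩ := L.LB.surj 1
    refine ⟨y, fun h => ?_⟩
    have h1 := congrArg (fun u : ℂˣ => (u : ℂ)) h
    rw [chr_frob] at h1
    simp only [TwoLog.chr_apply, hy, mul_one] at h1
    have h2 := TwoLog.ee_injective h1
    rw [frobI_of_odd hi, add_eq_left] at h2
    exact mid_ne_zero' m h2

/-- The functions. -/
noncomputable def fnA (j : Fin (2 ^ (m - 1))) : H → ℂ :=
  D.lin 1 - D.st 1 + D.cu (L.LB.chr (rep m j))

/-- The functions. -/
noncomputable def fnB : H → ℂ :=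
  (D.lin 1 - D.lin (L.LA.chr (half m))) - (D.st 1 - D.st (L.LA.chr (half m)))

/-- The functions. -/
noncomputable def fnC : H → ℂ :=
  D.lin 1 + D.st (L.LA.chr (half m)) - D.ps 1 (L.LA.chr (half m))

/-- The vectors of a function. -/
structure Shape (f : H → ℂ) where
  c : ZMod (2 ^ m) × ZMod (2 ^ m) → ℤ
  d : ZMod (2 ^ (m + 1)) → ℤ
  β : ZMod (2 ^ m) → ℤ
  d_pair : ∀ i, d (frobI m i) = d i
  parity : ∀ w : ZMod (2 ^ m), (∑ a, c (a, w - a)) -
    (∑ i : ZMod (2 ^ (m + 1)) with ((i.val : ℕ) : ZMod (2 ^ m)) = w, d i) = 2 * β w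
  onT : ∀ a b, a ≠ b → f (D.T (a, b)) = hat₂ c (L.LA.l a, L.LA.l b)
  onZ : ∀ a, f (D.T (a, a)) =
    hat₂ c (L.LA.l a, L.LA.l a) + ((Q : ℂ) - 1) * hat₁ β (L.LA.l a)
  onU : ∀ a, f (D.T (a, a) * D.uni) = hat₂ c (L.LA.l a, L.LA.l a) - hat₁ β (L.LA.l a)
  onS : ∀ y, y ∉ D.incl.range → f (D.S y) = hat₁ d (L.LB.l y)
  co1 : ∀ j, classInner (fnA L j) f = ((d 0 - d (rep m j) : ℤ) : ℂ)
  co2 : classInner (fnB L) f = ((d 0 - d ((2 ^ m : ℕ) : ZMod (2 ^ (m + 1))) : ℤ) : ℂ)
  co3 : 2 * classInner (fnC L) f = (((d 0 - d ((2 ^ m : ℕ) : ZMod (2 ^ (m + 1)))) +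
    (c (0, 0) + c (half m, half m) - c (0, half m) - c (half m, 0)) : ℤ) : ℂ)

variable {L}

/-- Multiples. -/
noncomputable def Shape.smul {f : H → ℂ} (S : Shape L f) (e : ℤ) : Shape L ((e : ℂ) • f) where
  c k := e * S.c k
  d i := e * S.d i
  β w := e * S.β w
  d_pair i := by rw [S.d_pair]
  parity w := by rw [← Finset.mul_sum, ← Finset.mul_sum, ← mul_sub, S.parity]; ring
  onT a b h := by
    rw [Pi.smul_apply, S.onT a b h, smul_eq_mul, hat₂, hat₂, Finset.mul_sum]
    simp [mul_assoc]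
  onZ a := by
    rw [Pi.smul_apply, S.onZ, smul_eq_mul, hat₂, hat₂, hat₁, hat₁]
    simp only [Finset.mul_sum, mul_add]
    congr 1 <;> refine Finset.sum_congr rfl fun k _ => ?_ <;> push_cast <;> ring
  onU a := by
    rw [Pi.smul_apply, S.onU, smul_eq_mul, hat₂, hat₂, hat₁, hat₁]
    simp only [Finset.mul_sum, mul_sub]
    congr 1 <;> refine Finset.sum_congr rfl fun k _ => ?_ <;> push_cast <;> ring
  onS y h := by
    rw [Pi.smul_apply, S.onS y h, smul_eq_mul, hat₁, hat₁, Finset.mul_sum]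
    simp [mul_assoc]
  co1 j := by
    rw [CharBasic.classInner_smul_right, map_intCast, S.co1 j]; push_cast; ring
  co2 := by
    rw [CharBasic.classInner_smul_right, map_intCast, S.co2]; push_cast; ring
  co3 := by
    rw [CharBasic.classInner_smul_right, map_intCast, mul_left_comm, S.co3]; push_cast; ring

theorem chr_ne_one {k : ZMod (2 ^ m)} (hk : k ≠ 0) : L.LA.chr k ≠ 1 := fun h =>
  hk (L.LA.chr_injective (h.trans L.LA.chr_zero.symm))

theorem chr_one_ne_half : (1 : A →* ℂˣ) ≠ L.LA.chr (half m) :=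
  (chr_ne_one (half_ne_zero (le_trans (by norm_num) L.two_le))).symm

theorem moved_rep (j : Fin (2 ^ (m - 1))) :
    ∃ y, L.LB.chr (rep m j) (y ^ Q) ≠ L.LB.chr (rep m j) y :=
  (exists_moved_iff L _).2 (rep_odd (le_trans (by norm_num) L.two_le) j)

open scoped Classical in
theorem inner_one_chr (k : ZMod (2 ^ m)) :
    (if (1 : A →* ℂˣ) = L.LA.chr k then (1 : ℂ) else 0) = if k = 0 then 1 else 0 := by
  refine if_congr ⟨fun h => L.LA.chr_injective (h.symm.trans L.LA.chr_zero.symm), fun h => ?_⟩ rfl rfl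
  rw [h, L.LA.chr_zero]

open scoped Classical in
theorem inner_half_chr (k : ZMod (2 ^ m)) :
    (if L.LA.chr (half m) = L.LA.chr k then (1 : ℂ) else 0) = if k = half m then 1 else 0 :=
  if_congr ⟨fun h => (L.LA.chr_injective h).symm, fun h => by rw [h]⟩ rfl rfl

variable (L)

/-- The linear characters. -/
noncomputable def shapeLin (k : ZMod (2 ^ m)) : Shape L (D.lin (L.LA.chr k)) where
  c p := if p = (k, k) then 1 else 0
  d i := if i = jidx m k then 1 else 0
  β _ := 0
  d_pair i := by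
    refine if_congr ⟨fun h => ?_, fun h => ?_⟩ rfl rfl
    · rw [← frobI_frobI (le_trans (by norm_num) L.two_le) i, h,
        frobI_jidx (le_trans (by norm_num) L.two_le)]
    · rw [h, frobI_jidx (le_trans (by norm_num) L.two_le)]
  parity w := by
    simp only [Prod.ext_iff, ite_and, sum_ite_eq', mem_univ, if_true, mem_filter, true_and,
      cast_jidx, mul_zero]
    rw [sub_eq_zero]
    exact if_congr ⟨fun h => by linear_combination -h, fun h => by linear_combination -h⟩ rfl rfl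
  onT a b h := by
    rw [D.lin_T _ _ _ h, hat₂_single, TwoLog.chr_apply, TwoLog.chr_apply, ee_add]
  onZ a := by
    rw [D.lin_centre, hat₂_single, TwoLog.chr_apply, ← ee_add]
    simp [hat₁]
  onU a := by
    rw [D.lin_uni, hat₂_single, TwoLog.chr_apply, ← ee_add]
    simp [hat₁]
  onS y h := by rw [D.lin_S _ _ h, hat₁_single, chr_norm]
  co1 j := by
    rw [fnA, CharBasic.classInner_add_left, CharBasic.classInner_sub_left, D.inner_lin,
      D.inner_st_lin, ← CharBasic.classInner_conj_symm (D.lin (L.LA.chr k)) (D.cu _),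
      D.inner_lin_cu _ _ (moved_rep j), map_zero, inner_one_chr,
      if_neg (fun h : rep m j = jidx m k => even_of_jidx (le_trans (by norm_num) L.two_le) k
        (h ▸ rep_odd (le_trans (by norm_num) L.two_le) j))]
    simp [eq_comm (a := (0 : ZMod (2 ^ (m + 1)))), jidx_eq_zero L.two_le]
  co2 := by
    rw [fnB, CharBasic.classInner_sub_left, CharBasic.classInner_sub_left,
      CharBasic.classInner_sub_left, D.inner_lin, D.inner_lin, D.inner_st_lin, D.inner_st_lin,
      inner_one_chr, inner_half_chr]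
    have e0 : (0 = jidx m k) ↔ k = 0 := eq_comm.trans (jidx_eq_zero L.two_le)
    have emid : (((2 ^ m : ℕ) : ZMod (2 ^ (m + 1))) = jidx m k) ↔ k = half m :=
      eq_comm.trans (jidx_eq_mid L.two_le)
    simp only [e0, emid]
    push_cast
    ring
  co3 := by
    rw [fnC, CharBasic.classInner_sub_left, CharBasic.classInner_add_left, D.inner_lin,
      D.inner_st_lin, ← CharBasic.classInner_conj_symm (D.lin (L.LA.chr k)) (D.ps _ _),
      D.inner_lin_ps _ _ _ chr_one_ne_half, map_zero, inner_one_chr]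
    have hh := half_ne_zero (m := m) (le_trans (by norm_num) L.two_le)
    have e0 : (0 = jidx m k) ↔ k = 0 := eq_comm.trans (jidx_eq_zero L.two_le)
    have emid : (((2 ^ m : ℕ) : ZMod (2 ^ (m + 1))) = jidx m k) ↔ k = half m :=
      eq_comm.trans (jidx_eq_mid L.two_le)
    simp only [e0, emid, Prod.ext_iff]
    clear e0 emid
    split_ifs <;> first | (exfalso; grind) | (push_cast; norm_num)

/-- The twists of the Steinberg character. -/
noncomputable def shapeSt (k : ZMod (2 ^ m)) : Shape L (D.st (L.LA.chr k)) where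
  c p := if p = (k, k) then 1 else 0
  d i := -(if i = jidx m k then 1 else 0)
  β w := if w = k + k then 1 else 0
  d_pair i := by
    refine congrArg Neg.neg (if_congr ⟨fun h => ?_, fun h => ?_⟩ rfl rfl)
    · rw [← frobI_frobI (le_trans (by norm_num) L.two_le) i, h,
        frobI_jidx (le_trans (by norm_num) L.two_le)]
    · rw [h, frobI_jidx (le_trans (by norm_num) L.two_le)]
  parity w := by
    simp only [Prod.ext_iff, ite_and, sum_neg_distrib, sum_ite_eq', mem_univ, if_true, mem_filter,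
      true_and, cast_jidx]
    simp only [sub_eq_iff_eq_add, show (k + k = w) ↔ w = k + k from eq_comm]
    split_ifs <;> ring
  onT a b h := by
    rw [D.st_T _ _ _ h, hat₂_single, TwoLog.chr_apply, TwoLog.chr_apply, ee_add]
  onZ a := by
    rw [D.st_centre, hat₂_single, hat₁_single, TwoLog.chr_apply, ← ee_add, add_mul]
    ring
  onU a := by rw [D.st_uni, hat₂_single, hat₁_single, add_mul, sub_self]
  onS y h := by
    rw [D.st_S _ _ h, chr_norm, ← hat₁_single, hat₁, hat₁, ← Finset.sum_neg_distrib]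
    refine Finset.sum_congr rfl fun i _ => ?_
    push_cast
    ring
  co1 j := by
    rw [fnA, CharBasic.classInner_add_left, CharBasic.classInner_sub_left, D.inner_lin_st,
      D.inner_st, ← CharBasic.classInner_conj_symm (D.st (L.LA.chr k)) (D.cu _),
      D.inner_st_cu _ _ (moved_rep j), map_zero, inner_one_chr,
      if_neg (fun h : rep m j = jidx m k => even_of_jidx (le_trans (by norm_num) L.two_le) k
        (h ▸ rep_odd (le_trans (by norm_num) L.two_le) j))]
    simp [eq_comm (a := (0 : ZMod (2 ^ (m + 1)))), jidx_eq_zero L.two_le]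
  co2 := by
    rw [fnB, CharBasic.classInner_sub_left, CharBasic.classInner_sub_left,
      CharBasic.classInner_sub_left, D.inner_lin_st, D.inner_lin_st, D.inner_st, D.inner_st,
      inner_one_chr, inner_half_chr]
    have e0 : (0 = jidx m k) ↔ k = 0 := eq_comm.trans (jidx_eq_zero L.two_le)
    have emid : (((2 ^ m : ℕ) : ZMod (2 ^ (m + 1))) = jidx m k) ↔ k = half m :=
      eq_comm.trans (jidx_eq_mid L.two_le)
    simp only [e0, emid]
    push_cast
    ring
  co3 := by
    rw [fnC, CharBasic.classInner_sub_left, CharBasic.classInner_add_left, D.inner_lin_st,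
      D.inner_st, ← CharBasic.classInner_conj_symm (D.st (L.LA.chr k)) (D.ps _ _),
      D.inner_st_ps _ _ _ chr_one_ne_half, map_zero, inner_half_chr]
    have hh := half_ne_zero (m := m) (le_trans (by norm_num) L.two_le)
    have e0 : (0 = jidx m k) ↔ k = 0 := eq_comm.trans (jidx_eq_zero L.two_le)
    have emid : (((2 ^ m : ℕ) : ZMod (2 ^ (m + 1))) = jidx m k) ↔ k = half m :=
      eq_comm.trans (jidx_eq_mid L.two_le)
    simp only [e0, emid, Prod.ext_iff]
    clear e0 emid
    split_ifs <;> first | (exfalso; grind) | (push_cast; norm_num)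

open scoped Classical in
theorem inner_ps_chr {k l : ZMod (2 ^ m)} (hkl : k ≠ l) :
    classInner (D.ps 1 (L.LA.chr (half m))) (D.ps (L.LA.chr k) (L.LA.chr l)) =
      (if k = 0 ∧ l = half m then 1 else 0) + if k = half m ∧ l = 0 then 1 else 0 := by
  have hh := half_ne_zero (m := m) (le_trans (by norm_num) L.two_le)
  have hne : L.LA.chr k ≠ L.LA.chr l := fun h => hkl (L.LA.chr_injective h)
  rw [D.inner_ps _ _ _ _ chr_one_ne_half hne]
  by_cases h1 : k = 0 ∧ l = half m
  · obtain ⟨rfl, rfl⟩ := h1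
    rw [L.LA.chr_zero, if_pos rfl, if_pos ⟨rfl, rfl⟩, if_neg (fun h => hh h.1.symm), add_zero]
  by_cases h2 : k = half m ∧ l = 0
  · obtain ⟨rfl, rfl⟩ := h2
    rw [L.LA.chr_zero, if_neg h1,
      if_pos (show half m = half m ∧ (0 : ZMod (2 ^ m)) = 0 from ⟨rfl, rfl⟩), zero_add, if_pos]
    funext x
    rcases D.classes x with ⟨a, rfl⟩ | ⟨a, ha⟩ | ⟨a, b, hab, ha⟩ | ⟨y, hy, ha⟩
    · rw [D.ps_centre, D.ps_centre]; ring
    all_goals
      obtain ⟨g, rfl⟩ := isConj_iff.1 ha
      have hc : ∀ α β : A →* ℂˣ, α ≠ β → IsClassFunction H (D.ps α β) := fun α β h => by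
        have h' := CharBasic.IsIrr.isClassFunction (D.irr_ps α β h)
        intro x y
        have := h' x y
        simp only [Pi.smul_apply, smul_eq_mul] at this
        exact mul_left_cancel₀ D.sigma_ne this
      rw [hc _ _ chr_one_ne_half _ g, hc _ _ chr_one_ne_half.symm _ g]
    · rw [D.ps_uni, D.ps_uni]; ring
    · rw [D.ps_T _ _ _ _ hab, D.ps_T _ _ _ _ hab]; ring
    · rw [D.ps_S _ _ _ hy, D.ps_S _ _ _ hy]
  rw [if_neg h1, if_neg h2, add_zero, if_neg]
  intro h
  rcases D.ps_eq h with ⟨e1, e2⟩ | ⟨e1, e2⟩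
  · exact h1 ⟨L.LA.chr_injective (e1.symm.trans L.LA.chr_zero.symm), (L.LA.chr_injective e2).symm⟩
  · exact h2 ⟨(L.LA.chr_injective e2).symm, L.LA.chr_injective (e1.symm.trans L.LA.chr_zero.symm)⟩

/-- The principal series. -/
noncomputable def shapePs (k l : ZMod (2 ^ m)) (hkl : k ≠ l) :
    Shape L (D.ps (L.LA.chr k) (L.LA.chr l)) where
  c p := (if p = (k, l) then 1 else 0) + if p = (l, k) then 1 else 0
  d _ := 0
  β w := if w = k + l then 1 else 0
  d_pair _ := rfl
  parity w := by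
    simp only [Prod.ext_iff, ite_and, sum_add_distrib, sum_ite_eq', mem_univ, if_true,
      sum_const_zero, sub_zero]
    simp only [show (w - k = l) ↔ w = k + l from sub_eq_iff_eq_add',
      show (w - l = k) ↔ w = k + l from sub_eq_iff_eq_add]
    split_ifs <;> ring
  onT a b h := by
    rw [D.ps_T _ _ _ _ h, hat₂_add, hat₂_single, hat₂_single]
    simp only [TwoLog.chr_apply, ← ee_add]
    congr 2 <;> ring
  onZ a := by
    rw [D.ps_centre, hat₂_add, hat₂_single, hat₂_single, hat₁_single]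
    simp only [TwoLog.chr_apply, ← ee_add, ← add_mul, add_comm l k]
    ring
  onU a := by
    rw [D.ps_uni, hat₂_add, hat₂_single, hat₂_single, hat₁_single]
    simp only [TwoLog.chr_apply, ← ee_add, ← add_mul, add_comm l k]
    ring
  onS y h := by rw [D.ps_S _ _ _ h]; simp [hat₁]
  co1 j := by
    have hne : L.LA.chr k ≠ L.LA.chr l := fun h => hkl (L.LA.chr_injective h)
    rw [fnA, CharBasic.classInner_add_left, CharBasic.classInner_sub_left,
      D.inner_lin_ps _ _ _ hne, D.inner_st_ps _ _ _ hne,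
      ← CharBasic.classInner_conj_symm (D.ps (L.LA.chr k) (L.LA.chr l)) (D.cu _),
      D.inner_ps_cu _ _ _ hne (moved_rep j), map_zero]
    simp
  co2 := by
    have hne : L.LA.chr k ≠ L.LA.chr l := fun h => hkl (L.LA.chr_injective h)
    rw [fnB, CharBasic.classInner_sub_left, CharBasic.classInner_sub_left,
      CharBasic.classInner_sub_left, D.inner_lin_ps _ _ _ hne, D.inner_lin_ps _ _ _ hne,
      D.inner_st_ps _ _ _ hne, D.inner_st_ps _ _ _ hne]
    simp
  co3 := by
    have hne : L.LA.chr k ≠ L.LA.chr l := fun h => hkl (L.LA.chr_injective h)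
    rw [fnC, CharBasic.classInner_sub_left, CharBasic.classInner_add_left,
      D.inner_lin_ps _ _ _ hne, D.inner_st_ps _ _ _ hne, inner_ps_chr L hkl]
    have hh := half_ne_zero (m := m) (le_trans (by norm_num) L.two_le)
    simp only [Prod.ext_iff]
    split_ifs <;> first | (exfalso; grind) | (push_cast; norm_num)

/-- The cuspidal characters. -/
noncomputable def shapeCu (i : ZMod (2 ^ (m + 1))) (hi : Odd i.val) :
    Shape L (D.cu (L.LB.chr i)) where
  c _ := 0
  d x := -((if x = i then 1 else 0) + if x = frobI m i then 1 else 0)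
  β w := if w = ((i.val : ℕ) : ZMod (2 ^ m)) then 1 else 0
  d_pair x := by
    have hm : 1 ≤ m := le_trans (by norm_num) L.two_le
    rw [add_comm]
    refine congrArg Neg.neg (congrArg₂ (· + ·) (if_congr ⟨fun h => ?_, fun h => ?_⟩ rfl rfl)
      (if_congr ⟨fun h => ?_, fun h => ?_⟩ rfl rfl))
    · rw [← frobI_frobI hm x, h, frobI_frobI hm]
    · rw [h]
    · rw [← frobI_frobI hm x, h]
    · rw [h, frobI_frobI hm]
  parity w := by
    simp only [sum_const_zero, sum_neg_distrib, sum_add_distrib, sum_ite_eq', mem_filter, mem_univ,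
      true_and, cast_frobI]
    simp only [show (((i.val : ℕ) : ZMod (2 ^ m)) = w) ↔ w = ((i.val : ℕ) : ZMod (2 ^ m)) from eq_comm]
    split_ifs <;> ring
  onT a b h := by rw [D.cu_T _ _ _ h]; simp [hat₂]
  onZ a := by rw [D.cu_centre, chr_incl, hat₁_single]; simp [hat₂]
  onU a := by rw [D.cu_uni, chr_incl, hat₁_single]; simp [hat₂]
  onS y h := by
    rw [D.cu_S _ _ h, TwoLog.chr_apply, chr_frob, ← hat₁_single, ← hat₁_single, hat₁, hat₁, hat₁,
      ← Finset.sum_add_distrib, ← Finset.sum_neg_distrib]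
    refine Finset.sum_congr rfl fun x _ => ?_
    push_cast
    ring
  co1 j := by
    classical
    have hm : 1 ≤ m := le_trans (by norm_num) L.two_le
    have hmv := (exists_moved_iff L i).2 hi
    rw [fnA, CharBasic.classInner_add_left, CharBasic.classInner_sub_left,
      D.inner_lin_cu _ _ hmv, D.inner_st_cu _ _ hmv, D.inner_cu _ _ (moved_rep j) hmv]
    have h0 : ∀ x : ZMod (2 ^ (m + 1)), Odd x.val → (0 : ZMod (2 ^ (m + 1))) ≠ x := fun x hx e => by
      rw [← e, ZMod.val_zero] at hx; exact absurd hx (by decide)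
    have hif : Odd (frobI m i).val := by
      by_contra he
      have h := frobI_of_even he
      rw [frobI_frobI hm] at h
      rw [← h] at he
      exact he hi
    have hne : i ≠ frobI m i := fun e => mid_ne_zero' m (by
      rw [frobI_of_odd hi] at e; exact left_eq_add.1 e)
    have hiff : D.cu (L.LB.chr (rep m j)) = D.cu (L.LB.chr i) ↔
        rep m j = i ∨ rep m j = frobI m i := by
      constructor
      · intro h
        rcases D.cu_eq h with e | e
        · exact Or.inl (L.LB.chr_injective e)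
        · right
          refine L.LB.chr_injective (MonoidHom.ext fun y => Units.ext ?_)
          rw [e y, chr_frob, TwoLog.chr_apply]
      · rintro (h | h)
        · rw [h]
        funext x
        have hq : ∀ y, (L.LB.chr i ((y ^ Q) ^ Q) : ℂ) = L.LB.chr i y := fun y => by
          rw [chr_frob, L.frob, TwoLog.chr_apply]
          congr 1
          rw [frobI_eq]
          push_cast
          rw [ZMod.natCast_zmod_val]
          linear_combination i * L.LB.l y * (two_pow_succ_eq_zero m + sq_pow_eq_zero hm)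
        have hy : ∀ y, (L.LB.chr (rep m j) y : ℂ) = L.LB.chr i (y ^ Q) := fun y => by
          rw [chr_frob, h, TwoLog.chr_apply]
        have hcl : ∀ θ : B →* ℂˣ, (∃ y, θ (y ^ Q) ≠ θ y) → IsClassFunction H (D.cu θ) := fun θ h => by
          have h' := CharBasic.IsIrr.isClassFunction (D.irr_cu θ h)
          intro x y
          have := h' x y
          simp only [Pi.smul_apply, smul_eq_mul] at this
          exact mul_left_cancel₀ D.sigma_ne this
        rcases D.classes x with ⟨a, rfl⟩ | ⟨a, ha⟩ | ⟨a, b, hab, ha⟩ | ⟨y, hy', ha⟩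
        · rw [D.cu_centre, D.cu_centre, hy, D.frob_incl]
        all_goals
          obtain ⟨g, rfl⟩ := isConj_iff.1 ha
          rw [hcl _ (moved_rep j) _ g, hcl _ hmv _ g]
        · rw [D.cu_uni, D.cu_uni, hy, D.frob_incl]
        · rw [D.cu_T _ _ _ hab, D.cu_T _ _ _ hab]
        · rw [D.cu_S _ _ hy', D.cu_S _ _ hy', hy, hy, hq]; ring
    rw [if_neg (h0 i hi), if_neg (h0 _ hif)]
    simp only [hiff]
    by_cases h1 : rep m j = i
    · simp [h1, hne]
    · by_cases h2 : rep m j = frobI m i <;> simp [h1, h2, hne.symm]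
  co2 := by
    have hm : 1 ≤ m := le_trans (by norm_num) L.two_le
    have hmv := (exists_moved_iff L i).2 hi
    rw [fnB, CharBasic.classInner_sub_left, CharBasic.classInner_sub_left,
      CharBasic.classInner_sub_left, D.inner_lin_cu _ _ hmv, D.inner_lin_cu _ _ hmv,
      D.inner_st_cu _ _ hmv, D.inner_st_cu _ _ hmv]
    have hev : ¬ Odd ((2 ^ m : ℕ) : ZMod (2 ^ (m + 1))).val := by
      rw [ZMod.val_natCast_of_lt (Nat.pow_lt_pow_right (by norm_num) (by omega)),
        Nat.not_odd_iff_even]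
      exact Nat.even_pow.2 ⟨even_two, by omega⟩
    have hif : Odd (frobI m i).val := by
      by_contra he
      have h := frobI_of_even he
      rw [frobI_frobI hm] at h
      rw [← h] at he
      exact he hi
    have h0 : ∀ x : ZMod (2 ^ (m + 1)), Odd x.val → (0 : ZMod (2 ^ (m + 1))) ≠ x := fun x hx e => by
      rw [← e, ZMod.val_zero] at hx; exact absurd hx (by decide)
    rw [if_neg (h0 i hi), if_neg (h0 _ hif),
      if_neg (fun e : ((2 ^ m : ℕ) : ZMod (2 ^ (m + 1))) = i => hev (e ▸ hi)),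
      if_neg (fun e : ((2 ^ m : ℕ) : ZMod (2 ^ (m + 1))) = frobI m i => hev (e ▸ hif))]
    simp
  co3 := by
    have hm : 1 ≤ m := le_trans (by norm_num) L.two_le
    have hmv := (exists_moved_iff L i).2 hi
    rw [fnC, CharBasic.classInner_sub_left, CharBasic.classInner_add_left,
      D.inner_lin_cu _ _ hmv, D.inner_st_cu _ _ hmv, D.inner_ps_cu _ _ _ chr_one_ne_half hmv]
    have hev : ¬ Odd ((2 ^ m : ℕ) : ZMod (2 ^ (m + 1))).val := by
      rw [ZMod.val_natCast_of_lt (Nat.pow_lt_pow_right (by norm_num) (by omega)),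
        Nat.not_odd_iff_even]
      exact Nat.even_pow.2 ⟨even_two, by omega⟩
    have hif : Odd (frobI m i).val := by
      by_contra he
      have h := frobI_of_even he
      rw [frobI_frobI hm] at h
      rw [← h] at he
      exact he hi
    have h0 : ∀ x : ZMod (2 ^ (m + 1)), Odd x.val → (0 : ZMod (2 ^ (m + 1))) ≠ x := fun x hx e => by
      rw [← e, ZMod.val_zero] at hx; exact absurd hx (by decide)
    rw [if_neg (h0 i hi), if_neg (h0 _ hif),
      if_neg (fun e : ((2 ^ m : ℕ) : ZMod (2 ^ (m + 1))) = i => hev (e ▸ hi)),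
      if_neg (fun e : ((2 ^ m : ℕ) : ZMod (2 ^ (m + 1))) = frobI m i => hev (e ▸ hif))]
    simp

/-- Every principal character has vectors. -/
theorem exists_shape {M : Ideal AlgInt} (hM : IsPModular 2 M) (ψ : IrrCharacter H)
    (hψ : ψ ∈ principalBlock M H) : Nonempty (Shape L (ψ : H → ℂ)) := by
  rcases (D.block M hM ψ).1 hψ with ⟨α, hα, e⟩ | ⟨α, hα, e⟩ | ⟨α, β, hα, hβ, hne, e⟩ |
    ⟨θ, hθ, hmv, e⟩ <;> rw [e]
  · obtain ⟨k, rfl⟩ := L.LA.exists_chr hα
    exact ⟨shapeLin L k⟩
  · obtain ⟨k, rfl⟩ := L.LA.exists_chr hα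
    exact ⟨(shapeSt L k).smul D.σ⟩
  · obtain ⟨k, rfl⟩ := L.LA.exists_chr hα
    obtain ⟨l, rfl⟩ := L.LA.exists_chr hβ
    exact ⟨(shapePs L k l fun h => hne (h ▸ rfl)).smul D.σ⟩
  · obtain ⟨i, rfl⟩ := L.LB.exists_chr hθ
    exact ⟨(shapeCu L i ((exists_moved_iff L i).1 hmv)).smul D.σ⟩

end Cfsg.Agent.H84.WR
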